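import Cfsg.Agent.Omega.KL.TwoZ.Inp

/-!
# Two natural blocks without field automorphisms (helper918 TEXT W2 #24006 (0)): the frame `FrN` over `TwoZ.Fr`

* `FrN` : `[V i, T] ≤ Z i`, (0.2) in the form `Stab_{C_i}(m Z_i) = C_{C_i}(m)`, all minimal parabolics of `C_j` which move
  `Z i` do the same on `Z i`;
* `NP Z i = N_i Z_i`; `XX V Z i = W_i N_i`;
* `FrN.lem0` : LEMMA 0 (#19092) : a normal subgroup of `C_i` with a 2-subgroup moving `N_i` is transitive enough;
* `FrN.no_t` : (NO) on `N_i Z_i / Z_i`; **`FrN.k3`** : (K3); `FrN.mem_HH` : `C_G(V i) T = {c ∈ C_i : [V i, c] ≤ Z i}`.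
-/

set_option autoImplicit false
set_option linter.unusedSectionVars false
set_option linter.unusedVariables false

namespace Cfsg.Agent.Omega.KL.TwoZ

open Subgroup Cfsg Cfsg.Agent.Omega.MinPar
open Cfsg.Agent.ZN (o2 zc)
open Cfsg.Agent.Omega.OM.KTwo (ne_add_one eq_add_one add_one_add_one le_normalizer_V le_V exists_mul_of_mem_sup)
open Cfsg.Agent.MinSimple.MinParabolic (IsMinPar)
open Cfsg.Agent.Omega.NoFF.Basic (conj_conj mem_conj conj_le_iff comm_symm comm_mono Z_le_V V_le)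
open Cfsg.Agent.Omega.NOThreeL.Pair (conj_eq_of_mem conj_le_normalizer)
open Cfsg.Agent.Omega.NoFF.ThmJFam (card_sup_inf card_conj conj_cent conj_inf)
open Cfsg.Agent.ZN.ChoiceSit (Syl exists_syl syl_conj o2_le_syl syl_not_dvd)
open Cfsg.Agent.MinSimple.VModule (mem_zc zc_le normalizer_le_normalizer_zc le_o2
  o2_isPGroup o2_le zc_le_centralizer le_centralizer_zc le_normalizer_o2 oddGen oddGen_def)
open Cfsg.Agent.Omega.TC (kgroup_mono)
open Cfsg.Agent.Omega.TC.LemZ (card_eq le_norm_of norm_cent norm_inf)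
open Cfsg.Agent.Omega.KL.TwoS (Mx comm_of_sq sq_sup relIndex_le_of_sup sup_of_relIndex_le relIndex_pos relIndex_mono
  relIndex_anti relIndex_split)
open scoped Pointwise

universe u

variable {G : Type u} [Group G]

/-- the frame of TEXT W2 (two natural blocks, no field automorphisms) -/
structure FrN [Finite G] (T : Subgroup G) (V Z : Fin 2 → Subgroup G) : Prop extends Fr T V Z where
  com : ∀ i, ∀ w ∈ V i, ∀ t ∈ T, t * w * t⁻¹ * w⁻¹ ∈ Z i
  sep : ∀ i, ∀ c ∈ centralizer (Z i : Set G), ∀ m ∈ Z (i + 1), c * m * c⁻¹ * m⁻¹ ∈ Z i → c * m * c⁻¹ = m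
  same : ∀ i j, i ≠ j → ∀ R : Subgroup G, IsMinPar T R → R ≤ centralizer (Z j : Set G) →
    ¬ R ≤ centralizer (Z i : Set G) → ∀ R' : Subgroup G, IsMinPar T R' → R' ≤ centralizer (Z j : Set G) →
    ¬ R' ≤ centralizer (Z i : Set G) → ∀ r' ∈ R', ∃ r ∈ R, ∀ z ∈ Z i, r' * z * r'⁻¹ = r * z * r⁻¹

/-- `N_i Z_i` -/
abbrev NP (Z : Fin 2 → Subgroup G) (i : Fin 2) : Subgroup G := NN Z i ⊔ Z i

/-- `X_i = W_i N_i` -/
abbrev XX (V Z : Fin 2 → Subgroup G) (i : Fin 2) : Subgroup G := WW V Z i ⊔ NN Z i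

/-- `{x ∈ W | [x, A] ≤ Y}` for an abelian `W` and a `Y` centralised by `A` and `W` -/
def tl (W Y : Subgroup G) (A : Subgroup G) (hW : ∀ x ∈ W, ∀ y ∈ Y, x * y = y * x)
    (hA : ∀ a ∈ A, ∀ y ∈ Y, a * y = y * a) : Subgroup G where
  carrier := {x | x ∈ W ∧ ∀ a ∈ A, a * x * a⁻¹ * x⁻¹ ∈ Y}
  one_mem' := ⟨one_mem _, fun a _ => by simp⟩
  mul_mem' := by
    rintro x y ⟨hx, hx'⟩ ⟨hy, hy'⟩
    refine ⟨mul_mem hx hy, fun a ha => ?_⟩
    have h1 := hW x hx _ (hy' a ha)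
    have e : a * (x * y) * a⁻¹ * (x * y)⁻¹ = (a * x * a⁻¹) * (a * y * a⁻¹ * y⁻¹) * x⁻¹ := by group
    have e2 : (a * x * a⁻¹) * (a * y * a⁻¹ * y⁻¹) * x⁻¹ = (a * x * a⁻¹ * x⁻¹) * (a * y * a⁻¹ * y⁻¹) := by
      calc (a * x * a⁻¹) * (a * y * a⁻¹ * y⁻¹) * x⁻¹ = (a * x * a⁻¹ * x⁻¹) * (x * (a * y * a⁻¹ * y⁻¹)) * x⁻¹ := by group
        _ = (a * x * a⁻¹ * x⁻¹) * (a * y * a⁻¹ * y⁻¹) := by rw [h1]; group
    rw [e, e2]
    exact mul_mem (hx' a ha) (hy' a ha)
  inv_mem' := by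
    rintro x ⟨hx, hx'⟩
    refine ⟨inv_mem hx, fun a ha => ?_⟩
    have h1 := inv_mem (hx' a ha)
    have h2 := hW x hx _ h1
    have e : a * x⁻¹ * a⁻¹ * x⁻¹⁻¹ = x⁻¹ * ((a * x * a⁻¹ * x⁻¹)⁻¹ * x) := by group
    rw [e, ← h2, inv_mul_cancel_left]
    exact h1

namespace FrN

variable [Finite G] {T : Subgroup G} {V Z : Fin 2 → Subgroup G} (D : FrN T V Z)

include D

/-! ### Easy facts -/

theorem Z_cent_C (i : Fin 2) {c z : G} (hc : c ∈ CC Z i) (hz : z ∈ Z i) : c * z = z * c :=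
  (mem_centralizer_iff.1 hc z hz).symm

theorem Z_le_X (i : Fin 2) : Z i ≤ XX V Z i := ((D.ZV i).trans (le_V _ _)).trans le_sup_left

theorem NP_le_X (i : Fin 2) : NP Z i ≤ XX V Z i := sup_le le_sup_right (D.Z_le_X i)

theorem X_le_C (i : Fin 2) : XX V Z i ≤ CC Z i := ((D.X_facts i).1.trans (D.Q_le_T i)).trans (D.T_le_C i)

theorem X_sq (i : Fin 2) : ∀ x ∈ XX V Z i, x ^ 2 = 1 := (D.X_facts i).2.1

theorem X_comm (i : Fin 2) {x y : G} (hx : x ∈ XX V Z i) (hy : y ∈ XX V Z i) : x * y = y * x :=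
  mem_centralizer_iff.1 (comm_of_sq (D.X_sq i) hy) x hx

theorem C_norm_X (i : Fin 2) : CC Z i ≤ normalizer (XX V Z i : Set G) := (D.X_facts i).2.2.1

theorem C_norm_Z (i : Fin 2) : CC Z i ≤ normalizer (Z i : Set G) := centralizer_le_normalizer _

theorem norm_sup' {C A B : Subgroup G} (hA : C ≤ normalizer (A : Set G)) (hB : C ≤ normalizer (B : Set G)) :
    C ≤ normalizer ((A ⊔ B : Subgroup G) : Set G) := by
  intro c hc
  have e1 : MulAut.conj c • A = A := conj_eq_of_mem (hA hc)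
  have e2 : MulAut.conj c • B = B := conj_eq_of_mem (hB hc)
  have e3 : MulAut.conj c • (A ⊔ B) = A ⊔ B := by rw [Subgroup.smul_sup, e1, e2]
  rw [mem_normalizer_iff]
  intro x
  have e4 : c⁻¹ * (c * x * c⁻¹) * c = x := by group
  constructor
  · intro h
    rw [← e3, mem_conj, e4]
    exact h
  · intro h
    rw [← e3, mem_conj, e4] at h
    exact h

theorem C_norm_NP (i : Fin 2) : CC Z i ≤ normalizer (NP Z i : Set G) :=
  D.norm_sup' (le_normalizer_V _ _) (D.C_norm_Z i)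

/-- (0.2) for the conjugates -/
theorem sep' (i : Fin 2) {c l m : G} (hc : c ∈ CC Z i) (hl : l ∈ CC Z i) (hm : m ∈ Z (i + 1))
    (h : c * (l * m * l⁻¹) * c⁻¹ * (l * m * l⁻¹)⁻¹ ∈ Z i) : c * (l * m * l⁻¹) * c⁻¹ = l * m * l⁻¹ := by
  have h1 := D.sep i (l⁻¹ * c * l) (mul_mem (mul_mem (inv_mem hl) hc) hl) m hm (by
    have e : l⁻¹ * c * l * m * (l⁻¹ * c * l)⁻¹ * m⁻¹ = l⁻¹ * (c * (l * m * l⁻¹) * c⁻¹ * (l * m * l⁻¹)⁻¹) * l := by group
    rw [e, mul_assoc, ← D.Z_cent_C i hl h, inv_mul_cancel_left]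
    exact h)
  calc c * (l * m * l⁻¹) * c⁻¹ = l * (l⁻¹ * c * l * m * (l⁻¹ * c * l)⁻¹) * l⁻¹ := by group
    _ = l * m * l⁻¹ := by rw [h1]

/-- an element of `C_i` which centralises `⟨Z (i+1)^L⟩ Z_i / Z_i` centralises `⟨Z (i+1)^L⟩` -/
theorem cent_of_mod {i : Fin 2} {L : Subgroup G} (hL : L ≤ CC Z i) {c : G} (hc : c ∈ CC Z i)
    (h : ∀ l ∈ L, ∀ m ∈ Z (i + 1), c * (l * m * l⁻¹) * c⁻¹ * (l * m * l⁻¹)⁻¹ ∈ Z i) :
    c ∈ centralizer (NH Z i L : Set G) := by
  have h1 : NH Z i L ≤ centralizer ({c} : Set G) := by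
    refine V_le fun l hl z hz => ?_
    rw [mem_conj] at hz
    have h2 := D.sep' i hc (hL hl) hz (h l hl _ hz)
    have e : l * (l⁻¹ * z * l) * l⁻¹ = z := by group
    rw [e] at h2
    rw [mem_centralizer_singleton_iff]
    have h3 := eq_mul_of_mul_inv_eq h2
    exact h3.symm
  rw [mem_centralizer_iff]
  exact fun x hx => mem_centralizer_singleton_iff.1 (h1 hx)

/-! ### LEMMA 0 -/

/-- **LEMMA 0** -/
theorem lem0 {i : Fin 2} {K A : Subgroup G} (hK : K ≤ CC Z i) (hn : CC Z i ≤ normalizer (K : Set G)) (hAK : A ≤ K)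
    (hA : IsPGroup 2 A) (hm : ¬ A ≤ centralizer (NN Z i : Set G)) : NN Z i ≤ NH Z i K := by
  have hji := (ne_add_one i).symm
  have hKT : K ⊔ T ≤ CC Z i := sup_le hK (D.T_le_C i)
  obtain ⟨R, hR, hRK, hRm⟩ : ∃ R : Subgroup G, IsMinPar T R ∧ R ≤ K ⊔ T ∧ ¬ R ≤ CC Z (i + 1) := by
    by_contra hc
    push Not at hc
    have h1 : K ⊔ T ≤ normalizer (Z (i + 1) : Set G) := by
      refine MinSimple.MinParabolic.le_of_forall le_sup_right ?_ fun R hR hRK =>
        (hc R hR hRK).trans (centralizer_le_normalizer _)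
      exact ((inf_le_inf_right _ hKT).trans (D.nT i)).trans (inf_le_left.trans inf_le_left)
    apply hm
    refine comm_symm (V_le fun c hc' => ?_)
    -- `A ^ c` lies in a conjugate of `T` under `K T`
    have h2 : MulAut.conj c⁻¹ • A ≤ K ⊔ T := by
      refine le_trans ?_ le_sup_left
      have e : MulAut.conj c⁻¹ • K = K := conj_eq_of_mem (hn (inv_mem hc'))
      rw [← e]
      exact conj_le_iff.2 hAK
    obtain ⟨S, hS, hAS⟩ := exists_syl (hA.map (MulAut.conj c⁻¹).toMonoidHom) h2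
    have hT : Syl T (K ⊔ T) := ⟨le_sup_right, D.T_isPGroup, fun R' hR' hR2 hTR => (D.syl i).2.2 R' (hR'.trans hKT) hR2 hTR⟩
    obtain ⟨x, hx, hxT⟩ := syl_conj hT hS
    have h3 : MulAut.conj c⁻¹ • A ≤ centralizer (Z (i + 1) : Set G) := by
      refine le_trans (b := MulAut.conj x • T) ?_ ?_
      · intro a ha
        have h4 := hAS ha
        rw [← hxT] at h4
        exact h4
      · have e : MulAut.conj x • Z (i + 1) = Z (i + 1) := conj_eq_of_mem (h1 hx)
        rw [← e, ← conj_cent]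
        exact conj_le_iff.2 (D.T_le_C (i + 1))
    have h5 := conj_le_iff (g := c) |>.2 (comm_symm h3)
    rwa [conj_cent, conj_conj, mul_inv_cancel, map_one, one_smul] at h5
  have hgen : CC Z i ≤ K ⊔ (CC Z i ⊓ normalizer (Z (i + 1) : Set G)) := by
    refine MinSimple.MinParabolic.le_of_forall (D.T_le_C i) ?_ fun R' hR' hR'C => ?_
    · exact le_trans (le_inf inf_le_left ((D.nT i).trans (inf_le_left.trans inf_le_left))) le_sup_right
    · by_cases hR'm : R' ≤ CC Z (i + 1)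
      · exact le_trans (le_inf hR'C (hR'm.trans (centralizer_le_normalizer _))) le_sup_right
      · intro r' hr'
        obtain ⟨r, hr, he⟩ := D.same (i + 1) i hji R hR (hRK.trans hKT) hRm R' hR' hR'C hR'm r' hr'
        have h2 : r⁻¹ * r' ∈ CC Z i ⊓ normalizer (Z (i + 1) : Set G) := by
          refine ⟨(CC Z i).mul_mem ((CC Z i).inv_mem (hKT (hRK hr))) (hR'C hr'), ?_⟩
          apply centralizer_le_normalizer
          rw [mem_centralizer_iff]
          intro z hz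
          have h3 := he z hz
          calc z * (r⁻¹ * r') = r⁻¹ * (r * z * r⁻¹) * r' := by group
            _ = r⁻¹ * (r' * z * r'⁻¹) * r' := by rw [h3]
            _ = r⁻¹ * r' * z := by group
        have e : r' = r * (r⁻¹ * r') := by group
        rw [e]
        refine mul_mem (?_ : r ∈ _) (mem_sup_right h2)
        have h4 : K ⊔ T ≤ K ⊔ (CC Z i ⊓ normalizer (Z (i + 1) : Set G)) :=
          sup_le_sup_left (le_inf (D.T_le_C i) ((D.T_le_C (i + 1)).trans (centralizer_le_normalizer _))) _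
        exact h4 (hRK hr)
  refine V_le_of (le_V _ _) (hgen.trans (sup_le (le_normalizer_V _ _) ?_))
  exact norm_V inf_le_right (inf_le_left.trans hn)

/-! ### (NO) on `N_i Z_i / Z_i`, (K3) -/

theorem cNP (i : Fin 2) : ∀ x ∈ NP Z i, ∀ y ∈ Z i, x * y = y * x := fun x hx y hy =>
  D.Z_cent_C i ((D.X_le_C i) (D.NP_le_X i hx)) hy

/-- `{x ∈ N_i Z_i : [x, A] ≤ Z_i}` -/
abbrev tN (i : Fin 2) {A : Subgroup G} (hA : A ≤ CC Z i) : Subgroup G :=
  tl (NP Z i) (Z i) A (D.cNP i) fun _ ha _ hy => D.Z_cent_C i (hA ha) hy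

/-- **(NO)** on `N_i Z_i / Z_i` -/
theorem no_t (hML : ML.Final.MLK.{u, u}) {i : Fin 2} {A : Subgroup G} (hK : IsKGroup (CC Z i))
    (hA : A ≤ o2 (centralizer (zc T : Set G))) (hA2 : ∀ a ∈ A, a ^ 2 = 1) :
    (centralizer (NN Z i : Set G)).relIndex A ≤ (D.tN i ((hA.trans D.O_le_T).trans (D.T_le_C i))).relIndex (NP Z i) := by
  have hAC : A ≤ CC Z i := (hA.trans D.O_le_T).trans (D.T_le_C i)
  obtain ⟨w, hw, hw1⟩ : ∃ w ∈ Z (i + 1), w ≠ 1 := by
    by_contra hc
    push Not at hc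
    exact D.ne (i + 1) (eq_bot_iff.2 fun x hx => mem_bot.2 (hc x hx))
  set W : Subgroup G := NoFF.Basic.V (zpowers w) (CC Z i) with hW
  set WP : Subgroup G := W ⊔ Z i with hWP
  have hwW : w ∈ W := le_V _ _ (mem_zpowers w)
  have hCW : CC Z i ≤ normalizer (W : Set G) := le_normalizer_V _ _
  have hWN : W ≤ NN Z i := V_le_of ((zpowers_le.2 hw).trans (le_V _ _)) (le_normalizer_V _ _)
  have hWPN : WP ≤ NP Z i := sup_le_sup_right hWN _
  have hcW : ∀ x ∈ WP, ∀ y ∈ Z i, x * y = y * x := fun x hx y hy => D.cNP i x (hWPN hx) y hy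
  have hst : ∀ g ∈ CC Z i, g * w * g⁻¹ * w⁻¹ ∈ Z i →
      g ∈ normalizer ((centralizer (zc T : Set G) : Subgroup G) : Set G) := by
    intro g hg h
    have h1 := D.sep i g hg w hw h
    have h2 : g ∈ centralizer ({w} : Set G) := by
      rw [mem_centralizer_singleton_iff]
      calc g * w = (g * w * g⁻¹) * g := by group
        _ = w * g := by rw [h1]
    exact D.norm_D i ⟨hg, D.sti hw hw1 ⟨hg, h2⟩⟩
  have hker : A ⊓ centralizer (W : Set G) ≤ centralizer (NN Z i : Set G) := by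
    -- as in `no_H`
    set H₁ : Subgroup G := CC Z i ⊓ centralizer ({w} : Set G) with hH₁
    have hTH₁ : T ≤ H₁ := le_inf (D.T_le_C i) ((D.T_le_C (i + 1)).trans (centralizer_le (Set.singleton_subset_iff.2 hw)))
    have h1 : A ≤ o2 H₁ := by
      have h2 : o2 (centralizer (zc T : Set G)) ⊓ H₁ ≤ o2 H₁ := by
        refine le_o2 inf_le_right ((o2_isPGroup _).to_le inf_le_left) ?_
        refine le_norm_of fun g hg q hq => ?_
        have h3 : g ∈ normalizer ((o2 (centralizer (zc T : Set G)) : Subgroup G) : Set G) :=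
          norm_o2_of (D.norm_D i ⟨hg.1, D.sti hw hw1 hg⟩)
        exact ⟨(mem_normalizer_iff.1 h3 q).1 hq.1, H₁.mul_mem (H₁.mul_mem hg hq.2) (H₁.inv_mem hg)⟩
      exact (le_inf hA ((hA.trans D.O_le_T).trans hTH₁)).trans h2
    have h2 := GenTool.o2_inf_le (L := CC Z i) (N := CC Z i ⊓ centralizer (W : Set G)) (R := H₁) inf_le_left
      (fun g hg x hx => ⟨(CC Z i).mul_mem ((CC Z i).mul_mem hg hx.1) ((CC Z i).inv_mem hg),
        (mem_normalizer_iff.1 (norm_cent hCW hg) x).1 hx.2⟩)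
      (le_inf inf_le_left (inf_le_right.trans (centralizer_le (Set.singleton_subset_iff.2 hwW))))
    exact ((le_inf (inf_le_left.trans h1) (le_inf (inf_le_left.trans hAC) inf_le_right)).trans h2).trans (D.Q_le_cent_N i)
  -- an element of `C_i` trivial on `W Z_i / Z_i` centralises `W`
  have hmod : ∀ a ∈ CC Z i, (∀ x ∈ WP, a * x * a⁻¹ * x⁻¹ ∈ Z i) → a ∈ centralizer (W : Set G) := by
    intro a ha h
    have h1 : W ≤ centralizer ({a} : Set G) := by
      refine V_le fun l hl z hz => ?_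
      rw [mem_conj] at hz
      obtain ⟨n, hn⟩ := mem_zpowers_iff.1 hz
      have hz2 : l⁻¹ * z * l ∈ Z (i + 1) := by
        rw [← hn]; exact zpow_mem hw n
      have hz3 : z ∈ W := by
        have := (mem_normalizer_iff.1 (hCW hl) _).1 ((zpowers_le.2 hwW) (by rw [← hn]; exact ⟨n, rfl⟩ :
          l⁻¹ * z * l ∈ zpowers w))
        have e : l * (l⁻¹ * z * l) * l⁻¹ = z := by group
        rwa [e] at this
      have e : l * (l⁻¹ * z * l) * l⁻¹ = z := by group
      have h2 := D.sep' i ha hl hz2 (by rw [e]; exact h z (mem_sup_left hz3))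
      rw [e] at h2
      rw [mem_centralizer_singleton_iff]
      exact (eq_mul_of_mul_inv_eq h2).symm
    rw [mem_centralizer_iff]
    exact fun x hx => mem_centralizer_singleton_iff.1 (h1 hx)
  have hAY : ∀ a ∈ A, ∀ y ∈ Z i, a * y = y * a := fun a ha y hy => D.Z_cent_C i (hAC ha) hy
  have hmain : (A ⊓ centralizer (W : Set G)).relIndex A ≤ (tl WP (Z i) A hcW hAY).relIndex WP := by
    refine hML.grp (C := CC Z i) (W := WP) (Y := Z i) (T := T) (Q := o2 (centralizer (zc T : Set G))) (A := A)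
      (w := w) hK ?_ (KA := A ⊓ centralizer (W : Set G)) (CW := tl WP (Z i) A hcW hAY) ?_ ?_
    · refine ⟨D.norm_sup' hCW (D.C_norm_Z i), D.C_norm_Z i, le_sup_right, ?_, ?_, mem_sup_left hwW, ?_, D.T_le_C i,
        D.T_isPGroup, syl_not_dvd (D.syl i), ?_, D.O_le_T.trans (D.T_le_C i), o2_isPGroup _, ?_, ?_, hA, ?_⟩
      · exact (hWPN.trans (D.NP_le_X i)).trans ((D.X_le_C i).trans (D.C_norm_Z i))
      · intro x hx
        have h1 := D.X_sq i x (D.NP_le_X i (hWPN hx))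
        rw [pow_two] at h1
        rw [h1]
        exact one_mem _
      · intro U hU hYU hHU
        exact sup_le (V_le_of (zpowers_le.2 hU) hHU) hYU
      · intro t ht
        have h1 := mem_centralizer_iff.1 (D.T_le_C (i + 1) ht) w hw
        rw [← h1, mul_inv_cancel_right, mul_inv_cancel]
        exact one_mem _
      · intro q hq
        have h1 := mem_centralizer_iff.1 (D.cent_zc_le (i + 1) (o2_le _ hq)) w hw
        rw [← h1, mul_inv_cancel_right, mul_inv_cancel]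
        exact one_mem _
      · intro g hg hgY q hq
        exact (mem_normalizer_iff.1 (norm_o2_of (hst g hg hgY)) q).1 hq
      · intro a ha x _
        have h1 : a * a = 1 := by rw [← pow_two]; exact hA2 a ha
        have e : a * (a * x * a⁻¹) * a⁻¹ * x⁻¹ = (a * a) * x * (a * a)⁻¹ * x⁻¹ := by group
        rw [e, h1]
        simp
    · intro a
      constructor
      · rintro ⟨h1, h2⟩
        refine ⟨h1, fun x hx => ?_⟩
        obtain ⟨x1, hx1, z, hz, rfl⟩ := exists_mul_of_mem_sup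
          ((((D.Z_le_X i).trans (D.X_le_C i)).trans hCW)) hx
        have h3 := mem_centralizer_iff.1 h2 x1 hx1
        have h4 := hAY a h1 z hz
        have e : a * (x1 * z) * a⁻¹ * (x1 * z)⁻¹ = 1 := by
          calc a * (x1 * z) * a⁻¹ * (x1 * z)⁻¹ = (a * x1) * z * a⁻¹ * (x1 * z)⁻¹ := by group
            _ = x1 * (a * z) * a⁻¹ * (x1 * z)⁻¹ := by rw [← h3]; group
            _ = 1 := by rw [h4]; group
        rw [e]
        exact one_mem _
      · rintro ⟨h1, h2⟩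
        exact ⟨h1, hmod a (hAC h1) h2⟩
    · intro x
      exact Iff.rfl
  rw [inf_relIndex_left] at hmain
  have h1 : (centralizer (NN Z i : Set G)).relIndex A ≤ (centralizer (W : Set G)).relIndex A := by
    rw [← inf_relIndex_left A (centralizer (W : Set G))]
    exact relIndex_anti hker
  refine h1.trans (hmain.trans ?_)
  have h2 : (tl WP (Z i) A hcW hAY).relIndex WP = (D.tN i hAC).relIndex WP := by
    have e : (tl WP (Z i) A hcW hAY) ⊓ WP = D.tN i hAC ⊓ WP := by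
      ext x
      constructor
      · rintro ⟨⟨h3, h4⟩, h5⟩
        exact ⟨⟨hWPN h3, h4⟩, h5⟩
      · rintro ⟨⟨h3, h4⟩, h5⟩
        exact ⟨⟨h5, h4⟩, h5⟩
    rw [← inf_relIndex_right, e, inf_relIndex_right]
  rw [h2]
  exact relIndex_mono hWPN

/-- **(K3)** : `B ≤ O` exact on `N_i`, `n ∈ N_i Z_i`, `[n, B] ≤ Z_i` ⟹ `[n, B] = 1` -/
theorem k3 (hML : ML.Final.MLK.{u, u}) {i : Fin 2} {B : Subgroup G} (hK : IsKGroup (CC Z i))
    (hB : B ≤ o2 (centralizer (zc T : Set G))) (hB2 : ∀ a ∈ B, a ^ 2 = 1)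
    (he : (centralizer (B : Set G)).relIndex (NN Z i) ≤ (centralizer (NN Z i : Set G)).relIndex B) :
    D.tN i ((hB.trans D.O_le_T).trans (D.T_le_C i)) ≤ centralizer (B : Set G) := by
  have hBC : B ≤ CC Z i := (hB.trans D.O_le_T).trans (D.T_le_C i)
  set t := D.tN i hBC with ht
  have h1 := D.no_t hML hK hB hB2
  have hZB : Z i ≤ centralizer (B : Set G) := comm_symm hBC
  -- `|N_i Z_i : C(B)| = |N_i : C(B)|`
  have hXc : NP Z i ≤ centralizer (NP Z i : Set G) := comm_of_sq fun x hx => D.X_sq i x (D.NP_le_X i hx)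
  have h2 : (centralizer (B : Set G)).relIndex (NP Z i) ≤ (centralizer (B : Set G)).relIndex (NN Z i) :=
    relIndex_le_of_sup le_sup_left hXc (sup_le le_sup_left (le_trans (le_inf le_sup_right hZB) le_sup_right))
  have h3 : NP Z i ⊓ centralizer (B : Set G) ≤ t := by
    rintro x ⟨hx, hx2⟩
    refine ⟨hx, fun a ha => ?_⟩
    rw [mem_centralizer_iff.1 hx2 a ha, mul_inv_cancel_right, mul_inv_cancel]
    exact one_mem _
  have h4 : t ≤ NP Z i := fun x hx => hx.1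
  have h5 : t.relIndex (NP Z i) = (NP Z i ⊓ centralizer (B : Set G)).relIndex (NP Z i) := by
    refine le_antisymm (relIndex_anti h3) ?_
    rw [inf_relIndex_left]
    exact (h2.trans he).trans h1
  have h6 : Nat.card t ≤ Nat.card (NP Z i ⊓ centralizer (B : Set G) : Subgroup G) := by
    have c1 := card_eq (NP Z i) t
    have c2 := card_eq (NP Z i) (NP Z i ⊓ centralizer (B : Set G))
    rw [inf_eq_right.2 h4] at c1
    rw [inf_eq_right.2 inf_le_left, ← h5] at c2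
    rw [c1] at c2
    exact (Nat.eq_of_mul_eq_mul_right (relIndex_pos _ _) c2).le
  rw [← Subgroup.eq_of_le_of_card_ge h3 h6]
  exact inf_le_right

/-- `C_G(V i) T = {c ∈ C_i : [V i, c] ≤ Z i}` -/
theorem mem_HH {i : Fin 2} {c : G} : c ∈ HH T V i ↔ c ∈ CC Z i ∧ ∀ w ∈ V i, c * w * c⁻¹ * w⁻¹ ∈ Z i := by
  have hVC : V i ≤ CC Z i := ((D.VQ i).trans (D.Q_le_T i)).trans (D.T_le_C i)
  let E : Subgroup G :=
    { carrier := {c | c ∈ CC Z i ∧ ∀ w ∈ V i, c * w * c⁻¹ * w⁻¹ ∈ Z i}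
      one_mem' := ⟨one_mem _, fun w _ => by simp⟩
      mul_mem' := by
        rintro a b ⟨ha, ha'⟩ ⟨hb, hb'⟩
        refine ⟨mul_mem ha hb, fun w hw => ?_⟩
        have e : a * b * w * (a * b)⁻¹ * w⁻¹ = (a * (b * w * b⁻¹ * w⁻¹) * a⁻¹) * (a * w * a⁻¹ * w⁻¹) := by group
        rw [e, D.Z_cent_C i ha (hb' w hw), mul_inv_cancel_right]
        exact mul_mem (hb' w hw) (ha' w hw)
      inv_mem' := by
        rintro a ⟨ha, ha'⟩
        refine ⟨inv_mem ha, fun w hw => ?_⟩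
        have e : a⁻¹ * w * a⁻¹⁻¹ * w⁻¹ = a⁻¹ * (a * w * a⁻¹ * w⁻¹)⁻¹ * a := by group
        rw [e, D.Z_cent_C i (inv_mem ha) (inv_mem (ha' w hw)), inv_mul_cancel_right]
        exact inv_mem (ha' w hw) }
  change _ ↔ c ∈ E
  have hTE : T ≤ E := fun t ht => ⟨D.T_le_C i ht, fun w hw => D.com i w hw t ht⟩
  have h1 : HH T V i ≤ E := by
    refine sup_le (fun c hc => ⟨D.cent_V_le i hc, fun w hw => ?_⟩) hTE
    rw [← mem_centralizer_iff.1 hc w hw, mul_inv_cancel_right, mul_inv_cancel]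
    exact one_mem _
  refine ⟨fun h => h1 h, fun h => ?_⟩
  have hS : Syl T E := ⟨hTE, D.T_isPGroup, fun R' hR' hR2 hTR => (D.syl i).2.2 R' (fun x hx => (hR' hx).1) hR2 hTR⟩
  have h2 := Star.Core.oddGen_sup hTE (syl_not_dvd hS)
  rw [← h2] at h
  refine sup_le_sup_right ?_ T h
  rw [oddGen_def, closure_le]
  rintro g ⟨hgE, hgo⟩
  refine mem_centralizer_iff.2 fun w hw => ?_
  have hz := hgE.2 w hw
  set z := g * w * g⁻¹ * w⁻¹ with hzdef
  have hgz : g * z = z * g := D.Z_cent_C i hgE.1 hz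
  have h3 : ∀ n : ℕ, g ^ n * w * (g ^ n)⁻¹ = z ^ n * w := by
    intro n
    induction n with
    | zero => simp
    | succ n ih =>
      have h4 : Commute g (z ^ n) := (show Commute g z from hgz).pow_right n
      calc g ^ (n + 1) * w * (g ^ (n + 1))⁻¹ = g * (g ^ n * w * (g ^ n)⁻¹) * g⁻¹ := by rw [pow_succ']; group
        _ = (g * z ^ n) * w * g⁻¹ := by rw [ih]; group
        _ = z ^ n * (g * w * g⁻¹ * w⁻¹) * w := by rw [h4.eq]; group
        _ = z ^ (n + 1) * w := by rw [← hzdef, pow_succ]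
  have h4 := h3 (orderOf g)
  rw [pow_orderOf_eq_one, one_mul, inv_one, mul_one] at h4
  have h5 : z ^ orderOf g = 1 := by
    have := mul_right_cancel (a := z ^ orderOf g) (b := w) (c := 1) (by rw [← h4, one_mul])
    exact this
  have h6 : z ^ 2 = 1 := D.Z_sq i z hz
  obtain ⟨k, hk⟩ := hgo
  rw [hk, pow_succ, pow_mul, h6, one_pow, one_mul] at h5
  have h7 : g * w * g⁻¹ = w := by
    have h8 : g * w * g⁻¹ * w⁻¹ = 1 := by rw [← hzdef]; exact h5
    exact mul_inv_eq_one.1 h8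
  exact (eq_mul_of_mul_inv_eq h7).symm

end FrN

end Cfsg.Agent.Omega.KL.TwoZ
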