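import Cfsg.Agent.Omega.KL.TwoZ.LineE
import Cfsg.Agent.Omega.KL.TwoZ.LineM
import Cfsg.Agent.Omega.KL.TwoZ.LineK3
import Cfsg.Agent.Omega.KL.GLine.LFG

/-!
# The end: two natural blocks WITH field automorphisms (helper918 #24444 (C)), over `LFrW`

`LFrW.false_of_g3` : (G1) over the lines (`LFr.thmC2`), (4) over the lines (`LFr.inter_natS`), (K3) (`LFr.k3`) and
TEXT W2 (`PTW.false`).
-/

set_option autoImplicit false
set_option linter.unusedSectionVars false

namespace Cfsg.Agent.Omega.KL.TwoZ.Line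

open Subgroup Cfsg Cfsg.Agent.Omega.MinPar
open Cfsg.Agent.ZN (o2 zc)
open Cfsg.Agent.Omega.NOThreeL.RRed (NatS)
open Cfsg.Agent.Omega.KL.TwoS (Mx)
open Cfsg.Agent.Omega.KL.TwoZ (CC)
open Cfsg.Agent.Omega.OM
open scoped Pointwise

universe u

variable {G : Type u} [Group G] [Finite G] {S : Sylow 2 G} {V Z l : Fin 2 → Subgroup G}

namespace LFrW

variable (D : LFrW S V Z l)
include D

/-- **two natural blocks with field automorphisms: contradiction** from (G1) and (G3) -/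
theorem false_of_g3 (hML : ML.Final.MLK.{u, u}) (hK : ∀ i, IsKGroup (CC Z i))
    (hN : ∀ i, ∃ (F : Type) (_ : Field F) (_ : Finite F) (_ : CharP F 2) (P : Subgroup G),
      Nonempty (NatS F (S : Subgroup G) P (V i) (V (i + 1)) (l i)))
    (g1 : PT.ThmC2 l (PT.XW l V))
    (hg3 : ∀ i, ∃ A : Subgroup G, Mx (o2 (centralizer (zc (S : Subgroup G) : Set G))) A ∧ A ≤ TwoZ.QQ Z i ∧
      ¬ A ≤ centralizer (V i : Set G)) : False :=
  D.false_of' hML hK g1 (D.toLFr.inter_natS hML hK hN hg3 fun i _ hB hB2 hBl he =>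
    D.toLFr.k3 hML (hK i) hB hB2 (hBl i) he)

end LFrW

end Cfsg.Agent.Omega.KL.TwoZ.Line
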