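import Cfsg.Agent.Omega.KL.TwoZ.LineF2
import Cfsg.Agent.Omega.KL.TwoZ.LineW
import Cfsg.Agent.Omega.NOThreeL.RRed.NatSOf
import Cfsg.Agent.Omega.BTwo.Avg

/-!
# Two natural blocks WITH field automorphisms: the field `bf` of `LFrW`

**`LFr.bf`** : `C_O(C_S(l 0 l 1))` has `Ω₁ = l 0 l 1`, from (G3) and the coordinates over minimal parabolics.

Step for `i` : `n` lies in `X = (⋂ {A ∈ 𝒜(O) | A ≤ Q_(i+1)}) ∩ C(C_S(V 0 V 1))`, a module for `P_i`; a member of `𝒜(O)` in
`Q_i` which moves `V i` gives `X = V i C_X(A)` (Thompson), so `[X, O²(P_i)] ≤ V i` and averaging over `O²(P_i) C_S(l 0 l 1)`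
gives `y ∈ l i` with `n y ∈ C(O²(P_i))`. The two steps leave `1`, as `C(O²(P_0), O²(P_1))` does not meet `Z 0 Z 1`.
-/

set_option autoImplicit false
set_option linter.unusedSectionVars false
set_option linter.unusedVariables false

namespace Cfsg.Agent.Omega.KL.TwoZ.Line

open Subgroup Cfsg Cfsg.Agent.Omega.MinPar
open Cfsg.Agent.ZN (o2 zc)
open Cfsg.Agent.Omega.OM.KTwo (ne_add_one eq_add_one add_one_add_one le_normalizer_V le_V exists_mul_of_mem_sup)
open Cfsg.Agent.MinSimple.MinParabolic (IsMinPar)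
open Cfsg.Agent.Omega.NoFF.Basic (conj_conj mem_conj conj_le_iff comm_symm)
open Cfsg.Agent.Omega.NOThreeL.Pair (conj_eq_of_mem)
open Cfsg.Agent.Omega.NOThreeL.RRed (NatS)
open Cfsg.Agent.ZN.ChoiceSit (Syl syl_not_dvd o2_le_syl)
open Cfsg.Agent.MinSimple.VModule (mem_zc zc_le o2_isPGroup o2_le le_o2 le_normalizer_o2 le_centralizer_zc oddGen
  le_normalizer_oddGen oddGen_le_of_sup)
open Cfsg.Agent.Omega.TC.LemZ (card_eq norm_cent norm_inf le_norm_of)
open Cfsg.Agent.Omega.KL.TwoS (Mx comm_of_sq)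
open Cfsg.Agent.Omega.KL.TwoZ (CC)
open Cfsg.Agent.Omega.OM
open scoped Pointwise

universe u

variable {G : Type u} [Group G]

namespace LineBf

/-- `T ∩ N` is a Sylow 2-subgroup of the normal subgroup `N`. -/
theorem not_dvd_inf [Finite G] {H T N : Subgroup G} (hTH : T ≤ H) (hTS : ¬ 2 ∣ T.relIndex H)
    (hNH : N ≤ H) (hN : H ≤ normalizer (N : Set G)) : ¬ 2 ∣ (T ⊓ N).relIndex N := by
  rw [inf_comm]
  have hn : (N.subgroupOf H).Normal := normal_subgroupOf_of_le_normalizer hN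
  have h1 : N.relIndex (N ⊔ T) = N.relIndex T := by
    have h := Subgroup.relIndex_sup_left (K := N.subgroupOf H) (H := T.subgroupOf H)
    rw [← Subgroup.subgroupOf_sup hNH hTH, Subgroup.relIndex_subgroupOf (sup_le hNH hTH),
      Subgroup.relIndex_subgroupOf hTH] at h
    exact h
  have h2 := Subgroup.relIndex_mul_relIndex (N ⊓ T) N (N ⊔ T) inf_le_left le_sup_left
  have h3 := Subgroup.relIndex_mul_relIndex (N ⊓ T) T (N ⊔ T) inf_le_right le_sup_right
  have h4 : (N ⊓ T).relIndex T = N.relIndex T := Subgroup.inf_relIndex_right N T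
  rw [h1] at h2
  rw [h4, ← h2, mul_comm] at h3
  have h5 : T.relIndex (N ⊔ T) = (N ⊓ T).relIndex N :=
    Nat.eq_of_mul_eq_mul_right (Nat.pos_of_ne_zero (Subgroup.index_ne_zero_of_finite
      (H := N.subgroupOf T))) h3
  intro h
  have h6 := Subgroup.relIndex_mul_relIndex T (N ⊔ T) H le_sup_right (sup_le hNH hTH)
  exact hTS (h6 ▸ (h5 ▸ h : 2 ∣ T.relIndex (N ⊔ T)).mul_right _)

/-- `{g ∈ P | [X, g] ≤ V}` -/
def LL (P X V : Subgroup G) (hV : P ≤ normalizer (V : Set G)) : Subgroup G where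
  carrier := {g | g ∈ P ∧ ∀ x ∈ X, x⁻¹ * g * x * g⁻¹ ∈ V}
  one_mem' := ⟨one_mem _, fun x _ => by
    have e : x⁻¹ * 1 * x * 1⁻¹ = 1 := by group
    rw [e]
    exact one_mem _⟩
  mul_mem' := by
    rintro g h ⟨hg, hgx⟩ ⟨hh, hhx⟩
    refine ⟨mul_mem hg hh, fun x hx => ?_⟩
    have e : x⁻¹ * (g * h) * x * (g * h)⁻¹ = (x⁻¹ * g * x * g⁻¹) * (g * (x⁻¹ * h * x * h⁻¹) * g⁻¹) := by group
    rw [e]
    exact mul_mem (hgx x hx) ((mem_normalizer_iff.1 (hV hg) _).1 (hhx x hx))
  inv_mem' := by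
    rintro g ⟨hg, hgx⟩
    refine ⟨inv_mem hg, fun x hx => ?_⟩
    have e : x⁻¹ * g⁻¹ * x * g⁻¹⁻¹ = g⁻¹ * (x⁻¹ * g * x * g⁻¹)⁻¹ * g⁻¹⁻¹ := by group
    rw [e]
    exact (mem_normalizer_iff.1 (inv_mem (hV hg)) _).1 (inv_mem (hgx x hx))

theorem LL_norm {P X V : Subgroup G} (hV : P ≤ normalizer (V : Set G)) (hX : P ≤ normalizer (X : Set G)) :
    P ≤ normalizer (LL P X V hV : Set G) := by
  refine le_norm_of ?_
  rintro h hh g ⟨hg, hgx⟩
  refine ⟨mul_mem (mul_mem hh hg) (inv_mem hh), fun x hx => ?_⟩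
  have h1 : h⁻¹ * x * h ∈ X := by
    have := (mem_normalizer_iff.1 (inv_mem (hX hh)) x).1 hx
    rwa [inv_inv] at this
  have e : x⁻¹ * (h * g * h⁻¹) * x * (h * g * h⁻¹)⁻¹ =
      h * ((h⁻¹ * x * h)⁻¹ * g * (h⁻¹ * x * h) * g⁻¹) * h⁻¹ := by group
  rw [e]
  exact (mem_normalizer_iff.1 (hV hh) _).1 (hgx _ h1)

end LineBf

namespace LFr

variable [Finite G] {S : Sylow 2 G} {V Z l : Fin 2 → Subgroup G} (D : LFr S V Z l)
include D

section one

variable {i : Fin 2} {F : Type} [Field F] [Finite F] [CharP F 2] {P : Subgroup G}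
  (N : NatS F (S : Subgroup G) P (V i) (V (i + 1)) (l i))
include N

omit D [Finite F] [CharP F 2] in
theorem natP_le {X : Subgroup G} (h1 : (S : Subgroup G) ≤ X) (h2 : oddGen P ≤ X) : P ≤ X := by
  intro g hg
  obtain ⟨s, hs, h, hh, rfl⟩ := N.exists_odd hg
  exact mul_mem (h1 hs) (h2 hh)

omit [Finite F] [CharP F 2] in
/-- `O₂(P)` centralises `V i` -/
theorem natP_o2 : o2 P ≤ centralizer (V i : Set G) := by
  obtain ⟨z, hz, hz1⟩ := D.exists_ne i
  have hzS := D.Z_cent_S i hz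
  have hoS : o2 P ≤ (S : Subgroup G) := o2_le_syl (D.syl N.SP)
  intro a ha
  refine mem_centralizer_iff.2 fun v hv => ?_
  by_cases hv1 : v = 1
  · rw [hv1, one_mul, mul_one]
  · obtain ⟨h, hh, he⟩ := N.trans hv hv1 (D.ZV i hz) hz1 hzS
    have h1 : h * a * h⁻¹ ∈ o2 P := (mem_normalizer_iff.1 (le_normalizer_o2 _ (N.oddGen_le hh)) a).1 ha
    have h2 := mem_centralizer_iff.1 hzS _ (hoS h1)
    rw [← he] at h2
    have e1 : v * a = h⁻¹ * ((h * v * h⁻¹) * (h * a * h⁻¹)) * h := by group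
    have e2 : a * v = h⁻¹ * ((h * a * h⁻¹) * (h * v * h⁻¹)) * h := by group
    rw [e1, e2, h2]

/-- **one step** -/
theorem bf_step (hP : IsMinPar (S : Subgroup G) P)
    (hAl : ∀ A, Mx (o2 (centralizer (zc (S : Subgroup G) : Set G))) A → ∀ i, A ≤ centralizer (l i : Set G))
    (hj : ∃ A : Subgroup G, Mx (o2 (centralizer (zc (S : Subgroup G) : Set G))) A ∧ A ≤ TwoZ.QQ Z (i + 1))
    (hi : ∃ A : Subgroup G, Mx (o2 (centralizer (zc (S : Subgroup G) : Set G))) A ∧ A ≤ TwoZ.QQ Z i ∧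
      ¬ A ≤ centralizer (V i : Set G))
    {n : G} (hn : n ∈ o2 (centralizer (zc (S : Subgroup G) : Set G))) (hn2 : n ^ 2 = 1)
    (hb : ∀ b ∈ BB S l, b * n = n * b) :
    ∃ y ∈ l i, n * y ∈ o2 (centralizer (zc (S : Subgroup G) : Set G)) ∧ (n * y) ^ 2 = 1 ∧
      (∀ b ∈ BB S l, b * (n * y) = (n * y) * b) ∧ ∀ g ∈ oddGen P, g * (n * y) = (n * y) * g := by
  set O := o2 (centralizer (zc (S : Subgroup G) : Set G)) with hO
  have hfact : Fact (Nat.Prime 2) := ⟨Nat.prime_two⟩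
  have hsyl : Syl (S : Subgroup G) P := D.syl N.SP
  obtain ⟨A, hA, hAQ, hAm⟩ := hi
  obtain ⟨A', hA', hAQ'⟩ := hj
  have hOS : O ≤ (S : Subgroup G) := D.O_le_S
  have hmxB : ∀ B, Mx O B → B ≤ BB S l := fun B hB =>
    le_inf (hB.le.trans hOS) (le_inf (hAl B hB 0) (hAl B hB 1))
  -- `n` lies in all members of `𝒜(O)`
  have hnA : ∀ B, Mx O B → n ∈ B := by
    intro B hB
    have h1 : zpowers n ≤ B := by
      refine hB.le_of_comm (zpowers_le.2 hn) ?_ (zpowers_le.2 ?_)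
      · rintro _ ⟨k, rfl⟩
        show (n ^ k) ^ 2 = 1
        rw [← zpow_natCast, ← zpow_mul, mul_comm, zpow_mul, zpow_natCast, hn2, one_zpow]
      · exact mem_centralizer_iff.2 fun b hb' => hb b (hmxB B hB hb')
    exact h1 (mem_zpowers n)
  have hPC : P ≤ CC Z (i + 1) := natP_le N (D.S_le_C _) (N.odd_le.trans (centralizer_le (D.ZV _)))
  have hPV' : P ≤ normalizer (V (i + 1) : Set G) :=
    natP_le N (D.nV _) (N.odd_le.trans (centralizer_le_normalizer _))
  have hPl' : P ≤ normalizer (l (i + 1) : Set G) :=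
    natP_le N (D.Sl _) (N.odd_le.trans ((centralizer_le (D.lV _)).trans (centralizer_le_normalizer _)))
  -- `E`
  set E : Subgroup G := sInf {B | Mx O B ∧ B ≤ TwoZ.QQ Z (i + 1)} with hE
  have hEA : E ≤ A' := sInf_le ⟨hA', hAQ'⟩
  have hEn : CC Z (i + 1) ≤ normalizer (E : Set G) := by
    refine le_norm_of fun c hc x hx => ?_
    rw [hE, mem_sInf]
    rintro B ⟨hB, hBQ⟩
    have h1 : MulAut.conj c⁻¹ • B ≤ TwoZ.QQ Z (i + 1) := by
      have h2 : MulAut.conj c⁻¹ • TwoZ.QQ Z (i + 1) = TwoZ.QQ Z (i + 1) :=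
        conj_eq_of_mem (le_normalizer_o2 _ (inv_mem hc))
      rw [← h2]
      exact conj_le_iff.2 hBQ
    have h3 := mem_sInf.1 (show x ∈ sInf {B | Mx O B ∧ B ≤ TwoZ.QQ Z (i + 1)} from hx) _
      ⟨hB.conj (h1.trans (D.qq_le_O _)), h1⟩
    rwa [mem_conj, inv_inv] at h3
  have hVi : V i ≤ TwoZ.NN Z (i + 1) := by
    have h1 : V (i + 1 + 1) ≤ TwoZ.NN Z (i + 1) := D.VN (i + 1)
    rwa [PT.add2] at h1
  have hVE : V i ≤ E := by
    refine le_sInf ?_
    rintro B ⟨hB, hBQ⟩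
    refine hB.le_of_comm ((D.VQ i).trans (D.qq_le_O i)) (D.sqV i) ?_
    exact comm_symm ((hBQ.trans (D.Q_cent_TN (i + 1))).trans (centralizer_le hVi))
  -- `C_S(V 0 V 1)` is normal in `P`
  set U : Subgroup G := V i ⊔ V (i + 1) with hU
  have hPU : P ≤ normalizer (U : Set G) := by
    refine le_norm_of fun g hg x hx => ?_
    have h1 : MulAut.conj g • U = U := by
      rw [hU, Subgroup.smul_sup, conj_eq_of_mem (N.nV hg), conj_eq_of_mem (hPV' hg)]
    rw [← h1]
    exact conj_mem hx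
  obtain ⟨z, hz, hz1⟩ := D.exists_ne i
  have hPz : ¬ P ≤ centralizer ({z} : Set G) := N.mvs (D.ZV i hz) hz1
  set Q : Subgroup G := (S : Subgroup G) ⊓ centralizer (U : Set G) with hQ
  have hPQ : P ≤ normalizer (Q : Set G) := by
    refine LE.nrm_of hP hPU fun h => hPz (h.trans (sup_le ?_ ?_))
    · refine inf_le_right.trans (centralizer_le ?_)
      exact Set.singleton_subset_iff.2 (le_sup_left (a := V i) (D.ZV i hz))
    · exact (D.S_le_C i).trans (centralizer_le (Set.singleton_subset_iff.2 hz))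
  have hQB : Q ≤ BB S l := by
    refine le_inf inf_le_left (le_inf ?_ ?_)
    all_goals refine inf_le_right.trans (centralizer_le ?_)
    all_goals rcases PT.eq_or i 0 with e | e
    all_goals rcases PT.eq_or i 1 with e' | e'
    all_goals first
      | exact ((e ▸ D.lV i : l 0 ≤ V i)).trans le_sup_left
      | exact ((e ▸ D.lV (i + 1) : l 0 ≤ V (i + 1))).trans le_sup_right
      | exact ((e' ▸ D.lV i : l 1 ≤ V i)).trans le_sup_left
      | exact ((e' ▸ D.lV (i + 1) : l 1 ≤ V (i + 1))).trans le_sup_right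
  -- the module `X`
  set X : Subgroup G := E ⊓ centralizer (Q : Set G) with hX
  have hPX : P ≤ normalizer (X : Set G) := norm_inf (hPC.trans hEn) (norm_cent hPQ)
  have hXsq : ∀ x ∈ X, x ^ 2 = 1 := fun x hx => hA'.sq x (hEA hx.1)
  have hXO : X ≤ O := (inf_le_left.trans hEA).trans hA'.le
  have hnX : n ∈ X := by
    refine ⟨?_, mem_centralizer_iff.2 fun b hb' => hb b (hQB hb')⟩
    rw [hE]
    exact mem_sInf.2 fun B hB => hnA B hB.1
  have hVX : V i ≤ X := le_inf hVE (comm_symm (inf_le_right.trans (centralizer_le (show V i ≤ U from le_sup_left))))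
  have hXc : X ≤ centralizer (X : Set G) := comm_of_sq hXsq
  -- Thompson
  have hAV' : A ≤ centralizer (V (i + 1) : Set G) := hAQ.trans ((D.Q_cent_TN i).trans (centralizer_le (D.VN i)))
  have hAS : A ≤ (S : Subgroup G) := hA.le.trans hOS
  have hAQs : A ⊓ centralizer (V i : Set G) ≤ Q := by
    refine le_inf (inf_le_left.trans hAS) ?_
    intro a ha
    have h1 : V i ⊔ V (i + 1) ≤ centralizer ({a} : Set G) := sup_le
      (fun v hv => mem_centralizer_singleton_iff.2 (mem_centralizer_iff.1 ha.2 v hv))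
      (fun v hv => mem_centralizer_singleton_iff.2 (mem_centralizer_iff.1 (hAV' ha.1) v hv))
    exact mem_centralizer_iff.2 fun v hv => mem_centralizer_singleton_iff.1 (h1 hv)
  have hrel : (centralizer (A : Set G)).relIndex X ≤ (centralizer (A : Set G)).relIndex (V i) := by
    have h1 := hA.thom hXO hXsq
    have h2 : (centralizer (X : Set G)).relIndex A ≤ (centralizer (V i : Set G)).relIndex A := by
      rw [← inf_relIndex_right (centralizer (V i : Set G)) A]
      refine TwoS.relIndex_anti ?_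
      rw [inf_comm]
      exact hAQs.trans (comm_symm inf_le_right)
    have h3 : (centralizer (V i : Set G)).relIndex A = Nat.card (l i) := by
      have c1 := (D.exists_gen hA (hAl A hA i) hAm).2
      rw [card_eq A (centralizer (V i : Set G)), mul_comm] at c1
      exact Nat.eq_of_mul_eq_mul_right Nat.card_pos c1
    have h4 : (centralizer (A : Set G)).relIndex (V i) = Nat.card (l i) := by
      have hfix : V i ⊓ centralizer (A : Set G) = l i := by
        apply le_antisymm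
        · rintro x ⟨hx, hxA⟩
          by_contra hxl
          exact hAm fun a ha => D.reg i a (hAS ha) (hAl A hA i ha) x hx hxl (mem_centralizer_iff.1 hxA a ha)
        · exact le_inf (D.lV i) (comm_symm (hAl A hA i))
      have c1 := card_eq (V i) (centralizer (A : Set G))
      rw [hfix, D.cardV i] at c1
      exact (Nat.eq_of_mul_eq_mul_left Nat.card_pos c1).symm
    rw [h4, ← h3]
    exact h1.trans h2
  have hsup := TwoS.sup_of_relIndex_le hVX hXc hrel
  have hXA : ∀ x ∈ X, ∀ a ∈ A, x⁻¹ * a * x * a⁻¹ ∈ V i := by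
    intro x hx a ha
    obtain ⟨v, hv, c, hc, rfl⟩ := exists_mul_of_mem_sup
      ((inf_le_left.trans (hXc.trans (centralizer_le hVX))).trans (centralizer_le_normalizer _)) (hsup hx)
    have h1 : a * c * a⁻¹ = c := by
      rw [mem_centralizer_iff.1 hc.2 a ha, mul_inv_cancel_right]
    have h2 : a * v * a⁻¹ ∈ V i := (mem_normalizer_iff.1 (D.nV i (hAS ha)) v).1 hv
    have h3 : v⁻¹ * (a * v * a⁻¹) ∈ V i := mul_mem (inv_mem hv) h2
    have h4 : c⁻¹ * (v⁻¹ * (a * v * a⁻¹)) * c = v⁻¹ * (a * v * a⁻¹) := by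
      have := mem_centralizer_iff.1 (hXc hc.1) _ (hVX h3)
      rw [mul_assoc, this, inv_mul_cancel_left]
    have e : (v * c)⁻¹ * a * (v * c) * a⁻¹ = c⁻¹ * (v⁻¹ * (a * v * a⁻¹)) * (a * c * a⁻¹) := by group
    rw [e, h1, h4]
    exact h3
  -- `[X, O²(P)] ≤ V i`
  have hno2 : ¬ A ≤ o2 P := fun h => hAm (h.trans (natP_o2 D N))
  have hodd : oddGen P ≤ LineBf.LL P X (V i) N.nV := by
    have hLP : LineBf.LL P X (V i) N.nV ≤ P := fun g hg => hg.1
    have hLn := LineBf.LL_norm (V := V i) N.nV hPX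
    have hAL : A ≤ LineBf.LL P X (V i) N.nV := fun a ha => ⟨N.SP (hAS ha), fun x hx => hXA x hx a ha⟩
    rcases hP.sup_eq_or_inf_le S.2 (syl_not_dvd hsyl) hLP hLn with h | h
    · exact oddGen_le_of_sup hLn h.ge N.SP hLP S.2
    · exact absurd ((le_inf hAS hAL).trans h) hno2
  -- the group `M = O²(P) C_S(l 0 l 1)`
  have hAE : A ≤ N.E := fun a ha => N.cl_le_E (hAS ha) (hAl A hA i ha)
  have hoddE : oddGen P ≤ N.E := by
    rcases hP.sup_eq_or_inf_le S.2 (syl_not_dvd hsyl) N.E_le N.E_norm with h | h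
    · exact oddGen_le_of_sup N.E_norm h.ge N.SP N.E_le S.2
    · exact absurd ((le_inf hAS hAE).trans h) hno2
  set M : Subgroup G := N.E ⊓ centralizer (l (i + 1) : Set G) with hM
  have hMP : M ≤ P := inf_le_left.trans N.E_le
  have hMn : P ≤ normalizer (M : Set G) := norm_inf N.E_norm (norm_cent hPl')
  have hBi : ∀ b, b ∈ BB S l ↔ b ∈ (S : Subgroup G) ∧ b ∈ centralizer (l i : Set G) ∧
      b ∈ centralizer (l (i + 1) : Set G) := by
    intro b
    constructor
    · intro h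
      exact ⟨h.1, BB_le S l i h, BB_le S l (i + 1) h⟩
    · rintro ⟨h1, h2, h3⟩
      have key : ∀ k, b ∈ centralizer (l k : Set G) := fun k => by
        rcases PT.eq_or i k with rfl | rfl
        · exact h2
        · exact h3
      exact ⟨h1, key 0, key 1⟩
  have hBM : BB S l = (S : Subgroup G) ⊓ M := by
    ext b
    rw [hBi]
    constructor
    · rintro ⟨h1, h2, h3⟩
      exact ⟨h1, N.cl_le_E h1 h2, h3⟩
    · rintro ⟨h1, h2, h3⟩
      exact ⟨h1, N.E_cl h1 h2, h3⟩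
  have hBodd : Odd ((BB S l).relIndex M) := by
    rw [hBM, ← Nat.not_even_iff_odd, even_iff_two_dvd]
    exact LineBf.not_dvd_inf N.SP (syl_not_dvd hsyl) hMP hMn
  have hoddM : oddGen P ≤ M := le_inf hoddE (N.odd_le.trans (centralizer_le (D.lV _)))
  have hcM : ∀ m ∈ M, n⁻¹ * m * n * m⁻¹ ∈ V i := by
    intro m hm
    obtain ⟨s, hs, h, hh, rfl⟩ := N.exists_odd (hMP hm)
    have hsB : s ∈ BB S l := by
      rw [hBM]
      refine ⟨hs, ?_⟩
      have := mul_mem hm (inv_mem (hoddM hh))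
      rwa [mul_inv_cancel_right] at this
    have h1 := (hodd hh).2 n hnX
    have h2 : n⁻¹ * s = s * n⁻¹ := by
      have h3 := hb s hsB
      rw [inv_mul_eq_iff_eq_mul, ← mul_assoc, ← h3, mul_inv_cancel_right]
    have e : n⁻¹ * (s * h) * n * (s * h)⁻¹ = (n⁻¹ * s) * h * n * h⁻¹ * s⁻¹ := by group
    have e2 : s * n⁻¹ * h * n * h⁻¹ * s⁻¹ = s * (n⁻¹ * h * n * h⁻¹) * s⁻¹ := by group
    rw [e, h2, e2]
    exact (mem_normalizer_iff.1 (D.nV i hs) _).1 h1
  obtain ⟨y, hy, hyM⟩ := BTwo.Avg.avg (X := M) (P := BB S l) (Y := V i) (D := ⊥) (c := n)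
    (by rw [hBM]; exact inf_le_right) hBodd bot_le
    (fun x hx y hy => (mem_normalizer_iff.1 (N.nV (hMP hx)) y).1 hy)
    (fun x hx y hy => by rw [mem_bot] at hy ⊢; rw [hy]; group)
    (fun x hx y hy => by rw [mem_bot] at hy ⊢; rw [hy]; group)
    (fun y hy => by rw [mem_bot, ← pow_two]; exact D.sqV i y hy) hcM
    (fun x hx => by
      rw [mem_bot, mul_assoc n⁻¹ x n, hb x hx, inv_mul_cancel_left, mul_inv_cancel])
  have hcom : ∀ m ∈ M, m * (n * y) = (n * y) * m := by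
    intro m hm
    have h1 := hyM m hm
    rw [mem_bot, mul_inv_eq_one, mul_assoc, inv_mul_eq_iff_eq_mul] at h1
    exact h1
  have hBM' : BB S l ≤ M := by rw [hBM]; exact inf_le_right
  have hyl : y ∈ l i := by
    by_contra hyl
    refine hAm fun a ha => ?_
    have haB : a ∈ BB S l := hmxB A hA ha
    refine D.reg i a (hAS ha) (hAl A hA i ha) y hy hyl ?_
    have h1 := hcom a (hBM' haB)
    have h2 := hb a haB
    have h3 : n * (a * y) = n * (y * a) := by
      rw [← mul_assoc, ← h2, mul_assoc, h1, mul_assoc]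
    exact mul_left_cancel h3
  have hnyX : n * y ∈ X := mul_mem hnX (hVX hy)
  exact ⟨y, hyl, hXO hnyX, hXsq _ hnyX, fun b hb' => hcom b (hBM' hb'), fun g hg => hcom g (hoddM hg)⟩

end one

/-- **`C_O(C_S(l 0 l 1))` has `Ω₁ = l 0 l 1`** -/
theorem bf (hN : ∀ i, ∃ (F : Type) (_ : Field F) (_ : Finite F) (_ : CharP F 2) (P : Subgroup G)
      (_ : NatS F (S : Subgroup G) P (V i) (V (i + 1)) (l i)), IsMinPar (S : Subgroup G) P)
    (hg3 : ∀ i, ∃ A : Subgroup G, Mx (o2 (centralizer (zc (S : Subgroup G) : Set G))) A ∧ A ≤ TwoZ.QQ Z i ∧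
      ¬ A ≤ centralizer (V i : Set G)) :
    ∀ n ∈ o2 (centralizer (zc (S : Subgroup G) : Set G)), n ^ 2 = 1 → (∀ b ∈ BB S l, b * n = n * b) →
      n ∈ l 0 ⊔ l 1 := by
  intro n hn hn2 hb
  have hfact : Fact (Nat.Prime 2) := ⟨Nat.prime_two⟩
  have hAl : ∀ A, Mx (o2 (centralizer (zc (S : Subgroup G) : Set G))) A → ∀ i, A ≤ centralizer (l i : Set G) :=
    fun A hA i => D.mx_le_cl hA i
  have hj : ∀ j, ∃ A : Subgroup G, Mx (o2 (centralizer (zc (S : Subgroup G) : Set G))) A ∧ A ≤ TwoZ.QQ Z j :=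
    fun j => by
      obtain ⟨A, h1, h2, -⟩ := hg3 j
      exact ⟨A, h1, h2⟩
  obtain ⟨F0, _, _, _, P0, N0, hP0⟩ := hN 0
  obtain ⟨F1, _, _, _, P1, N1, hP1⟩ := hN 1
  obtain ⟨y0, hy0, hn0, hn02, hb0, ho0⟩ := D.bf_step N0 hP0 hAl (hj _) (hg3 0) hn hn2 hb
  obtain ⟨y1, hy1, hn1, hn12, hb1, ho1⟩ := D.bf_step N1 hP1 hAl (hj _) (hg3 1) hn0 hn02 hb0
  set O := o2 (centralizer (zc (S : Subgroup G) : Set G)) with hO
  set T : Subgroup G := O ⊓ (centralizer (oddGen P0 : Set G) ⊓ centralizer (oddGen P1 : Set G)) with hT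
  have hmem : n * y0 * y1 ∈ T := by
    refine ⟨hn1, mem_centralizer_iff.2 fun g hg => ?_, mem_centralizer_iff.2 fun g hg => ho1 g hg⟩
    have h1 := ho0 g hg
    have h2 : y1 * g = g * y1 := mem_centralizer_iff.1 (N0.odd_le hg) y1 (D.lV 1 hy1)
    rw [← mul_assoc, h1, mul_assoc, ← h2, ← mul_assoc]
  have hTbot : T = ⊥ := by
    by_contra hne
    have hT2 : IsPGroup 2 T := (o2_isPGroup _).to_le inf_le_left
    have hSn : (S : Subgroup G) ≤ normalizer (T : Set G) := by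
      refine norm_inf ((le_centralizer_zc _).trans (le_normalizer_o2 _)) (norm_inf ?_ ?_)
      · exact norm_cent (N0.SP.trans (le_normalizer_oddGen P0))
      · exact norm_cent (N1.SP.trans (le_normalizer_oddGen P1))
    have h1 := PLocal.OffenderStep.inf_centralizer_ne_bot T (S : Subgroup G) hT2 S.isPGroup' hSn hne
    have h2 : 2 ∣ Nat.card (T ⊓ centralizer ((S : Subgroup G) : Set G) : Subgroup G) := by
      obtain ⟨k, hk⟩ := IsPGroup.iff_card.1 (hT2.to_le (inf_le_left (b := centralizer ((S : Subgroup G) : Set G))))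
      rw [hk]
      refine dvd_pow_self 2 ?_
      rintro rfl
      rw [pow_zero] at hk
      exact h1 (Subgroup.eq_bot_of_card_eq _ hk)
    obtain ⟨⟨z, hzT, hzS⟩, hzo⟩ := exists_prime_orderOf_dvd_card' 2 h2
    have hz2 : z ^ 2 = 1 := by
      have h3 := pow_orderOf_eq_one (⟨z, hzT, hzS⟩ : (T ⊓ centralizer ((S : Subgroup G) : Set G) : Subgroup G))
      rw [hzo] at h3
      exact congrArg Subtype.val h3
    have hz1 : z ≠ 1 := by
      rintro rfl
      have h3 : orderOf (1 : (T ⊓ centralizer ((S : Subgroup G) : Set G) : Subgroup G)) = 2 := hzo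
      rw [orderOf_one] at h3
      omega
    have hzc : z ∈ zc (S : Subgroup G) := mem_zc.2 ⟨D.O_le_S hzT.1, fun s hs => mem_centralizer_iff.1 hzS s hs, hz2⟩
    rw [D.zT] at hzc
    obtain ⟨u, hu, v, hv, rfl⟩ := exists_mul_of_mem_sup (F := Z 0) (N := Z 1)
      ((((D.ZV 1).trans (comm_symm D.com)).trans (centralizer_le (D.ZV 0))).trans (centralizer_le_normalizer _)) hzc
    have hu1 : u = 1 := by
      by_contra hu1
      refine N0.mvs (D.ZV 0 hu) hu1 (natP_le N0 ?_ ?_)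
      · exact (D.S_le_C 0).trans (centralizer_le (Set.singleton_subset_iff.2 hu))
      · intro g hg
        rw [mem_centralizer_singleton_iff]
        have h3 := mem_centralizer_iff.1 hzT.2.1 g hg
        have h4 : v * g = g * v := mem_centralizer_iff.1 (N0.odd_le hg) v (D.ZV 1 hv)
        have h5 : (g * u) * v = (u * g) * v := by
          rw [mul_assoc, h3, mul_assoc, h4, mul_assoc]
        exact mul_right_cancel h5
    have hv1 : v = 1 := by
      by_contra hv1
      refine N1.mvs (D.ZV 1 hv) hv1 (natP_le N1 ?_ ?_)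
      · exact (D.S_le_C 1).trans (centralizer_le (Set.singleton_subset_iff.2 hv))
      · intro g hg
        rw [mem_centralizer_singleton_iff]
        have h3 := mem_centralizer_iff.1 hzT.2.2 g hg
        rw [hu1, one_mul] at h3
        exact h3
    exact hz1 (by rw [hu1, hv1, one_mul])
  rw [hTbot, mem_bot, mul_assoc, mul_eq_one_iff_eq_inv] at hmem
  rw [hmem]
  exact inv_mem (mul_mem (le_sup_left (a := l 0) (b := l 1) hy0) (le_sup_right (a := l 0) (b := l 1) hy1))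

end LFr

end Cfsg.Agent.Omega.KL.TwoZ.Line
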