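import Cfsg.Agent.Omega.KL.TwoZ.Ex
import Cfsg.Agent.Omega.NOThreeL.AdjTransv

/-!
# Two centres of any order: stabilisers mod `E`, the T.I. property, (K3), (5.1) and LEMMA 0 (RWide, TEXT W2)

`C_i = C_G(Z i)`, `N_i = ⟨Z (i+1) ^ C_i⟩`, `T` Sylow in `C_i`; `E` is normalised by `C_i` and `E ∩ Z (i+1) = 1`.

* `Fr.stab` : `c ∈ C_i` fixes `m E`, `m ∈ Z (i+1)` : `c` commutes with `m`;
* `Fr.norm_of` : `T, T^c ≤ H ≤ N_{C_i}(Z (i+1))` : `c` normalises `Z (i+1)`;
* `Fr.five_one` : **(5.1)** `m^c m'^d ∈ E`, `m, m' ∈ Z (i+1)`, `m ≠ 1` : `Z (i+1)^c = Z (i+1)^d`;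
  `Fr.ti` : `E = 1`, the conjugates of `Z (i+1)` under `C_i` are T.I.;
* `cmZ Z i B` : `{n ∈ C_i : [B, n] ≤ Z i}`; `Fr.no_T` : (NO) for `B ≤ O` on `N_i Z_i / Z_i`;
* `Fr.k3` : **(K3)** `B ≤ O` exact on `N_i` : `C_{N_i Z_i / Z_i}(B) = C_{N_i}(B) Z_i / Z_i`;
* `Trn T Z i` : two `T`-minimal groups which move `Z (i+1)` have the same conjugates of `Z (i+1)`;
* `Fr.exists_par` : a normal subgroup `X` of `C_i` with a 2-element which moves `N_i` contains `O²(R)`, `R` minimal, `R`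
  moves `Z (i+1)`; `Fr.lem0` : **LEMMA 0** : and, with `Trn`, `C_i = X N_{C_i}(Z (i+1))`, `N_i = ⟨Z (i+1) ^ X⟩`.
-/

set_option autoImplicit false
set_option linter.unusedSectionVars false

namespace Cfsg.Agent.Omega.KL.TwoZ

open Subgroup Cfsg Cfsg.Agent.Omega.MinPar
open Cfsg.Agent.ZN (o2 zc)
open Cfsg.Agent.Omega.OM.KTwo (ne_add_one eq_add_one add_one_add_one le_normalizer_V le_V exists_mul_of_mem_sup)
open Cfsg.Agent.MinSimple.MinParabolic (IsMinPar)
open Cfsg.Agent.Omega.NoFF.Basic (conj_conj mem_conj conj_le_iff comm_symm comm_mono Z_le_V V_le)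
open Cfsg.Agent.Omega.NOThreeL.Pair (conj_eq_of_mem conj_le_normalizer)
open Cfsg.Agent.Omega.NoFF.ThmJFam (card_sup_inf card_conj conj_cent conj_inf)
open Cfsg.Agent.ZN.ChoiceSit (Syl exists_syl syl_conj o2_le_syl syl_not_dvd)
open Cfsg.Agent.MinSimple.VModule (mem_zc zc_le normalizer_le_normalizer_zc le_o2 oddGen oddGen_le oddGen_mono
  oddGen_le_of_sup o2_isPGroup o2_le zc_le_centralizer le_centralizer_zc le_normalizer_o2)
open Cfsg.Agent.Omega.TC (kgroup_mono)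
open Cfsg.Agent.Omega.TC.LemZ (card_eq le_norm_of norm_cent norm_inf)
open Cfsg.Agent.Omega.KL.TwoS (Mx comm_of_sq sq_sup relIndex_le_of_sup sup_of_relIndex_le relIndex_pos relIndex_mono
  relIndex_anti relIndex_split)
open scoped Pointwise

universe u

variable {G : Type u} [Group G]

/-- `conj g • U = U` : `g` normalises `U` -/
theorem mem_norm_of_conj {g : G} {U : Subgroup G} (h : MulAut.conj g • U = U) : g ∈ normalizer (U : Set G) := by
  rw [mem_normalizer_iff]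
  intro x
  constructor
  · intro hx
    rw [← h, mem_conj]
    have e : g⁻¹ * (g * x * g⁻¹) * g = x := by group
    rwa [e]
  · intro hx
    rw [← h, mem_conj] at hx
    have e : g⁻¹ * (g * x * g⁻¹) * g = x := by group
    rwa [e] at hx

theorem norm_sup {K A B : Subgroup G} (hA : K ≤ normalizer (A : Set G)) (hB : K ≤ normalizer (B : Set G)) :
    K ≤ normalizer ((A ⊔ B : Subgroup G) : Set G) := fun g hg => by
  apply mem_norm_of_conj
  rw [Subgroup.smul_sup, conj_eq_of_mem (hA hg), conj_eq_of_mem (hB hg)]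

/-- `{n ∈ C_G(Z i) : [B, n] ≤ Z i}` -/
def cmZ (Z : Fin 2 → Subgroup G) (i : Fin 2) (B : Subgroup G) : Subgroup G where
  carrier := {n | n ∈ CC Z i ∧ ∀ b ∈ B, b * n * b⁻¹ * n⁻¹ ∈ Z i}
  one_mem' := ⟨one_mem _, fun b _ => by simp⟩
  mul_mem' := by
    rintro n m ⟨hn, hn'⟩ ⟨hm, hm'⟩
    refine ⟨mul_mem hn hm, fun b hb => ?_⟩
    have h1 := mem_centralizer_iff.1 hn _ (hm' b hb)
    have e : b * (n * m) * b⁻¹ * (n * m)⁻¹ = (b * n * b⁻¹ * n⁻¹) * (n * (b * m * b⁻¹ * m⁻¹) * n⁻¹) := by group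
    rw [e, ← h1, mul_inv_cancel_right]
    exact mul_mem (hn' b hb) (hm' b hb)
  inv_mem' := by
    rintro n ⟨hn, hn'⟩
    refine ⟨inv_mem hn, fun b hb => ?_⟩
    have h1 := mem_centralizer_iff.1 hn _ (inv_mem (hn' b hb))
    have e : b * n⁻¹ * b⁻¹ * n⁻¹⁻¹ = n⁻¹ * ((b * n * b⁻¹ * n⁻¹)⁻¹ * n) := by group
    rw [e, h1, inv_mul_cancel_left]
    exact inv_mem (hn' b hb)

theorem mem_cmZ {Z : Fin 2 → Subgroup G} {i : Fin 2} {B : Subgroup G} {n : G} :
    n ∈ cmZ Z i B ↔ n ∈ CC Z i ∧ ∀ b ∈ B, b * n * b⁻¹ * n⁻¹ ∈ Z i := Iff.rfl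

/-- `Z(i+1) ^ R' ⊆ Z(i+1) ^ R` for `T`-minimal `R, R' ≤ C_i` which move `Z (i+1)` -/
def Trn (T : Subgroup G) (Z : Fin 2 → Subgroup G) (i : Fin 2) : Prop :=
  ∀ R R' : Subgroup G, IsMinPar T R → R ≤ CC Z i → ¬ R ≤ CC Z (i + 1) →
    IsMinPar T R' → R' ≤ CC Z i → ¬ R' ≤ CC Z (i + 1) →
      ∀ g ∈ R', ∃ k ∈ R, MulAut.conj g • Z (i + 1) = MulAut.conj k • Z (i + 1)

namespace Fr

variable [Finite G] {T : Subgroup G} {V Z : Fin 2 → Subgroup G} (D : Fr T V Z)

include D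

/-- a `C_i`-invariant `E` with `E ∩ Z (i+1) = 1` has `E ∩ V (i+1) = 1` -/
theorem inf_E {i : Fin 2} {E : Subgroup G} (hE : CC Z i ≤ normalizer (E : Set G))
    (hE1 : ∀ z ∈ Z (i + 1), z ∈ E → z = 1) : V (i + 1) ⊓ E = ⊥ := by
  by_contra hne
  obtain ⟨n, hn, hn1, hf⟩ := NOThreeL.AdjTransv.exists_fixed (S := T) (N := V (i + 1) ⊓ E) D.T_isPGroup hne
    (fun n hn => by rw [← pow_two]; exact D.sqV _ n hn.1)
    (fun s hs n hn => ⟨(mem_normalizer_iff.1 (D.nV (i + 1) hs) n).1 hn.1,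
      (mem_normalizer_iff.1 (hE (D.T_le_C i hs)) n).1 hn.2⟩)
  apply hn1
  refine hE1 n (D.cV (i + 1) n hn.1 ?_) hn.2
  rw [mem_centralizer_iff]
  intro t ht
  calc t * n = (t * n * t⁻¹) * t := by group
    _ = n * t := by rw [hf t ht]

/-- `c ∈ C_i` fixes the coset `m E` of `m ∈ Z (i+1)` : `c` commutes with `m` -/
theorem stab {i : Fin 2} {E : Subgroup G} (hE : CC Z i ≤ normalizer (E : Set G))
    (hE1 : ∀ z ∈ Z (i + 1), z ∈ E → z = 1) {m c : G} (hm : m ∈ Z (i + 1)) (hc : c ∈ CC Z i)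
    (h : c * m * c⁻¹ * m⁻¹ ∈ E) : c * m = m * c := by
  have hconj : ∀ g ∈ CC Z i, ∀ x ∈ E, g * x * g⁻¹ ∈ E := fun g hg x hx => (mem_normalizer_iff.1 (hE hg) x).1 hx
  let K : Subgroup G :=
    { carrier := {c | c ∈ CC Z i ∧ c * m * c⁻¹ * m⁻¹ ∈ E}
      one_mem' := ⟨one_mem _, by simp⟩
      mul_mem' := by
        rintro a b ⟨ha, ha'⟩ ⟨hb, hb'⟩
        refine ⟨mul_mem ha hb, ?_⟩
        have e : a * b * m * (a * b)⁻¹ * m⁻¹ = (a * (b * m * b⁻¹ * m⁻¹) * a⁻¹) * (a * m * a⁻¹ * m⁻¹) := by group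
        rw [e]
        exact mul_mem (hconj a ha _ hb') ha'
      inv_mem' := by
        rintro a ⟨ha, ha'⟩
        refine ⟨inv_mem ha, ?_⟩
        have e : a⁻¹ * m * a⁻¹⁻¹ * m⁻¹ = a⁻¹ * (a * m * a⁻¹ * m⁻¹)⁻¹ * a⁻¹⁻¹ := by group
        rw [e]
        exact hconj _ (inv_mem ha) _ (inv_mem ha') }
  have hTm : T ≤ centralizer ({m} : Set G) :=
    (D.T_le_C (i + 1)).trans (centralizer_le (Set.singleton_subset_iff.2 hm))
  have hTK : T ≤ K := by
    intro t ht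
    refine ⟨D.T_le_C i ht, ?_⟩
    rw [mem_centralizer_singleton_iff.1 (hTm ht), mul_inv_cancel_right, mul_inv_cancel]
    exact one_mem _
  have key : K ≤ centralizer ({m} : Set G) := by
    refine MinSimple.MinParabolic.le_of_forall hTK ?_ fun R hR hRK => ?_
    · rintro n ⟨hn, hnT⟩
      have h1 := (D.nT i ⟨hn.1, hnT⟩).1.1
      have h3 : n * m * n⁻¹ ∈ Z (i + 1) := (mem_normalizer_iff.1 h1 m).1 hm
      have h2 := hE1 (n * m * n⁻¹ * m⁻¹) (mul_mem h3 (inv_mem hm)) hn.2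
      rw [mul_inv_eq_one] at h2
      rw [mem_centralizer_singleton_iff]
      calc n * m = (n * m * n⁻¹) * n := by group
        _ = m * n := by rw [h2]
    · by_cases hR2 : R ≤ CC Z (i + 1)
      · exact hR2.trans (centralizer_le (Set.singleton_subset_iff.2 hm))
      · have hRC : R ≤ CC Z i := fun r hr => (hRK hr).1
        have h1 := D.uni (i + 1) i (ne_add_one i).symm R hR hRC hR2 (i + 1)
        intro r hr
        have h2 : r * m * r⁻¹ * m⁻¹ ∈ V (i + 1) ⊓ E :=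
          mem_inf.2 ⟨mul_mem ((mem_normalizer_iff.1 (h1 hr) m).1 (D.ZV _ hm)) (inv_mem (D.ZV _ hm)), (hRK hr).2⟩
        rw [D.inf_E hE hE1, mem_bot, mul_inv_eq_one] at h2
        rw [mem_centralizer_singleton_iff]
        calc r * m = (r * m * r⁻¹) * r := by group
          _ = m * r := by rw [h2]
  exact mem_centralizer_singleton_iff.1 (key (show c ∈ K from ⟨hc, h⟩))

/-- `T, T^c ≤ H ≤ N_{C_i}(Z (i+1))` : `c ∈ N(Z (i+1))` -/
theorem norm_of {i : Fin 2} {H : Subgroup G} {c : G} (hc : c ∈ CC Z i) (hH : H ≤ CC Z i)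
    (hN : H ≤ normalizer (Z (i + 1) : Set G)) (hT : T ≤ H) (hTc : ∀ t ∈ T, c * t * c⁻¹ ∈ H) :
    c ∈ normalizer (Z (i + 1) : Set G) := by
  have hS : Syl T H := ⟨hT, D.T_isPGroup, fun R hR hR2 hTR => (D.syl i).2.2 R (hR.trans hH) hR2 hTR⟩
  have hle : MulAut.conj c • T ≤ H := by
    intro x hx
    rw [mem_conj] at hx
    have h1 := hTc _ hx
    have e : c * (c⁻¹ * x * c) * c⁻¹ = x := by group
    rwa [e] at h1
  have hS' : Syl (MulAut.conj c • T) H := by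
    refine ⟨hle, D.T_isPGroup.map _, fun R hR hR2 hTR => ?_⟩
    have h1 : T ≤ MulAut.conj c⁻¹ • R := by
      have h2 : MulAut.conj c⁻¹ • (MulAut.conj c • T) ≤ MulAut.conj c⁻¹ • R := conj_le_iff.2 hTR
      rwa [conj_conj, inv_mul_cancel, map_one, one_smul] at h2
    have h2 : MulAut.conj c⁻¹ • R ≤ CC Z i := by
      intro x hx
      rw [mem_conj, inv_inv] at hx
      have h3 := mul_mem (mul_mem (inv_mem hc) (hH (hR hx))) hc
      have e : c⁻¹ * (c * x * c⁻¹) * c = x := by group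
      rwa [e] at h3
    have h3 := (D.syl i).2.2 _ h2 (hR2.map _) h1
    rw [← h3, conj_conj, mul_inv_cancel, map_one, one_smul]
  obtain ⟨h, hh, he⟩ := syl_conj hS' hS
  have h1 : MulAut.conj (h * c) • T = T := by
    rw [← conj_conj]
    exact he
  have h2 := D.nT i ⟨mul_mem (hH hh) hc, mem_norm_of_conj h1⟩
  have h3 := mul_mem (inv_mem (hN hh)) h2.1.1
  rwa [inv_mul_cancel_left] at h3

/-- **(5.1)** : the images of the conjugates of `Z (i+1)` under `C_i` are T.I. mod `E` -/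
theorem five_one {i : Fin 2} {E : Subgroup G} (hE : CC Z i ≤ normalizer (E : Set G))
    (hE1 : ∀ z ∈ Z (i + 1), z ∈ E → z = 1) {m m' c d : G} (hm : m ∈ Z (i + 1)) (hm1 : m ≠ 1) (hm' : m' ∈ Z (i + 1))
    (hc : c ∈ CC Z i) (hd : d ∈ CC Z i) (h : (c * m * c⁻¹) * (d * m' * d⁻¹) ∈ E) :
    MulAut.conj c • Z (i + 1) = MulAut.conj d • Z (i + 1) := by
  have hconj : ∀ g ∈ CC Z i, ∀ x ∈ E, g * x * g⁻¹ ∈ E := fun g hg x hx => (mem_normalizer_iff.1 (hE hg) x).1 hx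
  set e : G := c⁻¹ * d with he
  have heC : e ∈ CC Z i := mul_mem (inv_mem hc) hd
  have h1 : m * (e * m' * e⁻¹) ∈ E := by
    have h2 := hconj _ (inv_mem hc) _ h
    have e1 : c⁻¹ * ((c * m * c⁻¹) * (d * m' * d⁻¹)) * c⁻¹⁻¹ = m * (e * m' * e⁻¹) := by rw [he]; group
    rwa [e1] at h2
  have hN : e ∈ normalizer (Z (i + 1) : Set G) := by
    refine D.norm_of (H := CC Z i ⊓ centralizer ({m} : Set G)) heC inf_le_left (D.sti hm hm1)
      (le_inf (D.T_le_C i) ((D.T_le_C (i + 1)).trans (centralizer_le (Set.singleton_subset_iff.2 hm)))) fun t ht => ?_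
    have htC : e * t * e⁻¹ ∈ CC Z i := mul_mem (mul_mem heC (D.T_le_C i ht)) (inv_mem heC)
    refine ⟨htC, mem_centralizer_singleton_iff.2 (D.stab hE hE1 hm htC ?_)⟩
    have h3 := mul_mem (hconj _ htC _ h1) (inv_mem h1)
    have h4 := mem_centralizer_iff.1 (D.T_le_C (i + 1) ht) m' hm'
    have e2 : (e * t * e⁻¹) * (m * (e * m' * e⁻¹)) * (e * t * e⁻¹)⁻¹ * (m * (e * m' * e⁻¹))⁻¹ =
        (e * t * e⁻¹) * m * (e * t * e⁻¹)⁻¹ * (e * (t * m' * t⁻¹) * m'⁻¹ * e⁻¹) * m⁻¹ := by group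
    rw [e2, ← h4] at h3
    have e3 : (e * t * e⁻¹) * m * (e * t * e⁻¹)⁻¹ * (e * (m' * t * t⁻¹) * m'⁻¹ * e⁻¹) * m⁻¹ =
        (e * t * e⁻¹) * m * (e * t * e⁻¹)⁻¹ * m⁻¹ := by group
    rwa [e3] at h3
  have h5 := conj_eq_of_mem hN
  have e4 : d = c * e := by rw [he, mul_inv_cancel_left]
  rw [e4, ← conj_conj, h5]

/-- the conjugates of `Z (i+1)` under `C_i` are T.I. -/
theorem ti {i : Fin 2} {c w : G} (hc : c ∈ CC Z i) (hw : w ∈ Z (i + 1)) (hw1 : w ≠ 1)
    (h : c * w * c⁻¹ ∈ Z (i + 1)) : c ∈ normalizer (Z (i + 1) : Set G) := by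
  have h1 : c * w * c⁻¹ * (c * w * c⁻¹) = 1 := by rw [← pow_two]; exact D.Z_sq (i + 1) _ h
  have h2 := D.five_one (i := i) (E := ⊥) (m := w) (m' := c * w * c⁻¹) (c := c) (d := 1)
    (fun g _ => by rw [mem_normalizer_iff]; intro x; rw [mem_bot, mem_bot, conj_eq_one_iff])
    (fun z _ hz => mem_bot.1 hz) hw hw1 h hc (one_mem _) (by rw [mem_bot, one_mul, inv_one, mul_one]; exact h1)
  rw [map_one, one_smul] at h2
  exact mem_norm_of_conj h2

/-! ### (K3) -/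

/-- `C_B(⟨w ^ C_i⟩)` centralises `N_i`, `w ∈ Z (i+1)#`, `B ≤ O` -/
theorem ker_w {i : Fin 2} {w : G} (hw : w ∈ Z (i + 1)) (hw1 : w ≠ 1) {A : Subgroup G}
    (hA : A ≤ o2 (centralizer (zc T : Set G))) :
    A ⊓ centralizer (NoFF.Basic.V (zpowers w) (CC Z i) : Set G) ≤ centralizer (NN Z i : Set G) := by
  set H : Subgroup G := CC Z i with hH
  have hT : T ≤ H := D.T_le_C i
  have hAH : A ≤ H := (hA.trans D.O_le_T).trans hT
  set W : Subgroup G := NoFF.Basic.V (zpowers w) H with hW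
  have hwW : w ∈ W := le_V _ _ (mem_zpowers w)
  have hHW : H ≤ normalizer (W : Set G) := le_normalizer_V _ _
  set H₁ : Subgroup G := H ⊓ centralizer ({w} : Set G) with hH₁
  have hTH₁ : T ≤ H₁ := le_inf hT ((D.T_le_C (i + 1)).trans (centralizer_le (Set.singleton_subset_iff.2 hw)))
  have h1 : A ≤ o2 H₁ := by
    have h2 : o2 (centralizer (zc T : Set G)) ⊓ H₁ ≤ o2 H₁ := by
      refine le_o2 inf_le_right ((o2_isPGroup _).to_le inf_le_left) ?_
      refine le_norm_of fun g hg q hq => ?_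
      have h3 : g ∈ normalizer ((o2 (centralizer (zc T : Set G)) : Subgroup G) : Set G) :=
        norm_o2_of (D.norm_D i ⟨hg.1, D.sti hw hw1 ⟨hg.1, hg.2⟩⟩)
      exact ⟨(mem_normalizer_iff.1 h3 q).1 hq.1, H₁.mul_mem (H₁.mul_mem hg hq.2) (H₁.inv_mem hg)⟩
    exact (le_inf hA ((hA.trans D.O_le_T).trans hTH₁)).trans h2
  have h2 := GenTool.o2_inf_le (L := H) (N := H ⊓ centralizer (W : Set G)) (R := H₁) inf_le_left
    (fun g hg x hx => ⟨H.mul_mem (H.mul_mem hg hx.1) (H.inv_mem hg),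
      (mem_normalizer_iff.1 (norm_cent hHW hg) x).1 hx.2⟩)
    (le_inf inf_le_left (inf_le_right.trans (centralizer_le (Set.singleton_subset_iff.2 hwW))))
  have h3 : A ⊓ centralizer (W : Set G) ≤ o2 H :=
    (le_inf (inf_le_left.trans h1) (le_inf (inf_le_left.trans hAH) inf_le_right)).trans h2
  exact h3.trans (D.Q_le_cent_N i)

/-- **(NO) on `N_i Z_i / Z_i`** for `B ≤ O` with `B² = 1` -/
theorem no_T (hML : ML.Final.MLK.{u, u}) {i : Fin 2} (hK : IsKGroup (CC Z i)) {B : Subgroup G}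
    (hB : B ≤ o2 (centralizer (zc T : Set G))) (hB2 : ∀ b ∈ B, b ^ 2 = 1) :
    (centralizer (NN Z i : Set G)).relIndex B ≤ (cmZ Z i B).relIndex (NN Z i) := by
  obtain ⟨w, hw, hw1⟩ : ∃ w ∈ Z (i + 1), w ≠ 1 := by
    by_contra hc
    push Not at hc
    exact D.ne (i + 1) (eq_bot_iff.2 fun x hx => mem_bot.2 (hc x hx))
  have hZn : CC Z i ≤ normalizer (Z i : Set G) := centralizer_le_normalizer _
  have hZ1 : ∀ z ∈ Z (i + 1), z ∈ Z i → z = 1 := fun z hz hz' => D.dis i z (D.ZV i hz') hz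
  set W₁ : Subgroup G := NoFF.Basic.V (zpowers w) (CC Z i) with hW₁
  have hwW : w ∈ W₁ := le_V _ _ (mem_zpowers w)
  have hW₁n : CC Z i ≤ normalizer (W₁ : Set G) := le_normalizer_V _ _
  have hW₁N : W₁ ≤ NN Z i := V_le_of ((zpowers_le.2 hw).trans (le_V _ _)) (le_normalizer_V _ _)
  set X : Subgroup G := NN Z i ⊔ Z i with hX
  have hXsq : ∀ x ∈ X, x ^ 2 = 1 := sq_sup (D.N_sq i) (D.Z_sq i) (D.N_le_C i i)
  have hXc : X ≤ centralizer (X : Set G) := comm_of_sq hXsq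
  have hXC : X ≤ CC Z i := sup_le (D.N_le_C i i) ((D.Z_le_T i).trans (D.T_le_C i))
  have hWX : W₁ ⊔ Z i ≤ X := sup_le_sup_right hW₁N _
  have hZc : Z i ≤ cmZ Z i B := by
    intro z hz
    refine ⟨hXC (le_sup_right (a := NN Z i) hz), fun b hb => ?_⟩
    have h1 := mem_centralizer_iff.1 (D.T_le_C i (D.O_le_T (hB hb))) z hz
    rw [← h1, mul_inv_cancel_right, mul_inv_cancel]
    exact one_mem _
  have hmain : (B ⊓ centralizer (W₁ : Set G)).relIndex B ≤ ((W₁ ⊔ Z i) ⊓ cmZ Z i B).relIndex (W₁ ⊔ Z i) := by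
    refine hML.grp (C := CC Z i) (W := W₁ ⊔ Z i) (Y := Z i) (T := T) (Q := o2 (centralizer (zc T : Set G))) (A := B)
      (w := w) hK ?_ (KA := B ⊓ centralizer (W₁ : Set G)) (CW := (W₁ ⊔ Z i) ⊓ cmZ Z i B) ?_ ?_
    · refine ⟨norm_sup hW₁n hZn, hZn, le_sup_right, (hWX.trans hXC).trans hZn, ?_, mem_sup_left hwW, ?_, D.T_le_C i,
        D.T_isPGroup, syl_not_dvd (D.syl i), ?_, D.O_le_T.trans (D.T_le_C i), o2_isPGroup _, ?_, ?_, hB, ?_⟩
      · intro x hx
        rw [← pow_two, hXsq x (hWX hx)]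
        exact one_mem _
      · intro U hU hYU hHU
        exact sup_le (V_le_of (zpowers_le.2 hU) hHU) hYU
      · intro t ht
        have h1 := mem_centralizer_iff.1 (D.T_le_C (i + 1) ht) w hw
        rw [← h1, mul_inv_cancel_right, mul_inv_cancel]
        exact one_mem _
      · intro q hq
        have h1 := mem_centralizer_iff.1 (D.cent_zc_le (i + 1) (o2_le _ hq)) w hw
        rw [← h1, mul_inv_cancel_right, mul_inv_cancel]
        exact one_mem _
      · intro g hg hgY q hq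
        have h1 : g ∈ centralizer ({w} : Set G) := mem_centralizer_singleton_iff.2 (D.stab hZn hZ1 hw hg hgY)
        exact (mem_normalizer_iff.1 (norm_o2_of (D.norm_D i ⟨hg, D.sti hw hw1 ⟨hg, h1⟩⟩)) q).1 hq
      · intro a ha x _
        have h1 : a * a = 1 := by rw [← pow_two]; exact hB2 a ha
        have e : a * (a * x * a⁻¹) * a⁻¹ * x⁻¹ = (a * a) * x * (a * a)⁻¹ * x⁻¹ := by group
        rw [e, h1]
        simp
    · intro a
      constructor
      · rintro ⟨h1, h2⟩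
        refine ⟨h1, fun x hx => ?_⟩
        obtain ⟨y, hy, z, hz, rfl⟩ := exists_mul_of_mem_sup
          (((D.Z_le_T i).trans (D.T_le_C i)).trans hW₁n) hx
        have h3 := mem_centralizer_iff.1 h2 y hy
        have h4 := mem_centralizer_iff.1 (D.T_le_C i (D.O_le_T (hB h1))) z hz
        have e : a * (y * z) * a⁻¹ * (y * z)⁻¹ = (a * y) * (z * a⁻¹) * z⁻¹ * y⁻¹ := by group
        have h5 : z * a⁻¹ = a⁻¹ * z := by
          rw [eq_inv_mul_iff_mul_eq, ← mul_assoc, ← h4, mul_inv_cancel_right]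
        rw [e, ← h3, h5]
        have e2 : y * a * (a⁻¹ * z) * z⁻¹ * y⁻¹ = 1 := by group
        rw [e2]
        exact one_mem _
      · rintro ⟨h1, h2⟩
        refine ⟨h1, ?_⟩
        have haC : a ∈ CC Z i := D.T_le_C i (D.O_le_T (hB h1))
        have h3 : W₁ ≤ centralizer ({a} : Set G) := by
          refine V_le fun c hc => ?_
          intro y hy
          rw [mem_conj] at hy
          have h4 : c * w * c⁻¹ ∈ centralizer ({a} : Set G) := by
            have h5 := h2 (c * w * c⁻¹) (mem_sup_left ((mem_normalizer_iff.1 (hW₁n hc) w).1 hwW))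
            have h6 : (c⁻¹ * a * c) * w * (c⁻¹ * a * c)⁻¹ * w⁻¹ ∈ Z i := by
              have h7 := (mem_normalizer_iff.1 (hZn (inv_mem hc)) _).1 h5
              have e : c⁻¹ * (a * (c * w * c⁻¹) * a⁻¹ * (c * w * c⁻¹)⁻¹) * c⁻¹⁻¹ =
                (c⁻¹ * a * c) * w * (c⁻¹ * a * c)⁻¹ * w⁻¹ := by group
              rwa [e] at h7
            have h8 := D.stab hZn hZ1 hw (mul_mem (mul_mem (inv_mem hc) haC) hc) h6
            rw [mem_centralizer_singleton_iff]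
            calc c * w * c⁻¹ * a = c * (w * (c⁻¹ * a * c)) * c⁻¹ := by group
              _ = c * ((c⁻¹ * a * c) * w) * c⁻¹ := by rw [h8]
              _ = a * (c * w * c⁻¹) := by group
          obtain ⟨n, hn⟩ := mem_zpowers_iff.1 hy
          have e : y = (c * w * c⁻¹) ^ n := by rw [conj_zpow, hn]; group
          rw [e]
          exact zpow_mem h4 n
        exact mem_centralizer_iff.2 fun y hy => mem_centralizer_singleton_iff.1 (h3 hy)
    · intro x
      constructor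
      · rintro ⟨h1, h2⟩
        exact ⟨h1, h2.2⟩
      · rintro ⟨h1, h2⟩
        exact ⟨h1, hXC (hWX h1), h2⟩
  rw [inf_relIndex_left, inf_relIndex_left] at hmain
  calc (centralizer (NN Z i : Set G)).relIndex B ≤ (B ⊓ centralizer (W₁ : Set G)).relIndex B :=
        relIndex_anti (D.ker_w hw hw1 hB)
    _ = (centralizer (W₁ : Set G)).relIndex B := inf_relIndex_left _ _
    _ ≤ (cmZ Z i B).relIndex (W₁ ⊔ Z i) := hmain
    _ ≤ (cmZ Z i B).relIndex X := relIndex_mono hWX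
    _ ≤ (cmZ Z i B).relIndex (NN Z i) := by
        refine relIndex_le_of_sup le_sup_left hXc (sup_le le_sup_left ?_)
        exact le_trans (le_inf le_sup_right hZc) le_sup_right

/-- **(K3)** : `B ≤ O` exact on `N_i` : the `n ∈ N_i` with `[B, n] ≤ Z_i` commute with `B` -/
theorem k3 (hML : ML.Final.MLK.{u, u}) {i : Fin 2} (hK : IsKGroup (CC Z i)) {B : Subgroup G}
    (hB : B ≤ o2 (centralizer (zc T : Set G))) (hB2 : ∀ b ∈ B, b ^ 2 = 1)
    (hex : (centralizer (B : Set G)).relIndex (NN Z i) ≤ (centralizer (NN Z i : Set G)).relIndex B) {n : G}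
    (hn : n ∈ NN Z i) (h : ∀ b ∈ B, b * n * b⁻¹ * n⁻¹ ∈ Z i) : ∀ b ∈ B, b * n = n * b := by
  have h1 := hex.trans (D.no_T hML hK hB hB2)
  have hle : NN Z i ⊓ centralizer (B : Set G) ≤ NN Z i ⊓ cmZ Z i B := by
    rintro x ⟨hx, hxB⟩
    refine ⟨hx, D.N_le_C i i hx, fun b hb => ?_⟩
    rw [mem_centralizer_iff.1 hxB b hb, mul_inv_cancel_right, mul_inv_cancel]
    exact one_mem _
  have h2 := card_eq (NN Z i) (centralizer (B : Set G))
  have h3 := card_eq (NN Z i) (cmZ Z i B)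
  have h4 : Nat.card (NN Z i ⊓ cmZ Z i B : Subgroup G) ≤ Nat.card (NN Z i ⊓ centralizer (B : Set G) : Subgroup G) := by
    by_contra hc
    push Not at hc
    have p := relIndex_pos (centralizer (B : Set G)) (NN Z i)
    have h5 : Nat.card (NN Z i ⊓ centralizer (B : Set G) : Subgroup G) * (centralizer (B : Set G)).relIndex (NN Z i) <
        Nat.card (NN Z i ⊓ cmZ Z i B : Subgroup G) * (cmZ Z i B).relIndex (NN Z i) :=
      lt_of_lt_of_le (Nat.mul_lt_mul_of_pos_right hc p) (Nat.mul_le_mul_left _ h1)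
    rw [← h2, ← h3] at h5
    exact lt_irrefl _ h5
  have h5 := Subgroup.eq_of_le_of_card_ge hle h4
  have h6 : n ∈ NN Z i ⊓ centralizer (B : Set G) := by
    rw [h5]
    exact ⟨hn, D.N_le_C i i hn, h⟩
  exact fun b hb => mem_centralizer_iff.1 h6.2 b hb

/-! ### LEMMA 0 -/

/-- a normal subgroup `X` of `C_i` with a 2-element which moves `N_i` contains `O²(R)` for a `T`-minimal `R` which moves
`Z (i+1)` -/
theorem exists_par {i : Fin 2} {X : Subgroup G} (hX : X ≤ CC Z i) (hXn : CC Z i ≤ normalizer (X : Set G))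
    (hx : ∃ x ∈ X, IsPGroup 2 (zpowers x) ∧ x ∉ centralizer (NN Z i : Set G)) :
    ∃ R : Subgroup G, IsMinPar T R ∧ R ≤ CC Z i ∧ ¬ R ≤ CC Z (i + 1) ∧ R ≤ X ⊔ T ∧ oddGen R ≤ X := by
  obtain ⟨x, hxX, hx2, hxN⟩ := hx
  have hXTC : X ⊔ T ≤ CC Z i := sup_le hX (D.T_le_C i)
  have hnot : ¬ X ⊔ T ≤ normalizer (Z (i + 1) : Set G) := by
    intro hN
    apply hxN
    -- 2-elements of `X` centralise `Z (i+1)`
    have key : ∀ y ∈ X, IsPGroup 2 (zpowers y) → y ∈ CC Z (i + 1) := by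
      intro y hy hy2
      have hS : Syl T (X ⊔ T) :=
        ⟨le_sup_right, D.T_isPGroup, fun R hR hR2 hTR => (D.syl i).2.2 R (hR.trans hXTC) hR2 hTR⟩
      obtain ⟨S, hS', hyS⟩ := exists_syl hy2 (zpowers_le.2 (mem_sup_left (T := T) hy))
      obtain ⟨g, hg, he⟩ := syl_conj hS' hS
      have h1 : g * y * g⁻¹ ∈ T := by
        rw [← he]
        exact ⟨y, hyS (mem_zpowers y), rfl⟩
      have h2 := D.T_le_C (i + 1) h1
      have h3 := (mem_normalizer_iff.1 (norm_cent (A := normalizer (Z (i + 1) : Set G)) le_rfl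
        (inv_mem (hN hg))) _).1 h2
      have e : g⁻¹ * (g * y * g⁻¹) * g⁻¹⁻¹ = y := by group
      rwa [e] at h3
    have h1 : NN Z i ≤ centralizer ({x} : Set G) := by
      refine V_le fun c hc => ?_
      intro z hz
      rw [mem_conj] at hz
      have h2 : c⁻¹ * x * c ∈ X := by
        have := (mem_normalizer_iff.1 (hXn (inv_mem hc)) x).1 hxX
        rwa [inv_inv] at this
      have h3 : IsPGroup 2 (zpowers (c⁻¹ * x * c)) := by
        have e : zpowers (c⁻¹ * x * c) = (zpowers x).map (MulAut.conj c⁻¹).toMonoidHom := by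
          rw [MonoidHom.map_zpowers]
          congr 1
          change c⁻¹ * x * c = c⁻¹ * x * c⁻¹⁻¹
          rw [inv_inv]
        rw [e]
        exact hx2.map _
      have h4 := mem_centralizer_iff.1 (key _ h2 h3) _ hz
      rw [mem_centralizer_singleton_iff]
      calc z * x = c * ((c⁻¹ * z * c) * (c⁻¹ * x * c)) * c⁻¹ := by group
        _ = c * ((c⁻¹ * x * c) * (c⁻¹ * z * c)) * c⁻¹ := by rw [h4]
        _ = x * z := by group
    rw [mem_centralizer_iff]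
    exact fun n hn => mem_centralizer_singleton_iff.1 (h1 hn)
  obtain ⟨R, hR, hRX, hRm⟩ : ∃ R : Subgroup G, IsMinPar T R ∧ R ≤ X ⊔ T ∧ ¬ R ≤ CC Z (i + 1) := by
    by_contra hc
    push Not at hc
    apply hnot
    refine MinSimple.MinParabolic.le_of_forall le_sup_right ?_ fun R hR hRX =>
      (hc R hR hRX).trans (centralizer_le_normalizer _)
    exact ((inf_le_inf_right _ hXTC).trans (D.nT i)).trans (inf_le_left.trans inf_le_left)
  refine ⟨R, hR, hRX.trans hXTC, hRm, hRX, ?_⟩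
  exact (oddGen_mono hRX).trans (oddGen_le_of_sup (S := T) (hXTC.trans hXn) le_rfl le_sup_right le_sup_left
    D.T_isPGroup)

/-- **LEMMA 0** -/
theorem lem0 {i : Fin 2} (hTr : Trn T Z i) {X : Subgroup G} (hX : X ≤ CC Z i) (hXn : CC Z i ≤ normalizer (X : Set G))
    (hx : ∃ x ∈ X, IsPGroup 2 (zpowers x) ∧ x ∉ centralizer (NN Z i : Set G)) :
    (∃ R : Subgroup G, IsMinPar T R ∧ R ≤ CC Z i ∧ ¬ R ≤ CC Z (i + 1) ∧ oddGen R ≤ X) ∧
    CC Z i ≤ X ⊔ (CC Z i ⊓ normalizer (Z (i + 1) : Set G)) ∧ NN Z i = NH Z i X := by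
  obtain ⟨R, hR, hRC, hRm, hRX, hRo⟩ := D.exists_par hX hXn hx
  have hTN : T ≤ CC Z i ⊓ normalizer (Z (i + 1) : Set G) :=
    le_inf (D.T_le_C i) ((D.T_le_C (i + 1)).trans (centralizer_le_normalizer _))
  have hgen : CC Z i ≤ X ⊔ (CC Z i ⊓ normalizer (Z (i + 1) : Set G)) := by
    refine MinSimple.MinParabolic.le_of_forall (D.T_le_C i) ?_ fun R' hR' hRC' => ?_
    · refine le_trans (le_inf inf_le_left ?_) le_sup_right
      exact (D.nT i).trans (inf_le_left.trans inf_le_left)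
    · by_cases hm : R' ≤ CC Z (i + 1)
      · exact (le_inf hRC' (hm.trans (centralizer_le_normalizer _))).trans le_sup_right
      · intro g hg
        obtain ⟨k, hk, he⟩ := hTr R R' hR hRC hRm hR' hRC' hm g hg
        have h1 : k⁻¹ * g ∈ normalizer (Z (i + 1) : Set G) := by
          apply mem_norm_of_conj
          rw [← conj_conj, he, conj_conj, inv_mul_cancel, map_one, one_smul]
        have h2 : k⁻¹ * g ∈ CC Z i := mul_mem (inv_mem (hRC hk)) (hRC' hg)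
        have h3 : k ∈ X ⊔ (CC Z i ⊓ normalizer (Z (i + 1) : Set G)) := (hRX.trans (sup_le_sup_left hTN _)) hk
        have h4 := mul_mem h3 (mem_sup_right (S := X) (mem_inf.2 ⟨h2, h1⟩))
        rwa [mul_inv_cancel_left] at h4
  refine ⟨⟨R, hR, hRC, hRm, hRo⟩, hgen, le_antisymm (V_le fun c hc => ?_) (V_le fun c hc => Z_le_V (hX hc))⟩
  obtain ⟨x, hx, n, hn, rfl⟩ := exists_mul_of_mem_sup (inf_le_left.trans hXn) (hgen hc)
  rw [← conj_conj, conj_eq_of_mem hn.2]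
  exact Z_le_V hx

end Fr

end Cfsg.Agent.Omega.KL.TwoZ
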