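import Cfsg.Agent.Omega.KL.TwoZ.GE
import Cfsg.Agent.Omega.KL.TwoZ.Low

/-!
# THEOREM G* modulo a `C_i`-invariant `E` (lines), over `TwoZ.Fr`; (G2), (G3)

* **`FrE.of`** : `FrE T V Z i E` over `Fr` : `sep` = `Fr.stab`, `lem0` = `Fr.lem0` (`Low.lean`, helper70);
* `GOneM T V Z i` : (G1) for the maximal `A ≤ O` with `[X_i, A] ≤ N_i`; `FrE.gOneM`;
* `Fr.g2M`, `Fr.g_conjM`, **`Fr.g3M`** : (G2), (G3) from `GOneM` (as in `GThree.lean`, helper812).
-/

set_option autoImplicit false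
set_option linter.unusedSectionVars false

namespace Cfsg.Agent.Omega.KL.TwoZ

open Subgroup Cfsg Cfsg.Agent.Omega.MinPar
open Cfsg.Agent.ZN (o2 zc)
open Cfsg.Agent.Omega.OM.KTwo (ne_add_one eq_add_one add_one_add_one le_normalizer_V le_V exists_mul_of_mem_sup)
open Cfsg.Agent.Omega.NoFF.Basic (conj_conj mem_conj conj_le_iff comm_symm comm_mono Z_le_V V_le)
open Cfsg.Agent.Omega.NOThreeL.Pair (conj_eq_of_mem conj_le_normalizer)
open Cfsg.Agent.Omega.NoFF.ThmJFam (card_sup_inf card_conj conj_cent conj_inf)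
open Cfsg.Agent.MinSimple.VModule (mem_zc zc_le normalizer_le_normalizer_zc le_o2
  o2_isPGroup o2_le zc_le_centralizer le_centralizer_zc le_normalizer_o2)
open Cfsg.Agent.Omega.TC.LemZ (card_eq le_norm_of norm_cent norm_inf)
open Cfsg.Agent.Omega.KL.TwoS (Mx comm_of_sq sq_sup relIndex_le_of_sup sup_of_relIndex_le relIndex_pos relIndex_mono
  relIndex_anti relIndex_split)
open scoped Pointwise

universe u

variable {G : Type u} [Group G] [Finite G] {T : Subgroup G} {V Z : Fin 2 → Subgroup G}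

/-- **`FrE` over `Fr`** -/
theorem FrE.of (D : Fr T V Z) {i : Fin 2} {E : Subgroup G} (ZE : Z i ≤ E) (EV : E ≤ V i)
    (CE : CC Z i ≤ normalizer (E : Set G)) (dis : V i ⊓ (NN Z i ⊔ E) ≤ E)
    (fix : ∀ c ∈ centralizer (E : Set G), (∀ w ∈ V i, (∀ t ∈ T, t * w * t⁻¹ * w⁻¹ ∈ E) → c * w * c⁻¹ * w⁻¹ ∈ E) →
      c ∈ HH T V i) (tr : Trn T Z i) : FrE T V Z i E := by
  refine ⟨D, ZE, EV, CE, ?_, dis, fix, ?_⟩
  · intro c hc m hm h
    have h1 := D.stab CE (fun z hz hzE => D.dis i z (EV hzE) hz) hm hc h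
    rw [h1, mul_inv_cancel_right]
  · intro K A hK hn hAK hA hm
    obtain ⟨a, ha, ham⟩ := SetLike.not_le_iff_exists.1 hm
    exact (D.lem0 tr hK hn ⟨a, hAK ha, hA.to_le (zpowers_le.2 ha), ham⟩).2.2.le

/-- (G1) for the maximal `A ≤ O` with `[X_i, A] ≤ N_i` -/
def GOneM (T : Subgroup G) (V Z : Fin 2 → Subgroup G) (i : Fin 2) : Prop :=
  ∀ A : Subgroup G, Mx (o2 (centralizer (zc T : Set G))) A →
    (∀ a ∈ A, ∀ x ∈ WW V Z i ⊔ NN Z i, a * x * a⁻¹ * x⁻¹ ∈ NN Z i) → A ≤ centralizer (NN Z i : Set G)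

theorem FrE.gOneM {i : Fin 2} {E : Subgroup G} (D : FrE T V Z i E) (hML : ML.Final.MLK.{u, u})
    (hE : ML.Ex.Two.Ext.{u, u}) (hK : IsKGroup (CC Z i)) (hF : ¬ Fail T V Z i)
    (hAE : ∀ A : Subgroup G, Mx (o2 (centralizer (zc T : Set G))) A → A ≤ centralizer (E : Set G)) : GOneM T V Z i :=
  fun A hA h => D.g1 hML hE hK hF (hAE A hA) ((o2_isPGroup _).to_le hA.le) fun a ha x hx => mem_sup_left (h a ha x hx)

theorem GOne.gOneM (D : Fr T V Z) {i : Fin 2} (h : GOne V Z i) : GOneM T V Z i := fun A hA hx =>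
  h A ((hA.le.trans D.O_le_T).trans (D.T_le_C i)) ((o2_isPGroup _).to_le hA.le) fun a ha x hx' =>
    mem_sup_left (hx a ha x hx')

namespace Fr

/-- **(G2)** `A` maximal in `O` moves `N_i` : `C_A(N_i)` moves `W_i` -/
theorem g2M (D : Fr T V Z) (hML : ML.Final.MLK.{u, u}) {i : Fin 2} (hK : IsKGroup (CC Z i)) (hG : GOneM T V Z i)
    {A : Subgroup G} (hA : Mx (o2 (centralizer (zc T : Set G))) A) (hm : ¬ A ≤ centralizer (NN Z i : Set G)) :
    ¬ A ⊓ centralizer (NN Z i : Set G) ≤ centralizer (WW V Z i : Set G) := by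
  intro hc0
  apply hm
  obtain ⟨h1, h2, h3, -⟩ := D.X_facts i
  have hc : A ⊓ centralizer (NN Z i : Set G) ≤ centralizer ((WW V Z i ⊔ NN Z i : Subgroup G) : Set G) :=
    comm_symm (sup_le (comm_symm hc0) (comm_symm inf_le_right))
  have hXc : WW V Z i ⊔ NN Z i ≤ centralizer ((WW V Z i ⊔ NN Z i : Subgroup G) : Set G) := comm_of_sq h2
  have h7 : (centralizer (A : Set G)).relIndex (WW V Z i ⊔ NN Z i) ≤ (centralizer (A : Set G)).relIndex (NN Z i) := by
    refine (hA.thom (h1.trans (D.Q_le_O i)) h2).trans ?_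
    rw [← (D.mx hML hK hA).1]
    have e1 : (A ⊓ centralizer (NN Z i : Set G)).relIndex A = (centralizer (NN Z i : Set G)).relIndex A :=
      inf_relIndex_left _ _
    rw [← e1]
    exact relIndex_anti hc
  have h8 := sup_of_relIndex_le le_sup_right hXc h7
  have hAC : A ≤ CC Z i := (hA.le.trans D.O_le_T).trans (D.T_le_C i)
  refine hG A hA fun a ha x hx => ?_
  have hNX : NN Z i ≤ WW V Z i ⊔ NN Z i := le_sup_right
  exact comm_le_of_sup (N := NN Z i) (hAC.trans (le_normalizer_V (Z (i + 1)) (CC Z i))) h8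
    ((hXc.trans (centralizer_le hNX)).trans (centralizer_le_normalizer _)) a ha x hx

/-- `A` maximal in `O` moves `N_i` : some maximal `A' ≤ Q_i` moves `V i` -/
theorem g_conjM (D : Fr T V Z) (hML : ML.Final.MLK.{u, u}) {i : Fin 2} (hK : IsKGroup (CC Z i)) (hG : GOneM T V Z i)
    {A : Subgroup G} (hA : Mx (o2 (centralizer (zc T : Set G))) A) (hm : ¬ A ≤ centralizer (NN Z i : Set G)) :
    ∃ B : Subgroup G, Mx (o2 (centralizer (zc T : Set G))) B ∧ B ≤ QQ Z i ∧ ¬ B ≤ centralizer (V i : Set G) := by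
  by_contra hcon
  push Not at hcon
  apply D.g2M hML hK hG hA hm
  obtain ⟨-, h1, h2⟩ := D.mx hML hK hA
  have h3 : WW V Z i ≤ centralizer ((A ⊓ centralizer (NN Z i : Set G) ⊔ NN Z i : Subgroup G) : Set G) := by
    refine V_le fun c hc => ?_
    have e1 : MulAut.conj c⁻¹ • QQ Z i = QQ Z i := conj_eq_of_mem (le_normalizer_o2 _ (inv_mem hc))
    have h4 : MulAut.conj c⁻¹ • (A ⊓ centralizer (NN Z i : Set G) ⊔ NN Z i) ≤ QQ Z i := by
      rw [← e1]; exact conj_le_iff.2 h2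
    have h5 := comm_symm (hcon _ (h1.conj (h4.trans (D.Q_le_O i))) h4)
    have h6 : MulAut.conj c • V i ≤ MulAut.conj c • centralizer
        ((MulAut.conj c⁻¹ • (A ⊓ centralizer (NN Z i : Set G) ⊔ NN Z i) : Subgroup G) : Set G) := conj_le_iff.2 h5
    rwa [conj_cent, conj_conj, mul_inv_cancel, map_one, one_smul] at h6
  exact le_sup_left.trans (comm_symm h3)

/-- **(G3)** for both `i` some maximal `A ≤ Q_i` moves `V i` -/
theorem g3M (D : Fr T V Z) (hML : ML.Final.MLK.{u, u}) (hK : ∀ i, IsKGroup (CC Z i)) (hG : ∀ i, GOneM T V Z i)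
    (i : Fin 2) :
    ∃ A : Subgroup G, Mx (o2 (centralizer (zc T : Set G))) A ∧ A ≤ QQ Z i ∧ ¬ A ≤ centralizer (V i : Set G) := by
  obtain ⟨j, A, hA, hm⟩ := D.exists_move_N
  obtain ⟨B, hB, hBQ, hBm⟩ := D.g_conjM hML (hK j) (hG j) hA hm
  by_cases hij : i = j
  · subst hij; exact ⟨B, hB, hBQ, hBm⟩
  · obtain rfl : i = j + 1 := eq_add_one (Ne.symm hij)
    exact D.g_conjM hML (hK (j + 1)) (hG (j + 1)) hB (D.move_N_of_V hBm)

end Fr

end Cfsg.Agent.Omega.KL.TwoZ
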