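import Cfsg.Agent.Omega.KL.TwoZ.LineI

/-!
# (F2) over the lines (helper918 #24444 (C)): the maximal `A ≤ O₂(C_G(Ω₁Z(S)))` centralise the lines

**`LFr.mx_le_cl`** : `Mx O A → A ≤ C(l i)`; no coordinates: `S` is cyclic on `l i`, `C_S(l i)` acts regularly and the
lines on `V i` are pairwise disjoint.
-/

set_option autoImplicit false
set_option linter.unusedSectionVars false

namespace Cfsg.Agent.Omega.KL.TwoZ.Line

open Subgroup Cfsg Cfsg.Agent.Omega.MinPar
open Cfsg.Agent.ZN (o2 zc)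
open Cfsg.Agent.Omega.NoFF.Basic (conj_conj mem_conj conj_le_iff comm_symm)
open Cfsg.Agent.Omega.NoFF.ThmJFam (card_sup_inf card_conj)
open Cfsg.Agent.Omega.TC.LemZ (card_eq)
open Cfsg.Agent.Omega.KL.TwoS (Mx comm_of_sq)
open Cfsg.Agent.Omega.OM
open scoped Pointwise

universe u

variable {G : Type u} [Group G]

/-- two elements which act on `l` as elements of a cyclic group and have trivial squares -/
theorem cyc_two {t0 : G} {l : Subgroup G} (ht0 : t0 ∈ normalizer (l : Set G)) {a t : G} {m n : ℤ}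
    (ha : a * a = 1) (ht : t * t = 1) (ham : ∀ v ∈ l, a * v * a⁻¹ = t0 ^ m * v * (t0 ^ m)⁻¹)
    (htn : ∀ v ∈ l, t * v * t⁻¹ = t0 ^ n * v * (t0 ^ n)⁻¹) (htl : t ∉ centralizer (l : Set G)) :
    a ∈ centralizer (l : Set G) ∨ a * t ∈ centralizer (l : Set G) := by
  have mem_c : ∀ g : G, g ∈ centralizer (l : Set G) ↔ ∀ v ∈ l, g * v * g⁻¹ = v := by
    intro g
    rw [mem_centralizer_iff]
    constructor
    · intro h v hv
      rw [← h v hv, mul_inv_cancel_right]
    · intro h v hv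
      calc v * g = (g * v * g⁻¹) * g := by rw [h v hv]
        _ = g * v := by group
  let H : AddSubgroup ℤ :=
    { carrier := {k | t0 ^ k ∈ centralizer (l : Set G)}
      zero_mem' := by
        show t0 ^ (0 : ℤ) ∈ centralizer (l : Set G)
        rw [zpow_zero]
        exact one_mem _
      add_mem' := fun {a b} (ha : t0 ^ a ∈ centralizer (l : Set G)) (hb : t0 ^ b ∈ centralizer (l : Set G)) => by
        show t0 ^ (a + b) ∈ centralizer (l : Set G)
        rw [zpow_add]
        exact mul_mem ha hb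
      neg_mem' := fun {a} (ha : t0 ^ a ∈ centralizer (l : Set G)) => by
        show t0 ^ (-a) ∈ centralizer (l : Set G)
        rw [zpow_neg]
        exact inv_mem ha }
  have hln : ∀ (k : ℤ), ∀ v ∈ l, t0 ^ k * v * (t0 ^ k)⁻¹ ∈ l := fun k v hv =>
    (mem_normalizer_iff.1 (zpow_mem ht0 k) v).1 hv
  have dbl : ∀ (g : G) (k : ℤ), g * g = 1 → (∀ v ∈ l, g * v * g⁻¹ = t0 ^ k * v * (t0 ^ k)⁻¹) → k + k ∈ H := by
    intro g k hg hgk
    show t0 ^ (k + k) ∈ centralizer (l : Set G)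
    rw [mem_c]
    intro v hv
    have h1 := hgk _ (hln k v hv)
    rw [← hgk v hv] at h1
    have e1 : g * (g * v * g⁻¹) * g⁻¹ = v := by
      calc g * (g * v * g⁻¹) * g⁻¹ = (g * g) * v * (g * g)⁻¹ := by group
        _ = v := by rw [hg]; group
    rw [e1, hgk v hv] at h1
    rw [zpow_add]
    calc t0 ^ k * t0 ^ k * v * (t0 ^ k * t0 ^ k)⁻¹ = t0 ^ k * (t0 ^ k * v * (t0 ^ k)⁻¹) * (t0 ^ k)⁻¹ := by group
      _ = v := h1.symm
  have toC : ∀ (g : G) (k : ℤ), (∀ v ∈ l, g * v * g⁻¹ = t0 ^ k * v * (t0 ^ k)⁻¹) → k ∈ H →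
      g ∈ centralizer (l : Set G) := by
    intro g k hgk hk
    rw [mem_c]
    intro v hv
    rw [hgk v hv]
    exact (mem_c _).1 hk v hv
  obtain ⟨N, hN⟩ := Int.subgroup_cyclic H
  have mem_H : ∀ k : ℤ, k ∈ H ↔ ∃ c : ℤ, c * N = k := by
    intro k
    rw [hN, AddSubgroup.mem_closure_singleton]
    simp only [smul_eq_mul]
  obtain ⟨α, hα⟩ := (mem_H _).1 (dbl a m ha ham)
  obtain ⟨β, hβ⟩ := (mem_H _).1 (dbl t n ht htn)
  rcases Int.even_or_odd' α with ⟨α', h | h⟩
  · left
    refine toC a m ham ((mem_H _).2 ⟨α', ?_⟩)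
    rw [h] at hα
    linarith
  · rcases Int.even_or_odd' β with ⟨β', h' | h'⟩
    · exfalso
      refine htl (toC t n htn ((mem_H _).2 ⟨β', ?_⟩))
      rw [h'] at hβ
      linarith
    · right
      refine toC (a * t) (m + n) (fun v hv => ?_) ((mem_H _).2 ⟨α' + β' + 1, ?_⟩)
      · have e1 : a * t * v * (a * t)⁻¹ = a * (t * v * t⁻¹) * a⁻¹ := by group
        rw [e1, htn v hv, ham _ (hln n v hv), zpow_add]
        group
      · rw [h] at hα
        rw [h'] at hβ
        linarith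

namespace LFr

variable [Finite G] {S : Sylow 2 G} {V Z l : Fin 2 → Subgroup G} (D : LFr S V Z l)

include D

/-- elements of `C_S(l i)` with the same commutator with one `v ∈ V i - l i` agree on `V i` -/
theorem reg_key {i : Fin 2} {v : G} (hv : v ∈ V i) (hvl : v ∉ l i) {t s : G} (ht : t ∈ (S : Subgroup G))
    (htl : t ∈ centralizer (l i : Set G)) (hs : s ∈ (S : Subgroup G)) (hsl : s ∈ centralizer (l i : Set G))
    (h : t * v * t⁻¹ * v⁻¹ = s * v * s⁻¹ * v⁻¹) : t⁻¹ * s ∈ centralizer (V i : Set G) := by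
  refine D.reg i _ (mul_mem (inv_mem ht) hs) (mul_mem (inv_mem htl) hsl) v hv hvl ?_
  have h1 : t * v * t⁻¹ = s * v * s⁻¹ := mul_right_cancel h
  calc t⁻¹ * s * v = t⁻¹ * (s * v * s⁻¹) * s := by group
    _ = t⁻¹ * (t * v * t⁻¹) * s := by rw [h1]
    _ = v * (t⁻¹ * s) := by group

/-- **(F2)** : the maximal `A ≤ O` centralise the lines -/
theorem mx_le_cl {A : Subgroup G} (hA : Mx (o2 (centralizer (zc (S : Subgroup G) : Set G))) A) (i : Fin 2) :
    A ≤ centralizer (l i : Set G) := by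
  by_contra hcon
  obtain ⟨t, htA, htl⟩ := SetLike.not_le_iff_exists.1 hcon
  have hAS : A ≤ (S : Subgroup G) := hA.le.trans D.O_le_S
  have hVO : V i ≤ o2 (centralizer (zc (S : Subgroup G) : Set G)) := (D.VQ i).trans (D.qq_le_O i)
  have hcm : ∀ a ∈ A, ∀ b ∈ A, a * b = b * a := fun a ha b hb => mem_centralizer_iff.1 (comm_of_sq hA.sq hb) a ha
  have hVc : ∀ x ∈ V i, ∀ y ∈ V i, x * y = y * x := fun x hx y hy => D.V_comm i hx hy
  have hsq : ∀ a ∈ A, a * a = 1 := fun a ha => by rw [← pow_two]; exact hA.sq a ha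
  obtain ⟨t0, ht0, hc⟩ := D.cyc i
  set q := Nat.card (l i) with hq
  -- `|A : C_A(l)| = 2`
  have h2 : (centralizer (l i : Set G)).relIndex A = 2 := by
    rw [Subgroup.relIndex_eq_two_iff]
    refine ⟨t, htA, fun b hb => ?_⟩
    obtain ⟨m, hm⟩ := hc b (hAS hb)
    obtain ⟨n, hn⟩ := hc t (hAS htA)
    rcases cyc_two (D.Sl i ht0) (hsq b hb) (hsq t htA) hm hn htl with h | h
    · refine Or.inr ⟨h, fun h' => htl ?_⟩
      have := mul_mem (inv_mem h) h'
      rwa [inv_mul_cancel_left] at this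
    · refine Or.inl ⟨h, fun h' => htl ?_⟩
      have := mul_mem (inv_mem h') h
      rwa [inv_mul_cancel_left] at this
  obtain ⟨v, hv, hvl⟩ := D.exists_notMem i
  obtain ⟨v0, hv0, hv0l, hv0S⟩ := ThmIq.exists_coset (S := (S : Subgroup G)) (K := V i) (K0 := l i) D.S2 (D.sqV i)
    (fun h => hvl (h hv)) (D.nV i) (D.Sl i)
  set f := Nat.card (l i ⊓ centralizer ({t} : Set G) : Subgroup G) with hf
  have mem_ct : ∀ x : G, x ∈ centralizer ({t} : Set G) ↔ t * x = x * t := by
    intro x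
    rw [mem_centralizer_singleton_iff]
    exact eq_comm
  -- `2 f ≤ q`
  have hf2 : 2 * f ≤ q := by
    have c1 := card_eq (l i) (centralizer ({t} : Set G))
    have c2 : (centralizer ({t} : Set G)).relIndex (l i) ≠ 1 := by
      intro h
      rw [relIndex_eq_one] at h
      exact htl (mem_centralizer_iff.2 fun x hx => ((mem_ct x).1 (h hx)).symm)
    have c3 : (centralizer ({t} : Set G)).relIndex (l i) ≠ 0 := (TwoS.relIndex_pos _ _).ne'
    have c4 : 2 ≤ (centralizer ({t} : Set G)).relIndex (l i) := by omega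
    rw [← hf, ← hq] at c1
    rw [c1, mul_comm]
    exact Nat.mul_le_mul_left f c4
  -- `2 ≤ f`
  have hf1 : 2 ≤ f := by
    have h1 : Z i ≤ l i ⊓ centralizer ({t} : Set G) := by
      refine le_inf (D.Zl i) fun z hz => (mem_ct z).2 ?_
      exact (mem_centralizer_iff.1 (D.Z_cent_S i hz) t (hAS htA))
    have h2 : 1 < Nat.card (Z i) := by
      rw [Subgroup.one_lt_card_iff_ne_bot]
      exact D.ne i
    exact lt_of_lt_of_le h2 (card_le_of_le h1)
  set A0 : Subgroup G := A ⊓ centralizer (l i : Set G) with hA0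
  -- `|A_0 : C(V)| ≤ f`
  have h3 : (centralizer (V i : Set G)).relIndex A0 ≤ f := by
    have hcm2 : ∀ a ∈ A0, a * v0 * a⁻¹ * v0⁻¹ ∈ l i ⊓ centralizer ({t} : Set G) := by
      rintro a ⟨ha, hal⟩
      have h1 := inv_mem (D.root i v0 hv0 a (hAS ha) hal)
      have e : (v0 * a * v0⁻¹ * a⁻¹)⁻¹ = a * v0 * a⁻¹ * v0⁻¹ := by group
      rw [e] at h1
      refine ⟨h1, (mem_ct _).2 ?_⟩
      set x := t * v0 * t⁻¹ * v0⁻¹ with hx
      have hxl : x ∈ l i := hv0S t (hAS htA)
      have e1 : t * v0 * t⁻¹ = x * v0 := by rw [hx]; group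
      have hta : t * a * t⁻¹ = a := by rw [hcm t htA a ha, mul_inv_cancel_right]
      have hax : a * x * a⁻¹ = x := by
        rw [← mem_centralizer_iff.1 hal x hxl, mul_inv_cancel_right]
      have e2 : t * (a * v0 * a⁻¹ * v0⁻¹) * t⁻¹ =
          (t * a * t⁻¹) * (t * v0 * t⁻¹) * (t * a * t⁻¹)⁻¹ * (t * v0 * t⁻¹)⁻¹ := by group
      have e3 : t * (a * v0 * a⁻¹ * v0⁻¹) * t⁻¹ = x * (a * v0 * a⁻¹ * v0⁻¹) * x⁻¹ := by
        rw [e2, hta, e1]
        calc a * (x * v0) * a⁻¹ * (x * v0)⁻¹ = (a * x * a⁻¹) * (a * v0 * a⁻¹) * v0⁻¹ * x⁻¹ := by group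
          _ = x * (a * v0 * a⁻¹) * v0⁻¹ * x⁻¹ := by rw [hax]
          _ = _ := by group
      have e4 : x * (a * v0 * a⁻¹ * v0⁻¹) = (a * v0 * a⁻¹ * v0⁻¹) * x :=
        hVc x (D.lV i hxl) _ (D.lV i h1)
      rw [e4, mul_inv_cancel_right] at e3
      calc t * (a * v0 * a⁻¹ * v0⁻¹) = (t * (a * v0 * a⁻¹ * v0⁻¹) * t⁻¹) * t := by group
        _ = _ := by rw [e3]
    set C : Subgroup A0 := (centralizer (V i : Set G)).subgroupOf A0 with hC
    let g : A0 ⧸ C → (l i ⊓ centralizer ({t} : Set G) : Subgroup G) :=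
      fun r => ⟨(r.out : A0) * v0 * ((r.out : A0) : G)⁻¹ * v0⁻¹, hcm2 _ (r.out : A0).2⟩
    have hg : Function.Injective g := by
      intro r r' h
      have h4 := D.reg_key hv0 hv0l (hAS (r.out : A0).2.1) (r.out : A0).2.2 (hAS (r'.out : A0).2.1)
        (r'.out : A0).2.2 (congrArg Subtype.val h)
      rw [← Quotient.out_eq' r, ← Quotient.out_eq' r']
      exact QuotientGroup.eq.2 (mem_subgroupOf.2 h4)
    exact Nat.card_le_card_of_injective g hg
  -- `|A : C_A(V)| = 2 |A_0 : C_{A_0}(V)|`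
  have hVl : centralizer (V i : Set G) ≤ centralizer (l i : Set G) := centralizer_le (D.lV i)
  have h4 : (centralizer (V i : Set G)).relIndex A = 2 * (centralizer (V i : Set G)).relIndex A0 := by
    have c1 := card_eq A (centralizer (V i : Set G))
    have c2 := card_eq A0 (centralizer (V i : Set G))
    have c3 := card_eq A (centralizer (l i : Set G))
    have e : A0 ⊓ centralizer (V i : Set G) = A ⊓ centralizer (V i : Set G) := by
      apply le_antisymm
      · exact inf_le_inf_right _ inf_le_left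
      · exact le_inf (le_inf inf_le_left (inf_le_right.trans hVl)) inf_le_right
    rw [e] at c2
    rw [h2, ← hA0, c1, c2, mul_assoc, mul_comm _ 2] at c3
    exact Nat.eq_of_mul_eq_mul_left Nat.card_pos c3
  have hth := hA.thom hVO (D.sqV i)
  have cV := card_eq (V i) (centralizer (A : Set G))
  rw [D.cardV i, ← hq] at cV
  by_cases hA0V : A0 ≤ centralizer (V i : Set G)
  · -- `A_0` centralises `V`
    have h5 : (centralizer (V i : Set G)).relIndex A0 = 1 := relIndex_eq_one.2 hA0V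
    rw [h4, h5, mul_one] at hth
    set W : Subgroup G := V i ⊓ centralizer ({t} : Set G) with hW
    have hWV : W ≤ V i := inf_le_left
    have hAW : V i ⊓ centralizer (A : Set G) ≤ W := by
      refine inf_le_inf_left _ fun x hx => (mem_ct x).2 ?_
      exact mem_centralizer_iff.1 hx t htA
    have hWc : q * q ≤ Nat.card W * 2 := by
      rw [cV]
      exact Nat.mul_le_mul (card_le_of_le hAW) hth
    have hWl : W ⊓ l i = l i ⊓ centralizer ({t} : Set G) := by
      apply le_antisymm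
      · exact le_inf inf_le_right (inf_le_left.trans inf_le_right)
      · exact le_inf (le_inf (inf_le_left.trans (D.lV i)) inf_le_right) inf_le_left
    have hlW : l i ≤ centralizer (W : Set G) := fun x hx => mem_centralizer_iff.2 fun y hy =>
      hVc y (hWV hy) x (D.lV i hx)
    -- `V = W l`
    have hsup : V i ≤ W ⊔ l i := by
      have c5 := card_sup_inf (A := W) (B := l i) (comm_symm hlW)
      rw [hWl, ← hf, ← hq] at c5
      have hle : W ⊔ l i ≤ V i := sup_le hWV (D.lV i)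
      have c7 : q * q ≤ Nat.card (W ⊔ l i : Subgroup G) := by
        set c := Nat.card (W ⊔ l i : Subgroup G) with hcdef
        have hq0 : 0 < q := Nat.card_pos
        have d1 : q * q * q ≤ c * q := by
          calc q * q * q ≤ (Nat.card W * 2) * q := Nat.mul_le_mul_right q hWc
            _ = (Nat.card W * q) * 2 := by ring
            _ = (c * f) * 2 := by rw [c5]
            _ = c * (2 * f) := by ring
            _ ≤ c * q := Nat.mul_le_mul_left c hf2
        exact Nat.le_of_mul_le_mul_right d1 hq0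
      exact (Subgroup.eq_of_le_of_card_ge hle (by rw [D.cardV i]; exact c7)).ge
    have hVt : ∀ y ∈ V i, t * y * t⁻¹ * y⁻¹ ∈ l i := by
      intro y hy
      obtain ⟨w, hw, x, hx, rfl⟩ := ThmIq.exists_mul_sup (comm_symm hlW) (hsup hy)
      have hw2 := (mem_ct w).1 hw.2
      have e : t * (w * x) * t⁻¹ * (w * x)⁻¹ = (t * w) * x * t⁻¹ * x⁻¹ * w⁻¹ := by group
      have e2 : (t * w) * x * t⁻¹ * x⁻¹ * w⁻¹ = w * (t * x * t⁻¹ * x⁻¹) * w⁻¹ := by rw [hw2]; group
      have hxt : t * x * t⁻¹ * x⁻¹ ∈ l i :=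
        mul_mem ((mem_normalizer_iff.1 (D.Sl i (hAS htA)) x).1 hx) (inv_mem hx)
      rw [e, e2, hVc w (hWV hw) _ (D.lV i hxt), mul_inv_cancel_right]
      exact hxt
    -- the line through a `t`-fixed vector
    have hpt : PT.IsPt l (l i) := ⟨i, 1, by rw [map_one, one_smul]⟩
    have line : ∀ w ∈ W, w ∉ l i → ∃ k : G, MulAut.conj k • l i ≤ W ∧ w ∈ MulAut.conj k • l i := by
      intro w hw hwl
      have hw1 : w ≠ 1 := fun h => hwl (h ▸ one_mem _)
      obtain ⟨k, hkV, hwk⟩ := D.pts i w hw.1 hw1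
      refine ⟨k, fun y hy => ⟨hkV hy, (mem_ct y).2 ?_⟩, hwk⟩
      have hk1 : PT.IsPt l (MulAut.conj k • l i) := ⟨i, k, rfl⟩
      have hk2 : PT.IsPt l (MulAut.conj t • (MulAut.conj k • l i)) := ⟨i, t * k, by rw [conj_conj]⟩
      have h6 : MulAut.conj t • (MulAut.conj k • l i) = MulAut.conj k • l i := by
        by_contra hne
        have h7 := D.ti _ _ hk2 hk1 hne
        have h8 : w ∈ MulAut.conj t • (MulAut.conj k • l i) ⊓ MulAut.conj k • l i := by
          refine mem_inf.2 ⟨mem_conj.2 ?_, hwk⟩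
          have hw3 := (mem_ct w).1 hw.2
          have e : t⁻¹ * w * t = w := by
            calc t⁻¹ * w * t = t⁻¹ * (w * t) := by group
              _ = w := by rw [← hw3]; group
          rw [e]
          exact hwk
        rw [h7, mem_bot] at h8
        exact hw1 h8
      have h9 : t * y * t⁻¹ ∈ MulAut.conj k • l i := by
        rw [← h6]
        exact conj_mem hy
      have h10 : t * y * t⁻¹ * y⁻¹ ∈ MulAut.conj k • l i ⊓ l i := mem_inf.2 ⟨mul_mem h9 (inv_mem hy), hVt y (hkV hy)⟩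
      have h11 : MulAut.conj k • l i ⊓ l i = ⊥ := D.ti _ _ hk1 hpt (fun h => hwl (h ▸ hwk))
      rw [h11, mem_bot, mul_inv_eq_one] at h10
      calc t * y = (t * y * t⁻¹) * t := by group
        _ = y * t := by rw [h10]
    obtain ⟨w, hwW, hwl⟩ : ∃ w ∈ W, w ∉ l i := by
      by_contra hc2
      push Not at hc2
      have h6 : W ≤ W ⊓ l i := le_inf le_rfl hc2
      rw [hWl] at h6
      have h7 := card_le_of_le h6
      rw [← hf] at h7
      have h8 : q * q ≤ q := by
        calc q * q ≤ Nat.card W * 2 := hWc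
          _ ≤ f * 2 := Nat.mul_le_mul_right 2 h7
          _ = 2 * f := mul_comm _ _
          _ ≤ q := hf2
      nlinarith
    obtain ⟨z, hz, hz1⟩ := D.exists_ne i
    have hzl : z ∈ l i := D.Zl i hz
    have hzW : z ∈ W := ⟨D.ZV i hz, (mem_ct z).2 (mem_centralizer_iff.1 (D.Z_cent_S i hz) t (hAS htA))⟩
    obtain ⟨k, hk, hwk⟩ := line w hwW hwl
    obtain ⟨k', hk', hwk'⟩ := line (z * w) (mul_mem hzW hwW) (fun h => hwl (by
      have := mul_mem (inv_mem hzl) h
      rwa [inv_mul_cancel_left] at this))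
    have hne : MulAut.conj k • l i ≠ MulAut.conj k' • l i := by
      intro h
      have h6 : z ∈ MulAut.conj k • l i := by
        have := mul_mem (h ▸ hwk' : z * w ∈ MulAut.conj k • l i) (inv_mem hwk)
        rwa [mul_inv_cancel_right] at this
      by_cases h7 : MulAut.conj k • l i = l i
      · exact hwl (h7 ▸ hwk)
      · have h8 := D.ti _ _ ⟨i, k, rfl⟩ hpt h7
        have h9 : z ∈ MulAut.conj k • l i ⊓ l i := mem_inf.2 ⟨h6, hzl⟩
        rw [h8, mem_bot] at h9
        exact hz1 h9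
    have hbot := D.ti _ _ ⟨i, k, rfl⟩ ⟨i, k', rfl⟩ hne
    have hcc : MulAut.conj k • l i ≤ centralizer ((MulAut.conj k' • l i : Subgroup G) : Set G) := fun x hx =>
      mem_centralizer_iff.2 fun y hy => hVc y (hWV (hk' hy)) x (hWV (hk hx))
    have c8 := card_sup_inf hcc
    rw [hbot, Subgroup.card_bot, mul_one, card_conj, card_conj, ← hq] at c8
    have h12 : V i ≤ W := by
      have h13 : MulAut.conj k • l i ⊔ MulAut.conj k' • l i ≤ W := sup_le hk hk'
      have h14 := card_le_of_le h13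
      rw [c8] at h14
      exact (Subgroup.eq_of_le_of_card_ge hWV (by rw [D.cardV i]; exact h14)).ge
    exact htl (mem_centralizer_iff.2 fun x hx => ((mem_ct x).1 (h12 (D.lV i hx)).2).symm)
  · -- `A_0` moves `V`
    have h5 : V i ⊓ centralizer (A : Set G) ≤ l i ⊓ centralizer ({t} : Set G) := by
      rintro x ⟨hx, hxA⟩
      refine ⟨?_, (mem_ct x).2 (mem_centralizer_iff.1 hxA t htA)⟩
      by_contra hxl
      exact hA0V fun a ha => D.reg i a (hAS ha.1) ha.2 x hx hxl (mem_centralizer_iff.1 hxA a ha.1)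
    have h6 := card_le_of_le h5
    rw [← hf] at h6
    rw [h4] at hth
    have h7 : q * q ≤ f * (2 * f) := by
      rw [cV]
      exact Nat.mul_le_mul h6 (hth.trans (Nat.mul_le_mul_left 2 h3))
    nlinarith

/-- **THEOREM I(q) over the lines**, (F2) plugged -/
theorem inter' (hML : ML.Final.MLK.{u, u}) (hK : ∀ i, IsKGroup (TwoZ.CC Z i)) (hP : ∀ i, ∃ P E, LE S V Z l i P E)
    (hg3 : ∀ i, ∃ A : Subgroup G, Mx (o2 (centralizer (zc (S : Subgroup G) : Set G))) A ∧ A ≤ TwoZ.QQ Z i ∧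
      ¬ A ≤ centralizer (V i : Set G))
    (hk3 : ∀ (i : Fin 2) (B : Subgroup G), B ≤ o2 (centralizer (zc (S : Subgroup G) : Set G)) →
      (∀ b ∈ B, b ^ 2 = 1) → (∀ j, B ≤ centralizer (l j : Set G)) →
      (centralizer (B : Set G)).relIndex (TwoZ.NN Z i) ≤ (centralizer (TwoZ.NN Z i : Set G)).relIndex B →
      ∀ n ∈ TwoZ.NN Z i, (∀ b ∈ B, b * n * b⁻¹ * n⁻¹ ∈ l i) → ∀ b ∈ B, b * n = n * b) :
    PT.NN l (l 0) ⊓ PT.NN l (l 1) ≤ l 0 ⊔ l 1 :=
  D.inter hML hK hP (fun _ hA i => D.mx_le_cl hA i) hg3 hk3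

end LFr

end Cfsg.Agent.Omega.KL.TwoZ.Line
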