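import Cfsg.Agent.Omega.KL.TwoZ.Line
import Cfsg.Agent.Omega.KL.ThmIqG

/-!
# THEOREM I(q) over the lines (two natural blocks with field automorphisms; helper918 #24444 (C) (F5))

* `LE S V Z l i P E` : `P ≥ S` acts on `V (i+1)`, `E` is normal in `P`, `C_S(l (i+1)) ≤ E`, `S ∩ E ≤ C(l (i+1))`
  (`E` = the part of `P` which acts on `V (i+1)` by matrices of determinant one);
* `LFr.exists_gen`, `LFr.no_N`, `LFr.mx_eq`; `LFr.gdat`;
* **`LFr.inter`** : `N_0 ∩ N_1 ≤ l 0 l 1`.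
-/

set_option autoImplicit false
set_option linter.unusedSectionVars false

namespace Cfsg.Agent.Omega.KL.TwoZ.Line

open Subgroup Cfsg Cfsg.Agent.Omega.MinPar
open Cfsg.Agent.ZN (o2 zc)
open Cfsg.Agent.Omega.OM.KTwo (ne_add_one eq_add_one add_one_add_one le_normalizer_V le_V)
open Cfsg.Agent.MinSimple.MinParabolic (IsMinPar)
open Cfsg.Agent.Omega.NoFF.Basic (conj_conj mem_conj conj_le_iff comm_symm)
open Cfsg.Agent.ZN.ChoiceSit (Syl syl_not_dvd o2_le_syl)
open Cfsg.Agent.MinSimple.VModule (mem_zc zc_le o2_isPGroup o2_le le_o2 le_normalizer_o2 le_centralizer_zc)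
open Cfsg.Agent.Omega.TC.LemZ (card_eq norm_cent)
open Cfsg.Agent.Omega.KL.TwoS (Mx comm_of_sq)
open Cfsg.Agent.Omega.KL.TwoZ (CC)
open Cfsg.Agent.Omega.OM
open scoped Pointwise

universe u

variable {G : Type u} [Group G]

/-- `P ≥ S` acts on `V (i+1)`, and `E` is the part of `P` which acts linearly with determinant one -/
structure LE [Finite G] (S : Sylow 2 G) (V Z l : Fin 2 → Subgroup G) (i : Fin 2) (P E : Subgroup G) : Prop where
  SP : (S : Subgroup G) ≤ P
  PC : P ≤ centralizer (Z i : Set G)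
  PV : P ≤ normalizer (V (i + 1) : Set G)
  mv : ¬ P ≤ normalizer (l (i + 1) : Set G)
  nrm : P ≤ normalizer (((S : Subgroup G) ⊓ centralizer (V (i + 1) : Set G) : Subgroup G) : Set G)
  EP : E ≤ P
  nE : P ≤ normalizer (E : Set G)
  lE : ∀ s ∈ (S : Subgroup G), s ∈ centralizer (l (i + 1) : Set G) → s ∈ E
  El : ∀ s ∈ (S : Subgroup G), s ∈ E → s ∈ centralizer (l (i + 1) : Set G)

/-- the field `nrm` for a minimal parabolic -/
theorem LE.nrm_of [Finite G] {S : Sylow 2 G} {P U : Subgroup G} (hP : IsMinPar (S : Subgroup G) P)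
    (hU : P ≤ normalizer (U : Set G)) (hm : ¬ P ≤ (P ⊓ centralizer (U : Set G)) ⊔ (S : Subgroup G)) :
    P ≤ normalizer (((S : Subgroup G) ⊓ centralizer (U : Set G) : Subgroup G) : Set G) := by
  have hf : Fact (Nat.Prime 2) := ⟨Nat.prime_two⟩
  have hsyl : Syl (S : Subgroup G) P := ⟨hP.le, S.2, fun R _ hR2 hSR => S.3 hR2 hSR⟩
  have hn : P ≤ normalizer ((P ⊓ centralizer (U : Set G) : Subgroup G) : Set G) :=
    ThmIq.le_norm_of_conj fun g hg x hx => ⟨P.mul_mem (P.mul_mem hg hx.1) (P.inv_mem hg),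
      (mem_normalizer_iff.1 (norm_cent hU hg) x).1 hx.2⟩
  rcases hP.sup_eq_or_inf_le S.2 (syl_not_dvd hsyl) inf_le_left hn with h | h
  · exact absurd h.ge hm
  · have h2 : (S : Subgroup G) ⊓ centralizer (U : Set G) = o2 P ⊓ centralizer (U : Set G) := by
      apply le_antisymm
      · exact le_inf ((le_inf inf_le_left (le_inf (inf_le_left.trans hP.le) inf_le_right)).trans h) inf_le_right
      · exact inf_le_inf_right _ (o2_le_syl hsyl)
    rw [h2]
    exact ThmIq.le_norm_of_conj fun g hg x hx =>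
      ⟨(mem_normalizer_iff.1 (le_normalizer_o2 _ hg) x).1 hx.1,
        (mem_normalizer_iff.1 (norm_cent hU hg) x).1 hx.2⟩

namespace LFr

variable [Finite G] {S : Sylow 2 G} {V Z l : Fin 2 → Subgroup G} (D : LFr S V Z l)

include D

theorem CC_inf_eq (i : Fin 2) : CC Z i ⊓ CC Z (i + 1) = centralizer (zc (S : Subgroup G) : Set G) := by
  apply le_antisymm
  · rintro c ⟨h0, h1⟩
    have key : ∀ j, c ∈ CC Z j := by
      intro j
      by_cases hj : i = j
      · exact hj ▸ h0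
      · rw [eq_add_one hj] at *
        exact h1
    rw [D.zT]
    have h2 : Z 0 ⊔ Z 1 ≤ centralizer ({c} : Set G) := by
      refine sup_le (fun x hx => ?_) (fun x hx => ?_)
      · exact mem_centralizer_singleton_iff.2 (mem_centralizer_iff.1 (key 0) x hx)
      · exact mem_centralizer_singleton_iff.2 (mem_centralizer_iff.1 (key 1) x hx)
    rw [mem_centralizer_iff]
    exact fun x hx => mem_centralizer_singleton_iff.1 (h2 hx)
  · exact le_inf (centralizer_le (D.Z_le_zc _)) (centralizer_le (D.Z_le_zc _))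

theorem qq_le_O (i : Fin 2) : TwoZ.QQ Z i ≤ o2 (centralizer (zc (S : Subgroup G) : Set G)) :=
  le_o2 ((D.Q_le_S i).trans (le_centralizer_zc _)) (o2_isPGroup _)
    ((centralizer_le (D.Z_le_zc i)).trans (le_normalizer_o2 _))

theorem O_le_S : o2 (centralizer (zc (S : Subgroup G) : Set G)) ≤ (S : Subgroup G) :=
  o2_le_syl (D.syl (le_centralizer_zc _))

theorem TN_le_O (i : Fin 2) : TwoZ.NN Z i ≤ o2 (centralizer (zc (S : Subgroup G) : Set G)) :=
  (D.TN_le_Q i).trans (D.qq_le_O i)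

/-- **(NO)** on `N_i` for `B ≤ O` -/
theorem no_N (hML : ML.Final.MLK.{u, u}) {i : Fin 2} (hK : IsKGroup (CC Z i)) {B : Subgroup G}
    (hB : B ≤ o2 (centralizer (zc (S : Subgroup G) : Set G))) (hB2 : ∀ b ∈ B, b ^ 2 = 1) :
    (centralizer (TwoZ.NN Z i : Set G)).relIndex B ≤ (centralizer (B : Set G)).relIndex (TwoZ.NN Z i) := by
  refine FlagNO.flag_no hML D.S2 (D.S_le_C i) (syl_not_dvd (D.syl (D.S_le_C i))) (D.S_le_C (i + 1)) hK
    (D.TN_sq i) ?_ hB2
  have h := D.CC_inf_eq i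
  rw [show (centralizer (Z i : Set G) ⊓ centralizer (Z (i + 1) : Set G) : Subgroup G) =
    centralizer (zc (S : Subgroup G) : Set G) from h]
  exact hB

theorem mx_eq (hML : ML.Final.MLK.{u, u}) {i : Fin 2} (hK : IsKGroup (CC Z i)) {A : Subgroup G}
    (hA : Mx (o2 (centralizer (zc (S : Subgroup G) : Set G))) A) :
    (centralizer (TwoZ.NN Z i : Set G)).relIndex A = (centralizer (A : Set G)).relIndex (TwoZ.NN Z i) :=
  le_antisymm (D.no_N hML hK hA.le hA.sq) (hA.thom (D.TN_le_O i) (D.TN_sq i))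

theorem exists_notMem (i : Fin 2) : ∃ v ∈ V i, v ∉ l i := by
  by_contra hc
  push Not at hc
  have h1 := card_le_of_le (show V i ≤ l i from hc)
  have h2 : 1 < Nat.card (l i) := by
    rw [Subgroup.one_lt_card_iff_ne_bot]
    exact fun e => D.ne i (le_bot_iff.1 (e ▸ D.Zl i))
  rw [D.cardV i] at h1
  nlinarith

/-- a maximal `A ≤ O` in `C(l i)` which moves `V i` induces all of `C_S(l i)` on `V i` -/
theorem exists_gen {i : Fin 2} {A : Subgroup G} (hA : Mx (o2 (centralizer (zc (S : Subgroup G) : Set G))) A)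
    (hAl : A ≤ centralizer (l i : Set G)) (hm : ¬ A ≤ centralizer (V i : Set G)) :
    (∀ t ∈ (S : Subgroup G), t ∈ centralizer (l i : Set G) → ∃ a ∈ A, a⁻¹ * t ∈ centralizer (V i : Set G)) ∧
      Nat.card A = Nat.card (l i) * Nat.card (A ⊓ centralizer (V i : Set G) : Subgroup G) := by
  obtain ⟨v, hv, hvl⟩ := D.exists_notMem i
  have hAS : A ≤ (S : Subgroup G) := hA.le.trans D.O_le_S
  have hVO : V i ≤ o2 (centralizer (zc (S : Subgroup G) : Set G)) := (D.VQ i).trans (D.qq_le_O i)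
  have hroot : ∀ t ∈ (S : Subgroup G), t ∈ centralizer (l i : Set G) → t * v * t⁻¹ * v⁻¹ ∈ l i := by
    intro t ht htl
    have h1 := inv_mem (D.root i v hv t ht htl)
    have e : (v * t * v⁻¹ * t⁻¹)⁻¹ = t * v * t⁻¹ * v⁻¹ := by group
    rwa [e] at h1
  have key : ∀ t ∈ (S : Subgroup G), t ∈ centralizer (l i : Set G) → ∀ s ∈ (S : Subgroup G),
      s ∈ centralizer (l i : Set G) → t * v * t⁻¹ * v⁻¹ = s * v * s⁻¹ * v⁻¹ →
        t⁻¹ * s ∈ centralizer (V i : Set G) := by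
    intro t ht htl s hs hsl h
    refine D.reg i _ (mul_mem (inv_mem ht) hs) (mul_mem (inv_mem htl) hsl) v hv hvl ?_
    have h1 : t * v * t⁻¹ = s * v * s⁻¹ := mul_right_cancel h
    calc t⁻¹ * s * v = t⁻¹ * (s * v * s⁻¹) * s := by group
      _ = t⁻¹ * (t * v * t⁻¹) * s := by rw [h1]
      _ = v * (t⁻¹ * s) := by group
  -- `C_{V i}(A) = l i`
  have hfix : V i ⊓ centralizer (A : Set G) = l i := by
    apply le_antisymm
    · rintro x ⟨hx, hxA⟩
      by_contra hxl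
      exact hm fun a ha => D.reg i a (hAS ha) (hAl ha) x hx hxl (mem_centralizer_iff.1 hxA a ha)
    · exact le_inf (D.lV i) (comm_symm hAl)
  have hrel : (centralizer (A : Set G)).relIndex (V i) = Nat.card (l i) := by
    have c1 := card_eq (V i) (centralizer (A : Set G))
    rw [hfix, D.cardV i] at c1
    exact (Nat.eq_of_mul_eq_mul_left Nat.card_pos c1).symm
  have hge : Nat.card (l i) ≤ (centralizer (V i : Set G)).relIndex A := by
    rw [← hrel]
    exact hA.thom hVO (D.sqV i)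
  set C : Subgroup A := (centralizer (V i : Set G)).subgroupOf A with hC
  let g : A ⧸ C → l i := fun q => ⟨(q.out : A) * v * ((q.out : A) : G)⁻¹ * v⁻¹,
    hroot _ (hAS (q.out : A).2) (hAl (q.out : A).2)⟩
  have hg : Function.Injective g := by
    intro q q' h
    have h2 := key _ (hAS (q.out : A).2) (hAl (q.out : A).2) _ (hAS (q'.out : A).2) (hAl (q'.out : A).2)
      (congrArg Subtype.val h)
    rw [← Quotient.out_eq' q, ← Quotient.out_eq' q']
    exact QuotientGroup.eq.2 (mem_subgroupOf.2 h2)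
  have hcard : Nat.card (A ⧸ C) = (centralizer (V i : Set G)).relIndex A := rfl
  have hle : Nat.card (A ⧸ C) ≤ Nat.card (l i) := Nat.card_le_card_of_injective g hg
  have hbij : Function.Bijective g := hg.bijective_of_nat_card_le (by rw [hcard]; exact hge)
  have heq : (centralizer (V i : Set G)).relIndex A = Nat.card (l i) := le_antisymm (hcard ▸ hle) hge
  refine ⟨fun t ht htl => ?_, ?_⟩
  · obtain ⟨q, hq⟩ := hbij.2 ⟨t * v * t⁻¹ * v⁻¹, hroot t ht htl⟩
    exact ⟨(q.out : A), (q.out : A).2, key _ (hAS (q.out : A).2) (hAl (q.out : A).2) t ht htl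
      (congrArg Subtype.val hq)⟩
  · have c1 := card_eq A (centralizer (V i : Set G))
    rw [heq, mul_comm] at c1
    exact c1

/-- **the data of THEOREM I(q)** on one side -/
theorem gdat (hML : ML.Final.MLK.{u, u}) {i : Fin 2} (hK : IsKGroup (CC Z i))
    (hk3 : ∀ B : Subgroup G, B ≤ o2 (centralizer (zc (S : Subgroup G) : Set G)) → (∀ b ∈ B, b ^ 2 = 1) →
      (∀ j, B ≤ centralizer (l j : Set G)) →
      (centralizer (B : Set G)).relIndex (TwoZ.NN Z i) ≤ (centralizer (TwoZ.NN Z i : Set G)).relIndex B →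
      ∀ n ∈ TwoZ.NN Z i, (∀ b ∈ B, b * n * b⁻¹ * n⁻¹ ∈ l i) → ∀ b ∈ B, b * n = n * b)
    {A P E : Subgroup G} (hA : Mx (o2 (centralizer (zc (S : Subgroup G) : Set G))) A)
    (hAl : ∀ j, A ≤ centralizer (l j : Set G))
    (hm : ¬ A ≤ centralizer (V (i + 1) : Set G)) (hP : LE S V Z l i P E) :
    ThmIq.GDat P (S : Subgroup G) A E (TwoZ.NN Z i) (V (i + 1)) (l i) (l (i + 1)) := by
  have hAS : A ≤ (S : Subgroup G) := hA.le.trans D.O_le_S
  obtain ⟨hgen, hcard⟩ := D.exists_gen hA (hAl (i + 1)) hm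
  exact
    { sqN := D.TN_sq i
      sqZ := fun x hx => D.sqV i x (D.lV i hx)
      NZ := D.TN_le_cl i
      PN := hP.PC.trans (le_normalizer_V _ _)
      PV := hP.PV
      PZ := hP.PC.trans (D.C_le_N i)
      VN := D.VN i
      SP := hP.SP
      two := D.S2
      syl := syl_not_dvd (D.syl hP.SP)
      fix := hAl i
      disj := by
        rw [eq_bot_iff]
        rintro x ⟨hx, hx'⟩
        exact mem_bot.2 (D.dis' (ne_add_one i).symm hx (D.lV i hx'))
      le := D.lV (i + 1)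
      ti := fun g _ hgn z hz hgz => by
        by_contra hz1
        exact hgn (mem_norm_iff.2 (D.fuse_eq hz hz1 hgz))
      mv := hP.mv
      AS := hAS
      AE := fun a ha => hP.lE a (hAS ha) (hAl (i + 1) ha)
      EP := hP.EP
      nE := hP.nE
      comm := fun a ha v hv => by
        have h1 := inv_mem (D.root (i + 1) v hv a (hAS ha) (hAl (i + 1) ha))
        have e : (v * a * v⁻¹ * a⁻¹)⁻¹ = a * v * a⁻¹ * v⁻¹ := by group
        rwa [e] at h1
      cent := hAl (i + 1)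
      gen := fun s hs hsE => hgen s hs (hP.El s hs hsE)
      nrm := hP.nrm
      reg := fun a ha ham v hv hav => by
        by_contra hvl
        exact ham (D.reg (i + 1) a (hAS ha) (hAl (i + 1) ha) v hv hvl hav)
      ab := comm_of_sq hA.sq
      cardV := D.cardV (i + 1)
      cardA := hcard
      no := fun C hC => D.no_N hML hK (hC.trans hA.le) fun a ha => hA.sq a (hC ha)
      ex := D.mx_eq hML hK hA
      k3 := fun C hC he => hk3 C (hC.trans hA.le) (fun a ha => hA.sq a (hC ha)) (fun j => hC.trans (hAl j)) he.ge }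

/-- **THEOREM I(q) over the lines** (helper918 #24444 (F5)): `N_0 ∩ N_1 ≤ l 0 l 1` -/
theorem inter (hML : ML.Final.MLK.{u, u}) (hK : ∀ i, IsKGroup (CC Z i)) (hP : ∀ i, ∃ P E, LE S V Z l i P E)
    (hAl : ∀ A, Mx (o2 (centralizer (zc (S : Subgroup G) : Set G))) A → ∀ i, A ≤ centralizer (l i : Set G))
    (hg3 : ∀ i, ∃ A : Subgroup G, Mx (o2 (centralizer (zc (S : Subgroup G) : Set G))) A ∧ A ≤ TwoZ.QQ Z i ∧
      ¬ A ≤ centralizer (V i : Set G))
    (hk3 : ∀ (i : Fin 2) (B : Subgroup G), B ≤ o2 (centralizer (zc (S : Subgroup G) : Set G)) →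
      (∀ b ∈ B, b ^ 2 = 1) → (∀ j, B ≤ centralizer (l j : Set G)) →
      (centralizer (B : Set G)).relIndex (TwoZ.NN Z i) ≤ (centralizer (TwoZ.NN Z i : Set G)).relIndex B →
      ∀ n ∈ TwoZ.NN Z i, (∀ b ∈ B, b * n * b⁻¹ * n⁻¹ ∈ l i) → ∀ b ∈ B, b * n = n * b) :
    PT.NN l (l 0) ⊓ PT.NN l (l 1) ≤ l 0 ⊔ l 1 := by
  rw [D.NN_eq, D.NN_eq]
  have h10 : (1 : Fin 2) + 1 = 0 := rfl
  have h01 : (0 : Fin 2) + 1 = 1 := rfl
  obtain ⟨A, hA, hAQ, hAm⟩ := hg3 1
  obtain ⟨A', hA', hAQ', hAm'⟩ := hg3 0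
  obtain ⟨P, E, hE⟩ := hP 0
  obtain ⟨P', E', hE'⟩ := hP 1
  have F := D.gdat hML (hK 0) (hk3 0) hA (hAl A hA) (by rw [h01]; exact hAm) hE
  have F' := D.gdat hML (hK 1) (hk3 1) hA' (hAl A' hA') (by rw [h10]; exact hAm') hE'
  rw [h01] at F
  rw [h10] at F'
  refine ThmIq.inter_le F F' (hAQ.trans (D.Q_cent_TN 1)) (hAQ'.trans (D.Q_cent_TN 0)) (D.Sl 0) (D.Sl 1) ?_
  intro x hx hxS
  have h1 : (TwoZ.NN Z 0 ⊓ TwoZ.NN Z 1) ⊔ (l 0 ⊔ l 1) ≤ TwoZ.NN Z 0 ⊔ l 0 :=
    sup_le (inf_le_left.trans le_sup_left) (sup_le le_sup_right (((D.lV 1).trans (D.VN 0)).trans le_sup_left))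
  have h2 : TwoZ.NN Z 0 ⊔ l 0 ≤ (S : Subgroup G) :=
    sup_le ((D.TN_le_Q 0).trans (D.Q_le_S 0)) (((D.lV 0).trans (D.VQ 0)).trans (D.Q_le_S 0))
  have h3 : x ∈ zc (S : Subgroup G) := mem_zc.2 ⟨h2 (h1 hx), fun b hb => mem_centralizer_iff.1 hxS b hb,
    ThmIq.sq_sup_of (D.TN_le_cl 0) (D.TN_sq 0) (fun x hx => D.sqV 0 x (D.lV 0 hx)) x (h1 hx)⟩
  rw [D.zT] at h3
  exact sup_le_sup (D.Zl 0) (D.Zl 1) h3

end LFr

end Cfsg.Agent.Omega.KL.TwoZ.Line
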