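import Mathlib

/-!
# A cyclic Sylow 2-subgroup whose fixed vectors are fixed by everything

`A` acts on an elementary abelian 2-group `l`, the image of a Sylow 2-subgroup `P` is cyclic and `A` fixes `C_l(P)`
pointwise: then the elements of `A` of odd order act trivially on `l` (used for: `C_G(Z_i) = C_G(l_i) S` for a line
`l_i` on which `S` induces field automorphisms).
-/

set_option autoImplicit false

namespace Cfsg.Agent.Omega.KL.TwoZ.CycFix

open Subgroup

/-- the faithful case: `R` acts faithfully, `P` is a cyclic Sylow 2-subgroup -/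
theorem fix_of_cyclic {R : Type*} [Group R] [Finite R] {l : Type*} [CommGroup l] [Finite l]
    [MulDistribMulAction R l] (hl : ∀ v : l, v * v = 1) (P : Sylow 2 R) (hP : IsCyclic P)
    (hfix : ∀ v : l, (∀ p ∈ P, p • v = v) → ∀ a : R, a • v = v) :
    ∀ a : R, Odd (orderOf a) → ∀ v : l, a • v = v := by
  classical
  have h2 : Fact (Nat.Prime 2) := ⟨Nat.prime_two⟩
  by_cases hev : 2 ∣ Nat.card R
  swap
  · -- odd order
    have hb : ∀ p ∈ P, p = (1 : R) := by
      intro p hp
      obtain ⟨k, hk⟩ := P.2.exists_card_eq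
      have h3 : Nat.card P ∣ Nat.card R := card_subgroup_dvd_card _
      have h4 : Nat.card P = 1 := by
        rcases k with _ | k
        · simpa using hk
        · exact absurd ((dvd_pow_self 2 (Nat.succ_ne_zero k)).trans (hk ▸ h3)) hev
      have h5 : (P : Subgroup R) = ⊥ := (card_eq_one).1 h4
      have h6 : p ∈ (P : Subgroup R) := hp
      rw [h5, mem_bot] at h6
      exact h6
    intro a _ v
    exact hfix v (fun p hp => by rw [hb p hp, one_smul]) a
  have hmin : (Nat.card R).minFac = 2 := (Nat.minFac_eq_two_iff _).2 hev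
  have hc := hP.isComplement' hmin
  set N := (MonoidHom.transferSylow P (hP.normalizer_le_centralizer hmin)).ker with hN
  have hNn : N.Normal := by rw [hN]; infer_instance
  -- `|N|` is odd
  have hNcard : ¬ 2 ∣ Nat.card N := by
    have h3 := MonoidHom.not_dvd_card_ker_transferSylow P (hP.normalizer_le_centralizer hmin)
    rwa [← hN] at h3
  have hNodd : Odd (Nat.card N) := Nat.not_even_iff_odd.1 fun h => hNcard h.two_dvd
  -- the elements of odd order are in `N`
  have hmemN : ∀ a : R, Odd (orderOf a) → a ∈ N := by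
    intro a ha
    rw [hN, MonoidHom.mem_ker]
    have h3 : orderOf (MonoidHom.transferSylow P (hP.normalizer_le_centralizer hmin) a) ∣ orderOf a :=
      orderOf_map_dvd _ _
    obtain ⟨k, hk⟩ := P.2.exists_card_eq
    have h4 : orderOf (MonoidHom.transferSylow P (hP.normalizer_le_centralizer hmin) a) ∣ 2 ^ k := by
      rw [← hk]; exact orderOf_dvd_natCard _
    have h5 : Nat.Coprime (orderOf a) (2 ^ k) := (Nat.Coprime.pow_right k (Nat.coprime_two_right.2 ha))
    exact orderOf_eq_one_iff.1 (Nat.eq_one_of_dvd_coprimes h5 h3 h4)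
  have := Fintype.ofFinite N
  -- the product over `N`
  let e : l → l := fun v => ∏ n : N, (n : R) • v
  have e_mul : ∀ v w, e (v * w) = e v * e w := fun v w => by
    simp only [e, smul_mul', Finset.prod_mul_distrib]
  have e_smul : ∀ (r : R) v, e (r • v) = r • e v := by
    intro r v
    simp only [e, Finset.smul_prod']
    refine Finset.prod_equiv (MulAut.conjNormal (H := N) r⁻¹).toEquiv (by simp) fun n _ => ?_
    show (n : R) • r • v = r • ((MulAut.conjNormal (H := N) r⁻¹ n : N) : R) • v
    rw [MulAut.conjNormal_apply, smul_smul, smul_smul]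
    congr 1
    group
  have e_N : ∀ (n : R), n ∈ N → ∀ v, n • e v = e v := by
    intro n hn v
    simp only [e, Finset.smul_prod']
    refine Finset.prod_equiv (Equiv.mulLeft (⟨n, hn⟩ : N)) (by simp) fun m _ => ?_
    show n • (m : R) • v = ((⟨n, hn⟩ * m : N) : R) • v
    rw [smul_smul]; rfl
  have hodd : ∀ v : l, v ^ (Nat.card N) = v := by
    intro v
    obtain ⟨m, hm⟩ := hNodd
    rw [hm, pow_succ, pow_mul, pow_two, hl v, one_pow, one_mul]
  have e_fix : ∀ v : l, (∀ n ∈ N, n • v = v) → e v = v := by
    intro v hv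
    have h3 : e v = ∏ _n : N, v := Finset.prod_congr rfl fun n _ => hv n n.2
    rw [h3, Finset.prod_const, Finset.card_univ, ← Nat.card_eq_fintype_card, hodd]
  -- the kernel of `e`
  let K : Subgroup l :=
    { carrier := {v | e v = 1}
      one_mem' := by
        show e 1 = 1
        exact e_fix 1 fun n _ => smul_one n
      mul_mem' := by
        intro v w hv hw
        show e (v * w) = 1
        rw [e_mul, show e v = 1 from hv, show e w = 1 from hw, one_mul]
      inv_mem' := by
        intro v hv
        show e v⁻¹ = 1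
        have h3 : v⁻¹ = v := inv_eq_of_mul_eq_one_left (hl v)
        rw [h3]; exact hv }
  have hK : K = ⊥ := by
    by_contra hne
    obtain ⟨w, hw1⟩ := (Subgroup.ne_bot_iff_exists_ne_one).1 hne
    -- `P` acts on `K`
    let act : MulAction P K :=
      { smul := fun p v => ⟨(p : R) • (v : l), by
          show e ((p : R) • (v : l)) = 1
          rw [e_smul, show e (v : l) = 1 from v.2, smul_one]⟩
        one_smul := fun v => Subtype.ext (one_smul R (v : l))
        mul_smul := fun p q v => Subtype.ext (mul_smul (p : R) (q : R) (v : l)) }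
    have h3 : 2 ∣ Nat.card K := by
      have h4 : orderOf (w : K) = 2 := by
        refine orderOf_eq_prime ?_ hw1
        rw [pow_two]
        exact Subtype.ext (hl (w : l))
      rw [← h4]
      exact orderOf_dvd_natCard _
    obtain ⟨b, hb, hb1⟩ := P.2.exists_fixed_point_of_prime_dvd_card_of_fixed_point K h3 (a := 1)
      (fun p => Subtype.ext (smul_one (p : R)))
    have hb2 : ∀ a : R, a • (b : l) = b := hfix b fun p hp => by
      have := hb ⟨p, hp⟩
      exact congrArg Subtype.val this
    have h5 : e (b : l) = b := e_fix _ fun n _ => hb2 n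
    have h6 : e (b : l) = 1 := b.2
    exact hb1 (Subtype.ext (by rw [← h5, h6]; rfl))
  intro a ha v
  have h7 : e v * v ∈ K := by
    show e (e v * v) = 1
    rw [e_mul, e_fix (e v) fun n hn => e_N n hn v, hl]
  rw [hK, mem_bot] at h7
  have h8 : v = e v := by
    have h9 : e v * v = e v * e v := by rw [h7, hl]
    exact mul_left_cancel h9
  rw [h8]
  exact e_N a (hmemN a ha) v

/-- the general case: the image of `P` on `l` is generated by one element -/
theorem fix_odd {A : Type*} [Group A] [Finite A] {l : Type*} [CommGroup l] [Finite l]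
    [MulDistribMulAction A l] (hl : ∀ v : l, v * v = 1) (P : Subgroup A) (hP2 : IsPGroup 2 P) (hPi : ¬ 2 ∣ P.index)
    (t : A) (ht : t ∈ P) (hcyc : ∀ p ∈ P, ∃ n : ℤ, ∀ v : l, p • v = t ^ n • v)
    (hfix : ∀ v : l, (∀ p ∈ P, p • v = v) → ∀ a : A, a • v = v) :
    ∀ a : A, Odd (orderOf a) → ∀ v : l, a • v = v := by
  classical
  have h2 : Fact (Nat.Prime 2) := ⟨Nat.prime_two⟩
  let φ : A →* MulAut l := MulDistribMulAction.toMulAut A l
  let R := φ.range
  let ψ : A →* R := φ.rangeRestrict
  have hψ : Function.Surjective ψ := φ.rangeRestrict_surjective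
  let actR : MulDistribMulAction R l := MulDistribMulAction.compHom l R.subtype
  have hact : ∀ (a : A) (v : l), ψ a • v = a • v := fun a v => rfl
  let S : Sylow 2 A := IsPGroup.toSylow hP2 hPi
  let Q : Sylow 2 R := S.mapSurjective hψ
  have hQ : ∀ p, p ∈ Q ↔ ∃ a ∈ P, ψ a = p := fun p => Iff.rfl
  have hQc : IsCyclic Q := by
    refine ⟨⟨⟨ψ t, (hQ _).2 ⟨t, ht, rfl⟩⟩, ?_⟩⟩
    rintro ⟨p, hp⟩
    obtain ⟨a, ha, rfl⟩ := (hQ p).1 hp
    obtain ⟨n, hn⟩ := hcyc a ha
    refine ⟨n, Subtype.ext ?_⟩
    show (ψ t) ^ n = ψ a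
    rw [← map_zpow]
    refine Subtype.ext (MulEquiv.ext fun v => ?_)
    show (t ^ n) • v = a • v
    rw [hn v]
  have h3 := fix_of_cyclic hl Q hQc (fun v hv r => by
    obtain ⟨a, rfl⟩ := hψ r
    exact hfix v (fun p hp => hv (ψ p) ((hQ _).2 ⟨p, hp, rfl⟩)) a)
  intro a ha v
  refine h3 (ψ a) (Odd.of_dvd_nat ha (orderOf_map_dvd _ _)) v

end Cfsg.Agent.Omega.KL.TwoZ.CycFix
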