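import Cfsg.Agent.Omega.KL.TwoZ.Fr
import Cfsg.Agent.Omega.KL.TwoS.Ex

/-!
# (NO) for flags, K-free of frames (863 `Sigma/Loc`, here for any `Y ≥ T`; 692 #24722 (2a))

`Y` a K-group with Sylow 2-subgroup `T`, `Z ≤ O₂(Y)` elementary abelian, centralised by `T`.

* `FlagIn Y T Z`, `FlagIn.mono`;
* `FlagIn.inf_le` : `O₂(C_Y(Z)) ∩ C(⟨Z ^ Y⟩) ≤ O₂(Y)`;
* **`FlagIn.noFlag`** : `|B : C_B(U)| ≤ |U : C_U(B)|` for elementary abelian `B ≤ O₂(C_Y(Z))` and `U = ⟨Z ^ Y⟩`.
-/

set_option autoImplicit false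
set_option linter.unusedSectionVars false

namespace Cfsg.Agent.Omega.KL.FlagY

open Subgroup Cfsg
open Cfsg.Agent.ZN (o2 zc)
open Cfsg.Agent.Omega.OM.KTwo (le_normalizer_V le_V)
open Cfsg.Agent.Omega.NoFF.Basic (conj_conj mem_conj conj_le_iff comm_symm comm_mono Z_le_V V_le)
open Cfsg.Agent.MinSimple.VModule (le_o2 o2_isPGroup o2_le le_normalizer_o2 o2_le_of_sylow)
open Cfsg.Agent.Omega.TC (kgroup_mono)
open Cfsg.Agent.Omega.TC.LemZ (norm_cent le_norm_of)
open Cfsg.Agent.Omega.KL.TwoZ (V_le_of sq_V)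
open Cfsg.Agent.Omega.KL.TwoS (relIndex_pos relIndex_mono relIndex_anti relIndex_split)
open scoped Pointwise

universe u

variable {G : Type u} [Group G]

/-- the input -/
structure FlagIn (Y T Z : Subgroup G) : Prop where
  two : IsPGroup 2 T
  TY : T ≤ Y
  syl : ¬ 2 ∣ T.relIndex Y
  TZ : T ≤ centralizer (Z : Set G)
  sq : ∀ z ∈ Z, z ^ 2 = 1
  ZQ : Z ≤ o2 Y
  KY : IsKGroup Y

/-- Multiplying the inequalities of `(A, U₁)` and of `(C_A(U₁), N)`. -/
theorem nov_mul [Finite G] {A U U₁ N : Subgroup G} (hU₁ : U₁ ≤ U) (hN : N ≤ U)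
    (h : A ⊓ centralizer (U₁ : Set G) ⊓ centralizer (N : Set G) ≤ centralizer (U : Set G))
    (h1 : (centralizer (U₁ : Set G)).relIndex A ≤ (centralizer (A : Set G)).relIndex U₁)
    (h2 : (centralizer (N : Set G)).relIndex (A ⊓ centralizer (U₁ : Set G)) ≤
      (centralizer ((A ⊓ centralizer (U₁ : Set G) : Subgroup G) : Set G)).relIndex N) :
    (centralizer (U : Set G)).relIndex A ≤ (centralizer (A : Set G)).relIndex U := by
  set A₁ := A ⊓ centralizer (U₁ : Set G) with hA₁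
  set K := U ⊓ centralizer (A₁ : Set G) with hK
  have e1 : (centralizer (U : Set G)).relIndex A ≤
      (centralizer (N : Set G)).relIndex A₁ * (centralizer (U₁ : Set G)).relIndex A := by
    rw [← inf_relIndex_left A (centralizer (U : Set G)), ← relIndex_mul_relIndex (A ⊓ centralizer (U : Set G)) A₁ A
      (inf_le_inf_left _ (centralizer_le hU₁)) inf_le_left]
    refine Nat.mul_le_mul ?_ ?_
    · rw [← inf_relIndex_left A₁ (centralizer (N : Set G))]
      exact relIndex_anti (le_inf (inf_le_left.trans inf_le_left) h)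
    · rw [hA₁, inf_relIndex_left]
  have e2 : (centralizer (A₁ : Set G)).relIndex N * (centralizer (A : Set G)).relIndex U₁ ≤
      (centralizer (A : Set G)).relIndex U := by
    have hU₁K : U₁ ≤ K := le_inf hU₁ (comm_symm inf_le_right)
    rw [← inf_relIndex_left U (centralizer (A : Set G)), ← relIndex_mul_relIndex (U ⊓ centralizer (A : Set G)) K U
      (inf_le_inf_left _ (centralizer_le inf_le_left)) inf_le_left, Nat.mul_comm]
    refine Nat.mul_le_mul ?_ ?_
    · refine le_trans (le_of_eq ?_) (relIndex_mono hU₁K)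
      rw [← inf_relIndex_right (U ⊓ centralizer (A : Set G)) U₁, ← inf_relIndex_right (centralizer (A : Set G)) U₁]
      congr 1
      rw [inf_comm U, inf_assoc, inf_eq_right.2 hU₁]
    · rw [hK, inf_relIndex_left]
      exact relIndex_mono hN
  exact e1.trans ((Nat.mul_le_mul h2 h1).trans e2)

namespace FlagIn

variable [Finite G] {Y T Z : Subgroup G} (h : FlagIn Y T Z)

include h

theorem o2_le_T : o2 Y ≤ T := o2_le_of_sylow h.two h.syl

theorem mono {R : Subgroup G} (hT : T ≤ R) (hR : R ≤ Y) : FlagIn R T Z := by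
  refine ⟨h.two, hT, fun h1 => h.syl ?_, h.TZ, h.sq, h.ZQ.trans ?_, kgroup_mono h.KY hR⟩
  · rw [← relIndex_mul_relIndex T R Y hT hR]
    exact h1.mul_right _
  · exact le_o2 (h.o2_le_T.trans hT) (o2_isPGroup _) (hR.trans (le_normalizer_o2 Y))

theorem o2_le_cent : o2 Y ≤ centralizer (NoFF.Basic.V Z Y : Set G) :=
  comm_symm (V_le_of (comm_symm (h.o2_le_T.trans h.TZ)) (norm_cent (le_normalizer_o2 _)))

theorem V_le_Q : NoFF.Basic.V Z Y ≤ o2 Y := V_le_of h.ZQ (le_normalizer_o2 _)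

theorem V_comm : NoFF.Basic.V Z Y ≤ centralizer (NoFF.Basic.V Z Y : Set G) := h.V_le_Q.trans h.o2_le_cent

theorem V_sq : ∀ x ∈ NoFF.Basic.V Z Y, x ^ 2 = 1 := sq_V h.sq h.V_comm

/-- `O₂(C_Y(Z)) ∩ C(⟨Z ^ Y⟩) ≤ O₂(Y)` -/
theorem inf_le {B : Subgroup G} (hB : B ≤ o2 (Y ⊓ centralizer (Z : Set G))) :
    B ⊓ centralizer (NoFF.Basic.V Z Y : Set G) ≤ o2 Y := by
  have h1 := GenTool.o2_inf_le (L := Y) (N := Y ⊓ centralizer (NoFF.Basic.V Z Y : Set G))
    (R := Y ⊓ centralizer (Z : Set G)) inf_le_left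
    (fun g hg x hx => ⟨Y.mul_mem (Y.mul_mem hg hx.1) (Y.inv_mem hg),
      (mem_normalizer_iff.1 (norm_cent (le_normalizer_V Z Y) hg) x).1 hx.2⟩)
    (inf_le_inf_left _ (centralizer_le (le_V Z Y)))
  refine le_trans (le_inf (inf_le_left.trans hB) (le_inf ?_ inf_le_right)) h1
  exact (inf_le_left.trans hB).trans ((o2_le _).trans inf_le_left)

/-- `O₂(Y ∩ C(z)) ∩ C(⟨z ^ Y⟩) ≤ O₂(Y)` -/
theorem inf_le_z {z : G} :
    o2 (Y ⊓ centralizer ({z} : Set G)) ⊓ centralizer (NoFF.Basic.V (zpowers z) Y : Set G) ≤ o2 Y := by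
  have h1 := GenTool.o2_inf_le (L := Y) (N := Y ⊓ centralizer (NoFF.Basic.V (zpowers z) Y : Set G))
    (R := Y ⊓ centralizer ({z} : Set G)) inf_le_left
    (fun g hg x hx => ⟨Y.mul_mem (Y.mul_mem hg hx.1) (Y.inv_mem hg),
      (mem_normalizer_iff.1 (norm_cent (le_normalizer_V (zpowers z) Y) hg) x).1 hx.2⟩)
    (inf_le_inf_left _ (centralizer_le (Set.singleton_subset_iff.2 (le_V _ _ (mem_zpowers z)))))
  refine le_trans (le_inf inf_le_left (le_inf ?_ inf_le_right)) h1
  exact inf_le_left.trans ((o2_le _).trans inf_le_left)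

/-- **(NO)** at `z` -/
theorem no_z (ml : ML.Final.MLK.{u, u}) {z : G} (hz : z ∈ Z) {B : Subgroup G}
    (hB : B ≤ o2 (Y ⊓ centralizer ({z} : Set G))) (el : ∀ b ∈ B, b ^ 2 = 1) :
    (centralizer (NoFF.Basic.V (zpowers z) Y : Set G)).relIndex B ≤
      (centralizer (B : Set G)).relIndex (NoFF.Basic.V (zpowers z) Y) := by
  set W : Subgroup G := NoFF.Basic.V (zpowers z) Y with hW
  have hzW : z ∈ W := le_V _ _ (mem_zpowers z)
  have hYW : Y ≤ normalizer (W : Set G) := le_normalizer_V _ _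
  have hWV : W ≤ NoFF.Basic.V Z Y := V_le_of ((zpowers_le.2 hz).trans (le_V _ _)) (le_normalizer_V _ _)
  have hcom : ∀ q ∈ centralizer ({z} : Set G), q * z * q⁻¹ * z⁻¹ ∈ (⊥ : Subgroup G) := by
    intro q hq
    rw [mem_bot, ← mem_centralizer_iff.1 hq z rfl, mul_inv_cancel_right, mul_inv_cancel]
  have hTz : T ≤ centralizer ({z} : Set G) := h.TZ.trans (centralizer_le (Set.singleton_subset_iff.2 hz))
  have hbot : ∀ g : G, g ∈ normalizer ((⊥ : Subgroup G) : Set G) := fun g => by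
    rw [mem_normalizer_iff]
    intro x
    rw [mem_bot, mem_bot, conj_eq_one_iff]
  have hmain : (B ⊓ centralizer (W : Set G)).relIndex B ≤ (W ⊓ centralizer (B : Set G)).relIndex W := by
    refine ml.grp (C := Y) (W := W) (Y := ⊥) (T := T) (Q := o2 (Y ⊓ centralizer ({z} : Set G))) (A := B)
      (w := z) h.KY ?_ (KA := B ⊓ centralizer (W : Set G)) (CW := W ⊓ centralizer (B : Set G)) ?_ ?_
    · refine ⟨hYW, fun g _ => hbot g, bot_le, fun g _ => hbot g, ?_, hzW, ?_, h.TY, h.two, h.syl,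
        fun t ht => hcom t (hTz ht), (o2_le _).trans inf_le_left, o2_isPGroup _,
        fun q hq => hcom q (o2_le _ hq).2, ?_, hB, ?_⟩
      · intro x hx
        rw [← pow_two, h.V_sq x (hWV hx)]
        exact one_mem _
      · intro U hU _ hHU
        exact V_le_of (zpowers_le.2 hU) hHU
      · intro g hg hgz q hq
        have h1 : g ∈ Y ⊓ centralizer ({z} : Set G) := by
          refine mem_inf.2 ⟨hg, mem_centralizer_singleton_iff.2 ?_⟩
          rw [mem_bot, mul_inv_eq_one] at hgz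
          calc g * z = (g * z * g⁻¹) * g := by group
            _ = z * g := by rw [hgz]
        exact (mem_normalizer_iff.1 (le_normalizer_o2 _ h1) q).1 hq
      · intro a ha x _
        have h1 : a * a = 1 := by rw [← pow_two]; exact el a ha
        have e : a * (a * x * a⁻¹) * a⁻¹ * x⁻¹ = (a * a) * x * (a * a)⁻¹ * x⁻¹ := by group
        rw [e, h1]
        simp
    · intro a
      constructor
      · rintro ⟨h1, h2⟩
        refine ⟨h1, fun x hx => ?_⟩
        have h3 := mem_centralizer_iff.1 h2 x hx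
        rw [← h3, mul_inv_cancel_right, mul_inv_cancel]
        exact one_mem _
      · rintro ⟨h1, h2⟩
        refine ⟨h1, mem_centralizer_iff.2 fun x hx => ?_⟩
        have h3 := h2 x hx
        rw [mem_bot, mul_inv_eq_one] at h3
        calc x * a = (a * x * a⁻¹) * a := by rw [h3]
          _ = a * x := by group
    · intro x
      constructor
      · rintro ⟨h1, h2⟩
        refine ⟨h1, fun a ha => ?_⟩
        rw [mem_centralizer_iff.1 h2 a ha, mul_inv_cancel_right, mul_inv_cancel]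
        exact one_mem _
      · rintro ⟨h1, h2⟩
        refine ⟨h1, mem_centralizer_iff.2 fun a ha => ?_⟩
        have h3 := h2 a ha
        rw [mem_bot, mul_inv_eq_one] at h3
        calc a * x = (a * x * a⁻¹) * a := by group
          _ = x * a := by rw [h3]
  rwa [inf_relIndex_left, inf_relIndex_left] at hmain

end FlagIn

/-- **(NO) for flags** -/
theorem FlagIn.noFlag [Finite G] (ml : ML.Final.MLK.{u, u}) {T Z B : Subgroup G} (el : ∀ b ∈ B, b ^ 2 = 1) :
    ∀ {Y : Subgroup G}, FlagIn Y T Z → B ≤ o2 (Y ⊓ centralizer (Z : Set G)) →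
    (centralizer (NoFF.Basic.V Z Y : Set G)).relIndex B ≤ (centralizer (B : Set G)).relIndex (NoFF.Basic.V Z Y) := by
  suffices key : ∀ n : ℕ, ∀ Y : Subgroup G, Nat.card Y = n → FlagIn Y T Z → B ≤ o2 (Y ⊓ centralizer (Z : Set G)) →
      (centralizer (NoFF.Basic.V Z Y : Set G)).relIndex B ≤ (centralizer (B : Set G)).relIndex (NoFF.Basic.V Z Y) from
    fun {Y} h hB => key _ Y rfl h hB
  intro n
  induction n using Nat.strong_induction_on with
  | _ n ih =>
    rintro Y rfl h hB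
    by_cases hall : ∀ z ∈ Z, Y ≤ centralizer ({z} : Set G)
    · have h1 : Y ≤ centralizer (Z : Set G) := by
        intro g hg
        rw [mem_centralizer_iff]
        exact fun z hz => mem_centralizer_iff.1 (hall z hz hg) z rfl
      have h2 : B ≤ centralizer (NoFF.Basic.V Z Y : Set G) :=
        ((hB.trans (o2_le _)).trans inf_le_right).trans
          (centralizer_le (V_le_of le_rfl (h1.trans (centralizer_le_normalizer _))))
      rw [relIndex_eq_one.2 h2]
      exact relIndex_pos _ _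
    push Not at hall
    obtain ⟨z, hz, hzY⟩ := hall
    set R := Y ⊓ centralizer ({z} : Set G) with hR
    have hTz : T ≤ centralizer ({z} : Set G) := h.TZ.trans (centralizer_le (Set.singleton_subset_iff.2 hz))
    have hlt : Nat.card R < Nat.card Y := by
      refine lt_of_le_of_ne (Subgroup.card_le_of_le inf_le_left) fun he => hzY ?_
      have h1 : R = Y := Subgroup.eq_of_le_of_card_ge inf_le_left he.ge
      rw [← h1]
      exact inf_le_right
    have hRf : FlagIn R T Z := h.mono (le_inf h.TY hTz) inf_le_left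
    have e : R ⊓ centralizer (Z : Set G) = Y ⊓ centralizer (Z : Set G) := by
      rw [hR, inf_assoc, inf_eq_right.2 (centralizer_le (Set.singleton_subset_iff.2 hz))]
    have hB' : B ≤ o2 (R ⊓ centralizer (Z : Set G)) := by rw [e]; exact hB
    have ih₁ := ih _ hlt R rfl hRf hB'
    have hA₁o : B ⊓ centralizer (NoFF.Basic.V Z R : Set G) ≤ o2 R := hRf.inf_le hB'
    have hz' := h.no_z ml hz hA₁o (fun b hb => el b hb.1)
    refine nov_mul ?_ ?_ ?_ ih₁ hz'
    · exact V_le_of (le_V _ _) (inf_le_left.trans (le_normalizer_V _ _))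
    · exact V_le_of ((zpowers_le.2 hz).trans (le_V _ _)) (le_normalizer_V _ _)
    · exact ((inf_le_inf_right _ hA₁o).trans h.inf_le_z).trans h.o2_le_cent

/-- **(NO) for flags**, `T ≤ H ≤ C` : `B` lies in a 2-subgroup `O ≤ H` normalised by `C_H(Z)` -/
theorem no_H_gen [Finite G] (ml : ML.Final.MLK.{u, u}) {C H T Z O B : Subgroup G} (h : FlagIn C T Z) (hT : T ≤ H)
    (hH : H ≤ C) (hO : IsPGroup 2 O) (hOH : O ≤ H) (hOZ : O ≤ centralizer (Z : Set G))
    (hOn : H ⊓ centralizer (Z : Set G) ≤ normalizer (O : Set G)) (hB : B ≤ O) (el : ∀ b ∈ B, b ^ 2 = 1) :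
    (centralizer (NoFF.Basic.V Z H : Set G)).relIndex B ≤ (centralizer (B : Set G)).relIndex (NoFF.Basic.V Z H) :=
  FlagIn.noFlag ml el (h.mono hT hH) (hB.trans (le_o2 (le_inf hOH hOZ) hO hOn))

end Cfsg.Agent.Omega.KL.FlagY

namespace Cfsg.Agent.Omega.KL.TwoZ

open Subgroup Cfsg
open Cfsg.Agent.ZN (o2 zc)
open Cfsg.Agent.ZN.ChoiceSit (Syl)
open Cfsg.Agent.MinSimple.VModule (le_o2 o2_isPGroup o2_le le_normalizer_o2)

universe u

variable {G : Type u} [Group G] [Finite G] {T : Subgroup G} {V Z : Fin 2 → Subgroup G} (D : Fr T V Z)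

include D

theorem Fr.flagIn {i : Fin 2} (hK : IsKGroup (CC Z i)) : FlagY.FlagIn (CC Z i) T (Z (i + 1)) :=
  ⟨D.T_isPGroup, D.T_le_C i, Cfsg.Agent.ZN.ChoiceSit.syl_not_dvd (D.syl i), D.T_le_C (i + 1), D.Z_sq (i + 1),
    D.Z_le_Q i (i + 1), hK⟩

/-- `Fr.no_H` without the fields `mvs`, `nT` -/
theorem Fr.no_H_flag (hML : ML.Final.MLK.{u, u}) {i : Fin 2} {H A : Subgroup G} (hK : IsKGroup (CC Z i)) (hT : T ≤ H)
    (hH : H ≤ CC Z i) (hA : A ≤ o2 (centralizer (zc T : Set G))) (hA2 : ∀ a ∈ A, a ^ 2 = 1) :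
    (centralizer (NH Z i H : Set G)).relIndex A ≤ (centralizer (A : Set G)).relIndex (NH Z i H) :=
  FlagY.no_H_gen hML (D.flagIn hK) hT hH (o2_isPGroup _) (D.O_le_T.trans hT) (D.O_le_T.trans (D.T_le_C (i + 1)))
    (fun _ hx => le_normalizer_o2 _ (D.mem_D (hH hx.1) hx.2)) hA hA2

end Cfsg.Agent.Omega.KL.TwoZ
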