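import Cfsg.Agent.Omega.KL.TwoZ.Ex

/-!
# (G2), (G3) from (G1) (TEXT W2 #24006 (3), helper918), over the frame `TwoZ.Fr`

`X_i = W_i N_i`, `O = O₂(D)`.

* `GOne V Z i` : **(G1)** a 2-group `A ≤ C_i` with `[X_i, A] ≤ N_i Z_i` centralises `N_i` (THEOREM G*);
* `Fr.g2` : **(G2)** `A` maximal in `O` moves `N_i` : `C_A(N_i)` moves `W_i`;
* `Fr.g_conj` : then some maximal `A' ≤ Q_i` moves `V i`;
* `Fr.exists_move_N` : some maximal `A` moves `N_0` or `N_1` (nonlocality);
* **`Fr.g3`** : for both `i` some maximal `A ≤ Q_i` moves `V i`.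
-/

set_option autoImplicit false
set_option linter.unusedSectionVars false

namespace Cfsg.Agent.Omega.KL.TwoZ

open Subgroup Cfsg Cfsg.Agent.Omega.MinPar
open Cfsg.Agent.ZN (o2 zc)
open Cfsg.Agent.Omega.OM.KTwo (ne_add_one eq_add_one add_one_add_one le_normalizer_V le_V exists_mul_of_mem_sup)
open Cfsg.Agent.Omega.NoFF.Basic (conj_conj mem_conj conj_le_iff comm_symm comm_mono Z_le_V V_le)
open Cfsg.Agent.Omega.NOThreeL.Pair (conj_eq_of_mem conj_le_normalizer)
open Cfsg.Agent.Omega.NoFF.ThmJFam (card_sup_inf card_conj conj_cent conj_inf)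
open Cfsg.Agent.MinSimple.VModule (mem_zc zc_le normalizer_le_normalizer_zc le_o2
  o2_isPGroup o2_le zc_le_centralizer le_centralizer_zc le_normalizer_o2)
open Cfsg.Agent.Omega.TC.LemZ (card_eq le_norm_of norm_cent norm_inf)
open Cfsg.Agent.Omega.KL.TwoS (Mx comm_of_sq sq_sup relIndex_le_of_sup sup_of_relIndex_le relIndex_pos relIndex_mono
  relIndex_anti relIndex_split)
open scoped Pointwise

universe u

variable {G : Type u} [Group G]

/-- **(G1)** (the output of THEOREM G*) -/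
def GOne (V Z : Fin 2 → Subgroup G) (i : Fin 2) : Prop :=
  ∀ A : Subgroup G, A ≤ CC Z i → IsPGroup 2 A →
    (∀ a ∈ A, ∀ x ∈ WW V Z i ⊔ NN Z i, a * x * a⁻¹ * x⁻¹ ∈ NN Z i ⊔ Z i) → A ≤ centralizer (NN Z i : Set G)

/-- `X = N (X ∩ C(A))`, `N` normalised by `X` and `A` : `[X, A] ≤ N` -/
theorem comm_le_of_sup {X N A : Subgroup G} (hAN : A ≤ normalizer (N : Set G))
    (hX : X ≤ N ⊔ (X ⊓ centralizer (A : Set G))) (hXN : X ≤ normalizer (N : Set G)) :
    ∀ a ∈ A, ∀ x ∈ X, a * x * a⁻¹ * x⁻¹ ∈ N := by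
  intro a ha x hx
  obtain ⟨n, hn, c, hc, rfl⟩ := exists_mul_of_mem_sup (inf_le_left.trans hXN) (hX hx)
  have h2 := mem_centralizer_iff.1 hc.2 a ha
  have h3 : a * c * a⁻¹ = c := by rw [h2, mul_inv_cancel_right]
  have e : a * (n * c) * a⁻¹ * (n * c)⁻¹ = (a * n * a⁻¹) * ((a * c * a⁻¹) * c⁻¹) * n⁻¹ := by group
  rw [e, h3, mul_inv_cancel, mul_one]
  exact mul_mem ((mem_normalizer_iff.1 (hAN ha) n).1 hn) (inv_mem hn)

namespace Fr

variable [Finite G] {T : Subgroup G} {V Z : Fin 2 → Subgroup G} (D : Fr T V Z)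

include D

/-- **(G2)** `A` maximal in `O` moves `N_i` : `C_A(N_i)` moves `W_i` -/
theorem g2 (hML : ML.Final.MLK.{u, u}) {i : Fin 2} (hK : IsKGroup (CC Z i)) (hG : GOne V Z i) {A : Subgroup G}
    (hA : Mx (o2 (centralizer (zc T : Set G))) A) (hm : ¬ A ≤ centralizer (NN Z i : Set G)) :
    ¬ A ⊓ centralizer (NN Z i : Set G) ≤ centralizer (WW V Z i : Set G) := by
  intro hc0
  apply hm
  obtain ⟨h1, h2, h3, -⟩ := D.X_facts i
  have hc : A ⊓ centralizer (NN Z i : Set G) ≤ centralizer ((WW V Z i ⊔ NN Z i : Subgroup G) : Set G) :=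
    comm_symm (sup_le (comm_symm hc0) (comm_symm inf_le_right))
  have hXc : WW V Z i ⊔ NN Z i ≤ centralizer ((WW V Z i ⊔ NN Z i : Subgroup G) : Set G) := comm_of_sq h2
  have h7 : (centralizer (A : Set G)).relIndex (WW V Z i ⊔ NN Z i) ≤ (centralizer (A : Set G)).relIndex (NN Z i) := by
    refine (hA.thom (h1.trans (D.Q_le_O i)) h2).trans ?_
    rw [← (D.mx hML hK hA).1]
    have e1 : (A ⊓ centralizer (NN Z i : Set G)).relIndex A = (centralizer (NN Z i : Set G)).relIndex A :=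
      inf_relIndex_left _ _
    rw [← e1]
    exact relIndex_anti hc
  have h8 := sup_of_relIndex_le le_sup_right hXc h7
  have hAC : A ≤ CC Z i := (hA.le.trans D.O_le_T).trans (D.T_le_C i)
  refine hG A hAC ((o2_isPGroup _).to_le hA.le) fun a ha x hx => ?_
  have hNX : NN Z i ≤ WW V Z i ⊔ NN Z i := le_sup_right
  have h9 := comm_le_of_sup (N := NN Z i) (hAC.trans (le_normalizer_V (Z (i + 1)) (CC Z i))) h8
    ((hXc.trans (centralizer_le hNX)).trans (centralizer_le_normalizer _)) a ha x hx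
  exact mem_sup_left h9

/-- `A` maximal in `O` moves `N_i` : some maximal `A' ≤ Q_i` moves `V i` -/
theorem g_conj (hML : ML.Final.MLK.{u, u}) {i : Fin 2} (hK : IsKGroup (CC Z i)) (hG : GOne V Z i) {A : Subgroup G}
    (hA : Mx (o2 (centralizer (zc T : Set G))) A) (hm : ¬ A ≤ centralizer (NN Z i : Set G)) :
    ∃ B : Subgroup G, Mx (o2 (centralizer (zc T : Set G))) B ∧ B ≤ QQ Z i ∧ ¬ B ≤ centralizer (V i : Set G) := by
  by_contra hcon
  push Not at hcon
  apply D.g2 hML hK hG hA hm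
  obtain ⟨-, h1, h2⟩ := D.mx hML hK hA
  have h3 : WW V Z i ≤ centralizer ((A ⊓ centralizer (NN Z i : Set G) ⊔ NN Z i : Subgroup G) : Set G) := by
    refine V_le fun c hc => ?_
    have e1 : MulAut.conj c⁻¹ • QQ Z i = QQ Z i := conj_eq_of_mem (le_normalizer_o2 _ (inv_mem hc))
    have h4 : MulAut.conj c⁻¹ • (A ⊓ centralizer (NN Z i : Set G) ⊔ NN Z i) ≤ QQ Z i := by
      rw [← e1]; exact conj_le_iff.2 h2
    have h5 := comm_symm (hcon _ (h1.conj (h4.trans (D.Q_le_O i))) h4)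
    have h6 : MulAut.conj c • V i ≤ MulAut.conj c • centralizer
        ((MulAut.conj c⁻¹ • (A ⊓ centralizer (NN Z i : Set G) ⊔ NN Z i) : Subgroup G) : Set G) := conj_le_iff.2 h5
    rwa [conj_cent, conj_conj, mul_inv_cancel, map_one, one_smul] at h6
  exact le_sup_left.trans (comm_symm h3)

/-- (nonlocality) some maximal `A` moves `N_0` or `N_1` -/
theorem exists_move_N : ∃ (i : Fin 2) (A : Subgroup G), Mx (o2 (centralizer (zc T : Set G))) A ∧
    ¬ A ≤ centralizer (NN Z i : Set G) := by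
  by_contra hcon
  push Not at hcon
  have hQ : ∀ i A, Mx (o2 (centralizer (zc T : Set G))) A → A ≤ QQ Z i := fun i A hA =>
    (le_inf hA.le (hcon i A hA)).trans (D.O_inf_le i)
  set J : Subgroup G := ⨆ A : {A : Subgroup G // Mx (o2 (centralizer (zc T : Set G))) A}, (A : Subgroup G) with hJ
  have hJO : J ≤ o2 (centralizer (zc T : Set G)) := iSup_le fun A => A.2.le
  have hinv : ∀ (i : Fin 2), CC Z i ≤ normalizer (J : Set G) := by
    intro i
    refine le_norm_of fun g hg x hx => ?_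
    have h2 : J ≤ MulAut.conj g⁻¹ • J := by
      refine iSup_le fun A => ?_
      have e1 : MulAut.conj g • QQ Z i = QQ Z i := conj_eq_of_mem (le_normalizer_o2 _ hg)
      have hAg : MulAut.conj g • (A : Subgroup G) ≤ QQ Z i := by rw [← e1]; exact conj_le_iff.2 (hQ i _ A.2)
      have h3 : MulAut.conj g • (A : Subgroup G) ≤ J :=
        le_iSup (fun A : {A : Subgroup G // Mx (o2 (centralizer (zc T : Set G))) A} => (A : Subgroup G))
          ⟨_, A.2.conj (hAg.trans (D.Q_le_O i))⟩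
      have h4 : MulAut.conj g⁻¹ • (MulAut.conj g • (A : Subgroup G)) ≤ MulAut.conj g⁻¹ • J := conj_le_iff.2 h3
      rwa [conj_conj, inv_mul_cancel, map_one, one_smul] at h4
    have h5 := h2 hx
    rw [mem_conj, inv_inv] at h5
    exact h5
  have hJ1 : J = ⊥ := D.nonloc' (i := 0) ((o2_isPGroup _).to_le hJO) (hinv 0) (hinv (0 + 1))
  obtain ⟨A, hA⟩ := Mx.exists_mx (o2 (centralizer (zc T : Set G)))
  have h6 : A ≤ J := le_iSup (fun A : {A : Subgroup G // Mx (o2 (centralizer (zc T : Set G))) A} => (A : Subgroup G))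
    ⟨A, hA⟩
  have h7 : NN Z 0 ≤ A := hA.le_of_comm (D.N_le_O 0) (D.N_sq 0) (comm_symm (hcon 0 A hA))
  have h8 := (le_V (Z (0 + 1)) (CC Z 0)).trans (h7.trans h6)
  rw [hJ1] at h8
  exact D.ne (0 + 1) (le_bot_iff.1 h8)

/-- a maximal `A` which moves `V i` moves `N_{i+1}` -/
theorem move_N_of_V {i : Fin 2} {A : Subgroup G} (hm : ¬ A ≤ centralizer (V i : Set G)) :
    ¬ A ≤ centralizer (NN Z (i + 1) : Set G) := by
  intro h
  apply hm
  refine h.trans (centralizer_le ?_)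
  have h1 := D.V_le_N (i + 1)
  rwa [add_one_add_one] at h1

/-- **(G3)** for both `i` some maximal `A ≤ Q_i` moves `V i` -/
theorem g3 (hML : ML.Final.MLK.{u, u}) (hK : ∀ i, IsKGroup (CC Z i)) (hG : ∀ i, GOne V Z i) (i : Fin 2) :
    ∃ A : Subgroup G, Mx (o2 (centralizer (zc T : Set G))) A ∧ A ≤ QQ Z i ∧ ¬ A ≤ centralizer (V i : Set G) := by
  obtain ⟨j, A, hA, hm⟩ := D.exists_move_N
  obtain ⟨B, hB, hBQ, hBm⟩ := D.g_conj hML (hK j) (hG j) hA hm
  by_cases hij : i = j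
  · subst hij; exact ⟨B, hB, hBQ, hBm⟩
  · obtain rfl : i = j + 1 := eq_add_one (Ne.symm hij)
    exact D.g_conj hML (hK (j + 1)) (hG (j + 1)) hB (D.move_N_of_V hBm)

/-- (G3) on one side from a maximal `A` which moves `V (i+1)` -/
theorem g3_of (hML : ML.Final.MLK.{u, u}) {i : Fin 2} (hK : IsKGroup (CC Z i)) (hG : GOne V Z i) {A : Subgroup G}
    (hA : Mx (o2 (centralizer (zc T : Set G))) A) (hm : ¬ A ≤ centralizer (V (i + 1) : Set G)) :
    ∃ B : Subgroup G, Mx (o2 (centralizer (zc T : Set G))) B ∧ B ≤ QQ Z i ∧ ¬ B ≤ centralizer (V i : Set G) := by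
  have h := D.move_N_of_V hm
  rw [add_one_add_one] at h
  exact D.g_conj hML hK hG hA h

end Fr

end Cfsg.Agent.Omega.KL.TwoZ
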