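import Cfsg.Agent.Omega.KL.TwoZ.Ex
import Cfsg.Agent.Omega.KL.TwoZ.Low
import Cfsg.Agent.Omega.KL.TwoZ.GThree

/-!
# Two centres `Z 0`, `Z 1`, diagonal minimal parabolics allowed (RWide, fields: helper918 #24444 (C), helper640 #24700)

`FrK` : the frame `Fr` without `par`, `mvs`, `odd`; `C_{C_i}(w) ≤ N(Z (i+1))` (`w ∈ Z (i+1)#`) and `V i ∩ Z (i+1) = 1` are
fields. The facts of `Fr.lean`, `Ex.lean` ((NO), exactness), `Low.lean` (stabilisers mod `E`), `GThree.lean` hold.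
-/

set_option autoImplicit false
set_option linter.unusedSectionVars false

namespace Cfsg.Agent.Omega.KL.TwoZ

open Subgroup Cfsg Cfsg.Agent.Omega.MinPar
open Cfsg.Agent.ZN (o2 zc)
open Cfsg.Agent.Omega.OM.KTwo (ne_add_one eq_add_one add_one_add_one le_normalizer_V le_V exists_mul_of_mem_sup)
open Cfsg.Agent.MinSimple.MinParabolic (IsMinPar)
open Cfsg.Agent.Omega.NoFF.Basic (conj_conj mem_conj conj_le_iff comm_symm comm_mono Z_le_V V_le)
open Cfsg.Agent.Omega.NOThreeL.Pair (conj_eq_of_mem conj_le_normalizer)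
open Cfsg.Agent.Omega.NoFF.ThmJFam (card_sup_inf card_conj conj_cent conj_inf)
open Cfsg.Agent.ZN.ChoiceSit (Syl exists_syl syl_conj o2_le_syl syl_not_dvd)
open Cfsg.Agent.MinSimple.VModule (mem_zc zc_le normalizer_le_normalizer_zc le_o2 oddGen oddGen_le oddGen_mono
  oddGen_le_of_sup o2_isPGroup o2_le zc_le_centralizer le_centralizer_zc le_normalizer_o2)
open Cfsg.Agent.Omega.TC (kgroup_mono)
open Cfsg.Agent.Omega.TC.LemZ (card_eq le_norm_of norm_cent norm_inf)
open Cfsg.Agent.Omega.KL.TwoS (Mx comm_of_sq sq_sup relIndex_le_of_sup sup_of_relIndex_le relIndex_pos relIndex_mono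
  relIndex_anti relIndex_split)
open scoped Pointwise

universe u

variable {G : Type u} [Group G]

/-- **the frame** of two centres of any order, diagonal minimal parabolics allowed -/
structure FrK [Finite G] (T : Subgroup G) (V Z : Fin 2 → Subgroup G) : Prop where
  char2 : ∀ i, centralizer (Z i : Set G) ⊓ centralizer (o2 (centralizer (Z i : Set G)) : Set G) ≤
    o2 (centralizer (Z i : Set G))
  sqV : ∀ i, ∀ x ∈ V i, x ^ 2 = 1
  ZV : ∀ i, Z i ≤ V i
  ne : ∀ i, Z i ≠ ⊥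
  zT : zc T = Z 0 ⊔ Z 1
  syl : ∀ i, Syl T (centralizer (Z i : Set G))
  nT : ∀ i, centralizer (Z i : Set G) ⊓ normalizer (T : Set G) ≤
    normalizer (Z (i + 1) : Set G) ⊓ normalizer (V i : Set G) ⊓ normalizer (V (i + 1) : Set G)
  nV : ∀ i, T ≤ normalizer (V i : Set G)
  VQ : ∀ i, V i ≤ o2 (centralizer (Z i : Set G))
  VC : ∀ i, ∀ c ∈ centralizer (Z i : Set G), MulAut.conj c • V i ≤ centralizer (V i : Set G)
  VN : ∀ i, V (i + 1) ≤ NoFF.Basic.V (Z (i + 1)) (centralizer (Z i : Set G))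
  uni : ∀ i j, i ≠ j → ∀ R : Subgroup G, IsMinPar T R → R ≤ centralizer (Z j : Set G) →
    ¬ R ≤ centralizer (Z i : Set G) → ∀ k, R ≤ normalizer (V k : Set G)
  /-- `C_{C_i}(w)` normalises `Z (i+1)`, `w ∈ Z (i+1)#` -/
  stiF : ∀ i, ∀ w ∈ Z (i + 1), w ≠ 1 → centralizer (Z i : Set G) ⊓ centralizer ({w} : Set G) ≤
    normalizer (Z (i + 1) : Set G)
  /-- `V i ∩ Z (i+1) = 1` -/
  dis : ∀ i, ∀ z ∈ V i, z ∈ Z (i + 1) → z = 1
  nonloc : NonLoc (centralizer (Z 0 : Set G)) (centralizer (Z 1 : Set G))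

namespace FrK

variable [Finite G] {T : Subgroup G} {V Z : Fin 2 → Subgroup G} (D : FrK T V Z)

include D

/-! ### Easy facts -/

theorem T_isPGroup : IsPGroup 2 T := (D.syl 0).2.1

theorem T_le_C (i : Fin 2) : T ≤ CC Z i := (D.syl i).1

theorem Z_sq (i : Fin 2) : ∀ z ∈ Z i, z ^ 2 = 1 := fun z hz => D.sqV i z (D.ZV i hz)

theorem Z_le_zc (i : Fin 2) : Z i ≤ zc T := by
  rw [D.zT]
  rcases Fin.exists_fin_two.1 ⟨i, rfl⟩ with h | h
  · rw [h]; exact le_sup_left
  · rw [h]; exact le_sup_right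

theorem Q_le_T (i : Fin 2) : QQ Z i ≤ T := o2_le_syl (D.syl i)

theorem Z_le_T (i : Fin 2) : Z i ≤ T := (D.Z_le_zc i).trans (zc_le _)

theorem comm_Z (i : Fin 2) : T ≤ centralizer (Z i : Set G) := D.T_le_C i

theorem Z_cent_T (i : Fin 2) : Z i ≤ centralizer (T : Set G) := comm_symm (D.T_le_C i)

theorem Z_le_Q (i j : Fin 2) : Z j ≤ QQ Z i := by
  refine le_trans (le_inf ((D.Z_le_T j).trans (D.T_le_C i)) ?_) (D.char2 i)
  exact (D.Z_cent_T j).trans (centralizer_le (D.Q_le_T i))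

theorem cent_zc_le (i : Fin 2) : centralizer (zc T : Set G) ≤ CC Z i := centralizer_le (D.Z_le_zc i)

theorem CC_inf : CC Z 0 ⊓ CC Z 1 ≤ centralizer (zc T : Set G) := by
  rw [D.zT]
  rintro c ⟨h0, h1⟩
  have h2 : Z 0 ⊔ Z 1 ≤ centralizer ({c} : Set G) := by
    refine sup_le (fun x hx => ?_) (fun x hx => ?_)
    · exact mem_centralizer_singleton_iff.2 (mem_centralizer_iff.1 h0 x hx)
    · exact mem_centralizer_singleton_iff.2 (mem_centralizer_iff.1 h1 x hx)
  rw [mem_centralizer_iff]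
  exact fun x hx => mem_centralizer_singleton_iff.1 (h2 hx)

theorem le_D {i : Fin 2} {H : Subgroup G} (h : H ≤ CC Z i) (h' : H ≤ CC Z (i + 1)) : H ≤ centralizer (zc T : Set G) := by
  refine le_trans ?_ D.CC_inf
  rcases Fin.exists_fin_two.1 ⟨i, rfl⟩ with e | e
  · subst e; exact le_inf h h'
  · subst e; exact le_inf h' h

theorem mem_D {i : Fin 2} {c : G} (h : c ∈ CC Z i) (h' : c ∈ CC Z (i + 1)) : c ∈ centralizer (zc T : Set G) := by
  apply D.CC_inf
  rcases Fin.exists_fin_two.1 ⟨i, rfl⟩ with e | e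
  · subst e; exact ⟨h, h'⟩
  · subst e; exact ⟨h', h⟩

theorem T_le_D : T ≤ centralizer (zc T : Set G) := le_centralizer_zc T

theorem syl_D : Syl T (centralizer (zc T : Set G)) :=
  ⟨D.T_le_D, D.T_isPGroup, fun R hR hR2 hTR => (D.syl 0).2.2 R (hR.trans (D.cent_zc_le 0)) hR2 hTR⟩

theorem O_le_T : o2 (centralizer (zc T : Set G)) ≤ T := o2_le_syl D.syl_D

theorem Q_le_O (i : Fin 2) : QQ Z i ≤ o2 (centralizer (zc T : Set G)) :=
  le_o2 ((D.Q_le_T i).trans D.T_le_D) (o2_isPGroup _) ((D.cent_zc_le i).trans (le_normalizer_o2 _))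

theorem nonloc' {i : Fin 2} {W : Subgroup G} (hW : IsPGroup 2 W) (h : CC Z i ≤ normalizer (W : Set G))
    (h' : CC Z (i + 1) ≤ normalizer (W : Set G)) : W = ⊥ := by
  rcases Fin.exists_fin_two.1 ⟨i, rfl⟩ with e | e
  · subst e; exact D.nonloc W hW h h'
  · subst e; exact D.nonloc W hW h' h


theorem sti {i : Fin 2} {w : G} (hw : w ∈ Z (i + 1)) (hw1 : w ≠ 1) :
    CC Z i ⊓ centralizer ({w} : Set G) ≤ normalizer (Z (i + 1) : Set G) := D.stiF i w hw hw1

/-- the normaliser of `Z (i+1)` in `C_i` normalises `D` -/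
theorem norm_D (i : Fin 2) : CC Z i ⊓ normalizer (Z (i + 1) : Set G) ≤
    normalizer ((centralizer (zc T : Set G) : Subgroup G) : Set G) := by
  refine le_norm_of fun g hg d hd => D.mem_D (i := i) ?_ ?_
  · exact mul_mem (mul_mem hg.1 (D.cent_zc_le i hd)) (inv_mem hg.1)
  · exact (mem_normalizer_iff.1 (norm_cent (A := normalizer (Z (i + 1) : Set G)) le_rfl hg.2) d).1 (D.cent_zc_le _ hd)

/-! ### `N_i` -/

theorem N_le (i : Fin 2) {X : Subgroup G} (hX : CC Z i ≤ normalizer (X : Set G)) (h : Z (i + 1) ≤ X) : NN Z i ≤ X :=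
  V_le_of h hX

theorem N_le_Q (i : Fin 2) : NN Z i ≤ QQ Z i := V_le_of (D.Z_le_Q i (i + 1)) (le_normalizer_o2 _)

theorem N_le_cent_Q (i : Fin 2) : NN Z i ≤ centralizer (QQ Z i : Set G) :=
  V_le_of ((D.Z_cent_T (i + 1)).trans (centralizer_le (D.Q_le_T i))) (norm_cent (le_normalizer_o2 _))

theorem Q_le_cent_N (i : Fin 2) : QQ Z i ≤ centralizer (NN Z i : Set G) := comm_symm (D.N_le_cent_Q i)

theorem N_comm (i : Fin 2) : NN Z i ≤ centralizer (NN Z i : Set G) := (D.N_le_Q i).trans (D.Q_le_cent_N i)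

theorem N_le_O (i : Fin 2) : NN Z i ≤ o2 (centralizer (zc T : Set G)) := (D.N_le_Q i).trans (D.Q_le_O i)

theorem N_le_C (i j : Fin 2) : NN Z i ≤ CC Z j := ((D.N_le_Q i).trans (D.Q_le_T i)).trans (D.T_le_C j)

theorem N_sq (i : Fin 2) : ∀ x ∈ NN Z i, x ^ 2 = 1 := sq_V (D.Z_sq (i + 1)) (D.N_comm i)

/-- a normal subgroup of `C_i` which centralises `Z (i+1)` centralises `N_i` -/
theorem cent_N_of_le {i : Fin 2} {X : Subgroup G} (hn : CC Z i ≤ normalizer (X : Set G)) (hX : X ≤ CC Z (i + 1)) :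
    X ≤ centralizer (NN Z i : Set G) :=
  comm_symm (V_le_of (comm_symm hX) (norm_cent hn))

theorem cent_N_le (i : Fin 2) : centralizer (NN Z i : Set G) ≤ CC Z (i + 1) := centralizer_le (le_V _ _)

/-- `C_O(N_i) = Q_i` -/
theorem O_inf_le (i : Fin 2) : o2 (centralizer (zc T : Set G)) ⊓ centralizer (NN Z i : Set G) ≤ QQ Z i := by
  have h1 := GenTool.o2_inf_le (L := CC Z i) (N := CC Z i ⊓ centralizer (NN Z i : Set G))
    (R := centralizer (zc T : Set G)) inf_le_left
    (fun g hg x hx => ⟨(CC Z i).mul_mem ((CC Z i).mul_mem hg hx.1) ((CC Z i).inv_mem hg),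
      (mem_normalizer_iff.1 (norm_cent (le_normalizer_V (Z (i + 1)) (CC Z i)) hg) x).1 hx.2⟩)
    (fun x hx => D.mem_D hx.1 (D.cent_N_le i hx.2))
  refine le_trans ?_ h1
  exact le_inf inf_le_left (le_inf ((inf_le_left.trans D.O_le_T).trans (D.T_le_C i)) inf_le_right)

/-- `C_{V i}(T) = Z i` -/
theorem cV (i : Fin 2) : ∀ w ∈ V i, w ∈ centralizer (T : Set G) → w ∈ Z i := by
  intro w hw hwT
  have h1 : w ∈ zc T :=
    mem_zc.2 ⟨(D.Q_le_T i) (D.VQ i hw), fun t ht => mem_centralizer_iff.1 hwT t ht, D.sqV i w hw⟩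
  rw [D.zT] at h1
  have hc : Z 1 ≤ normalizer (Z 0 : Set G) :=
    ((D.Z_le_T 1).trans (D.T_le_C 0)).trans (centralizer_le_normalizer _)
  obtain ⟨a, ha, b, hb, rfl⟩ := exists_mul_of_mem_sup hc h1
  rcases Fin.exists_fin_two.1 ⟨i, rfl⟩ with e | e
  · subst e
    have h2 : b ∈ V 0 := by
      have := mul_mem (inv_mem (D.ZV 0 ha)) hw
      rwa [inv_mul_cancel_left] at this
    rw [D.dis 0 b h2 hb, mul_one]
    exact ha
  · subst e
    have h2 : a ∈ V 1 := by
      have := mul_mem hw (inv_mem (D.ZV 1 hb))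
      rwa [mul_inv_cancel_right] at this
    rw [D.dis 1 a h2 ha, one_mul]
    exact hb

theorem exists_move (i : Fin 2) : ¬ CC Z i ≤ CC Z (i + 1) := by
  intro h1
  have h2 := D.nonloc' (i := i) (W := QQ Z (i + 1)) (o2_isPGroup _) (h1.trans (le_normalizer_o2 _))
    (le_normalizer_o2 _)
  have h3 := D.Z_le_Q (i + 1) i
  rw [h2, le_bot_iff] at h3
  exact D.ne i h3

/-- `V (i+1) ≤ N_i` -/
theorem V_le_N (i : Fin 2) : V (i + 1) ≤ NN Z i := D.VN i

/-! ### `W_i`, `U_i` -/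

theorem cent_V_le (i : Fin 2) : centralizer (V i : Set G) ≤ CC Z i := centralizer_le (D.ZV i)

theorem U_le_N (i : Fin 2) : UU V Z i ≤ NN Z i :=
  V_le_of (le_V _ _) ((D.cent_V_le i).trans (le_normalizer_V _ _))

theorem U_sq (i : Fin 2) : ∀ x ∈ UU V Z i, x ^ 2 = 1 := fun x hx => D.N_sq i x (D.U_le_N i hx)

theorem norm_U (i : Fin 2) : normalizer (V i : Set G) ⊓ normalizer (Z (i + 1) : Set G) ≤
    normalizer (UU V Z i : Set G) :=
  norm_V inf_le_right (inf_le_left.trans (norm_cent (A := normalizer (V i : Set G)) le_rfl))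

theorem H_le_C (i : Fin 2) : HH T V i ≤ CC Z i := sup_le (D.cent_V_le i) (D.T_le_C i)

theorem T_le_H (i : Fin 2) : T ≤ HH T V i := le_sup_right

theorem H_le_norm_U (i : Fin 2) : HH T V i ≤ normalizer (UU V Z i : Set G) :=
  sup_le (le_normalizer_V _ _)
    ((le_inf (D.nV i) ((D.T_le_C _).trans (centralizer_le_normalizer _))).trans (D.norm_U i))

theorem NH_H (i : Fin 2) : NH Z i (HH T V i) = UU V Z i := by
  apply le_antisymm
  · exact V_le_of (le_V _ _) (D.H_le_norm_U i)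
  · exact V_le_of (le_V _ _) (le_sup_left.trans (le_normalizer_V _ _))

theorem W_le_Q (i : Fin 2) : WW V Z i ≤ QQ Z i := V_le_of (D.VQ i) (le_normalizer_o2 _)

theorem W_comm (i : Fin 2) : WW V Z i ≤ centralizer (WW V Z i : Set G) := by
  refine V_le fun c hc => comm_symm (V_le fun d hd => ?_)
  have h1 := D.VC i (c⁻¹ * d) (mul_mem (inv_mem hc) hd)
  have h2 : MulAut.conj c • (MulAut.conj (c⁻¹ * d) • V i) ≤ MulAut.conj c • centralizer (V i : Set G) :=
    conj_le_iff.2 h1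
  rw [conj_conj, mul_inv_cancel_left, NoFF.ThmJFam.conj_cent] at h2
  exact h2

theorem W_sq (i : Fin 2) : ∀ x ∈ WW V Z i, x ^ 2 = 1 := sq_V (D.sqV i) (D.W_comm i)

/-- **(NO)** for `H` on `⟨Z (i+1) ^ H⟩` -/
theorem no_H (hML : ML.Final.MLK.{u, u}) {i : Fin 2} {H A : Subgroup G} (hK : IsKGroup (CC Z i)) (hT : T ≤ H)
    (hH : H ≤ CC Z i) (hA : A ≤ o2 (centralizer (zc T : Set G))) (hA2 : ∀ a ∈ A, a ^ 2 = 1) :
    (centralizer (NH Z i H : Set G)).relIndex A ≤ (centralizer (A : Set G)).relIndex (NH Z i H) := by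
  obtain ⟨w, hw, hw1⟩ : ∃ w ∈ Z (i + 1), w ≠ 1 := by
    by_contra hc
    push Not at hc
    exact D.ne (i + 1) (eq_bot_iff.2 fun x hx => mem_bot.2 (hc x hx))
  have hAH : A ≤ H := (hA.trans D.O_le_T).trans hT
  -- `W = ⟨w ^ H⟩`
  set W : Subgroup G := NoFF.Basic.V (zpowers w) H with hW
  have hwW : w ∈ W := le_V _ _ (mem_zpowers w)
  have hHW : H ≤ normalizer (W : Set G) := le_normalizer_V _ _
  have hWU : W ≤ NH Z i H := V_le_of ((zpowers_le.2 hw).trans (le_V _ _)) (le_normalizer_V _ _)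
  have hUN : NH Z i H ≤ NN Z i := V_le_of (le_V _ _) (hH.trans (le_normalizer_V _ _))
  have hWN : W ≤ NN Z i := hWU.trans hUN
  have hst : ∀ g ∈ H, g * w * g⁻¹ * w⁻¹ ∈ (⊥ : Subgroup G) →
      g ∈ normalizer ((centralizer (zc T : Set G) : Subgroup G) : Set G) := by
    intro g hg h
    rw [mem_bot, mul_inv_eq_one] at h
    have h1 : g ∈ centralizer ({w} : Set G) := by
      rw [mem_centralizer_singleton_iff]
      calc g * w = (g * w * g⁻¹) * g := by group
        _ = w * g := by rw [h]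
    exact D.norm_D i ⟨hH hg, D.sti hw hw1 ⟨hH hg, h1⟩⟩
  have hmain : (A ⊓ centralizer (W : Set G)).relIndex A ≤ (W ⊓ centralizer (A : Set G)).relIndex W := by
    refine hML.grp (C := H) (W := W) (Y := ⊥) (T := T) (Q := o2 (centralizer (zc T : Set G)) ⊓ H) (A := A)
      (w := w) (kgroup_mono hK hH) ?_ (KA := A ⊓ centralizer (W : Set G))
      (CW := W ⊓ centralizer (A : Set G)) ?_ ?_
    · refine ⟨hHW, ?_, bot_le, ?_, ?_, hwW, ?_, hT, D.T_isPGroup, ?_, ?_, inf_le_right,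
        (o2_isPGroup _).to_le inf_le_left, ?_, ?_, le_inf hA hAH, ?_⟩
      · exact fun h _ => by
          rw [mem_normalizer_iff]
          intro x
          rw [mem_bot, mem_bot, conj_eq_one_iff]
      · exact fun h _ => by
          rw [mem_normalizer_iff]
          intro x
          rw [mem_bot, mem_bot, conj_eq_one_iff]
      · intro x hx
        rw [← pow_two, D.N_sq i x (hWN hx)]
        exact one_mem _
      · intro U hU _ hHU
        exact V_le_of (zpowers_le.2 hU) hHU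
      · have hS : Syl T H := ⟨hT, D.T_isPGroup, fun R hR hR2 hTR => (D.syl i).2.2 R (hR.trans hH) hR2 hTR⟩
        exact Cfsg.Agent.ZN.ChoiceSit.syl_not_dvd hS
      · intro t ht
        have h1 := mem_centralizer_iff.1 (D.T_le_C (i + 1) ht) w hw
        rw [← h1, mul_inv_cancel_right, mul_inv_cancel]
        exact one_mem _
      · intro q hq
        have h1 := mem_centralizer_iff.1 (D.cent_zc_le (i + 1) (o2_le _ hq.1)) w hw
        rw [← h1, mul_inv_cancel_right, mul_inv_cancel]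
        exact one_mem _
      · intro g hg hgY q hq
        have h1 := norm_o2_of (hst g hg hgY)
        exact mem_inf.2 ⟨(mem_normalizer_iff.1 h1 q).1 hq.1, H.mul_mem (H.mul_mem hg hq.2) (H.inv_mem hg)⟩
      · intro a ha x _
        have h1 : a * a = 1 := by rw [← pow_two]; exact hA2 a ha
        have e : a * (a * x * a⁻¹) * a⁻¹ * x⁻¹ = (a * a) * x * (a * a)⁻¹ * x⁻¹ := by group
        rw [e, h1]
        simp
    · intro a
      constructor
      · rintro ⟨h1, h2⟩
        refine ⟨h1, fun x hx => ?_⟩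
        have h3 := mem_centralizer_iff.1 h2 x hx
        rw [← h3, mul_inv_cancel_right, mul_inv_cancel]
        exact one_mem _
      · rintro ⟨h1, h2⟩
        refine ⟨h1, mem_centralizer_iff.2 fun x hx => ?_⟩
        have h3 := h2 x hx
        rw [mem_bot, mul_inv_eq_one] at h3
        calc x * a = (a * x * a⁻¹) * a := by rw [h3]
          _ = a * x := by group
    · intro x
      constructor
      · rintro ⟨h1, h2⟩
        refine ⟨h1, fun a ha => ?_⟩
        rw [mem_centralizer_iff.1 h2 a ha, mul_inv_cancel_right, mul_inv_cancel]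
        exact one_mem _
      · rintro ⟨h1, h2⟩
        refine ⟨h1, mem_centralizer_iff.2 fun a ha => ?_⟩
        have h3 := h2 a ha
        rw [mem_bot, mul_inv_eq_one] at h3
        calc a * x = (a * x * a⁻¹) * a := by group
          _ = x * a := by rw [h3]
  rw [inf_relIndex_left, inf_relIndex_left] at hmain
  -- `C_A(W) ≤ O₂(H)` centralises `⟨Z (i+1) ^ H⟩`
  have hker : A ⊓ centralizer (W : Set G) ≤ centralizer (NH Z i H : Set G) := by
    set H₁ : Subgroup G := H ⊓ centralizer ({w} : Set G) with hH₁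
    have hTH₁ : T ≤ H₁ := le_inf hT ((D.T_le_C (i + 1)).trans (centralizer_le (Set.singleton_subset_iff.2 hw)))
    -- `A ≤ O₂(H₁)`
    have h1 : A ≤ o2 H₁ := by
      have h2 : o2 (centralizer (zc T : Set G)) ⊓ H₁ ≤ o2 H₁ := by
        refine le_o2 inf_le_right ((o2_isPGroup _).to_le inf_le_left) ?_
        refine le_norm_of fun g hg q hq => ?_
        have h3 : g ∈ normalizer ((o2 (centralizer (zc T : Set G)) : Subgroup G) : Set G) :=
          norm_o2_of (D.norm_D i ⟨hH hg.1, D.sti hw hw1 ⟨hH hg.1, hg.2⟩⟩)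
        exact ⟨(mem_normalizer_iff.1 h3 q).1 hq.1, H₁.mul_mem (H₁.mul_mem hg hq.2) (H₁.inv_mem hg)⟩
      exact (le_inf hA ((hA.trans D.O_le_T).trans hTH₁)).trans h2
    have h2 := GenTool.o2_inf_le (L := H) (N := H ⊓ centralizer (W : Set G)) (R := H₁) inf_le_left
      (fun g hg x hx => ⟨H.mul_mem (H.mul_mem hg hx.1) (H.inv_mem hg),
        (mem_normalizer_iff.1 (norm_cent hHW hg) x).1 hx.2⟩)
      (le_inf inf_le_left (inf_le_right.trans (centralizer_le (Set.singleton_subset_iff.2 hwW))))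
    have h3 : A ⊓ centralizer (W : Set G) ≤ o2 H :=
      (le_inf (inf_le_left.trans h1) (le_inf (inf_le_left.trans hAH) inf_le_right)).trans h2
    refine h3.trans (comm_symm (V_le_of ?_ (norm_cent (le_normalizer_o2 _))))
    have hS : Syl T H := ⟨hT, D.T_isPGroup, fun R hR hR2 hTR => (D.syl i).2.2 R (hR.trans hH) hR2 hTR⟩
    exact (D.Z_cent_T (i + 1)).trans (centralizer_le (o2_le_syl hS))
  calc (centralizer (NH Z i H : Set G)).relIndex A ≤ (A ⊓ centralizer (W : Set G)).relIndex A := relIndex_anti hker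
    _ = (centralizer (W : Set G)).relIndex A := inf_relIndex_left _ _
    _ ≤ (centralizer (A : Set G)).relIndex W := hmain
    _ ≤ _ := relIndex_mono hWU

theorem no_N (hML : ML.Final.MLK.{u, u}) {i : Fin 2} {A : Subgroup G} (hK : IsKGroup (CC Z i))
    (hA : A ≤ o2 (centralizer (zc T : Set G))) (hA2 : ∀ a ∈ A, a ^ 2 = 1) :
    (centralizer (NN Z i : Set G)).relIndex A ≤ (centralizer (A : Set G)).relIndex (NN Z i) :=
  D.no_H hML hK (D.T_le_C i) le_rfl hA hA2

/-- `A` maximal in `O` : exact on `N_i`, `C_A(N_i) N_i` is maximal and `≤ Q_i` -/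
theorem mx (hML : ML.Final.MLK.{u, u}) {i : Fin 2} {A : Subgroup G} (hK : IsKGroup (CC Z i))
    (hA : Mx (o2 (centralizer (zc T : Set G))) A) :
    (centralizer (NN Z i : Set G)).relIndex A = (centralizer (A : Set G)).relIndex (NN Z i) ∧
    Mx (o2 (centralizer (zc T : Set G))) (A ⊓ centralizer (NN Z i : Set G) ⊔ NN Z i) ∧
    A ⊓ centralizer (NN Z i : Set G) ⊔ NN Z i ≤ QQ Z i := by
  have h1 := D.no_N hML hK hA.le hA.sq
  refine ⟨le_antisymm h1 (hA.thom (D.N_le_O i) (D.N_sq i)), hA.sup (D.N_le_O i) (D.N_sq i) h1, sup_le ?_ (D.N_le_Q i)⟩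
  exact (inf_le_inf_right _ hA.le).trans (D.O_inf_le i)

/-- `B = C_A(U_i)` -/
theorem ex_U (hML : ML.Final.MLK.{u, u}) {i : Fin 2} {A : Subgroup G} (hK : IsKGroup (CC Z i))
    (hA : Mx (o2 (centralizer (zc T : Set G))) A) :
    A ⊓ centralizer (UU V Z i : Set G) ≤ o2 (HH T V i) ∧
    (centralizer (NN Z i : Set G)).relIndex (A ⊓ centralizer (UU V Z i : Set G)) =
      (centralizer ((A ⊓ centralizer (UU V Z i : Set G) : Subgroup G) : Set G)).relIndex (NN Z i) ∧
    Mx (o2 (centralizer (zc T : Set G))) (A ⊓ centralizer (UU V Z i : Set G) ⊔ UU V Z i) := by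
  set B : Subgroup G := A ⊓ centralizer (UU V Z i : Set G) with hB
  have hUN := D.U_le_N i
  have hCN : centralizer (NN Z i : Set G) ≤ centralizer (UU V Z i : Set G) := centralizer_le hUN
  have hUno := D.no_H hML hK (D.T_le_H i) (D.H_le_C i) hA.le hA.sq
  rw [D.NH_H] at hUno
  refine ⟨?_, ?_, hA.sup (hUN.trans (D.N_le_O i)) (D.U_sq i) hUno⟩
  · have h1 := GenTool.o2_inf_le (L := HH T V i) (N := HH T V i ⊓ centralizer (UU V Z i : Set G))
      (R := centralizer (zc T : Set G)) inf_le_left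
      (fun g hg x hx => ⟨(HH T V i).mul_mem ((HH T V i).mul_mem hg hx.1) ((HH T V i).inv_mem hg),
        (mem_normalizer_iff.1 (norm_cent (D.H_le_norm_U i) hg) x).1 hx.2⟩)
      (fun x hx => D.mem_D (D.H_le_C i hx.1)
        (centralizer_le (le_V (Z (i + 1)) (centralizer (V i : Set G))) hx.2))
    refine le_trans ?_ h1
    exact le_inf (inf_le_left.trans hA.le) (le_inf ((inf_le_left.trans (hA.le.trans D.O_le_T)).trans (D.T_le_H i))
      inf_le_right)
  · -- counting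
    have hA1 := (D.mx hML hK hA).1
    have s1 := relIndex_split (A := A) hCN
    rw [← hB] at s1
    have hCC : centralizer (A : Set G) ≤ centralizer (B : Set G) := centralizer_le inf_le_left
    have s2 := relIndex_split (A := NN Z i) hCC
    have hUB : UU V Z i ≤ NN Z i ⊓ centralizer (B : Set G) := le_inf hUN (comm_symm inf_le_right)
    have h3 : (centralizer (UU V Z i : Set G)).relIndex A ≤
        (centralizer (A : Set G)).relIndex (NN Z i ⊓ centralizer (B : Set G)) := hUno.trans (relIndex_mono hUB)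
    have h4 := D.no_N hML hK (A := B) (inf_le_left.trans hA.le) (fun b hb => hA.sq b hb.1)
    refine le_antisymm h4 ?_
    by_contra hc
    push Not at hc
    rw [hA1, s2] at s1
    have p1 := relIndex_pos (centralizer (UU V Z i : Set G)) A
    have h5 : (centralizer (NN Z i : Set G)).relIndex B * (centralizer (UU V Z i : Set G)).relIndex A <
        (centralizer (A : Set G)).relIndex (NN Z i ⊓ centralizer (B : Set G)) * (centralizer (B : Set G)).relIndex (NN Z i) := by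
      calc (centralizer (NN Z i : Set G)).relIndex B * (centralizer (UU V Z i : Set G)).relIndex A
          < (centralizer (B : Set G)).relIndex (NN Z i) * (centralizer (UU V Z i : Set G)).relIndex A :=
            Nat.mul_lt_mul_of_pos_right hc p1
        _ ≤ (centralizer (B : Set G)).relIndex (NN Z i) *
            (centralizer (A : Set G)).relIndex (NN Z i ⊓ centralizer (B : Set G)) := Nat.mul_le_mul_left _ h3
        _ = _ := Nat.mul_comm _ _
    exact absurd s1.symm h5.ne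


theorem X_facts (i : Fin 2) : (WW V Z i ⊔ NN Z i ≤ QQ Z i) ∧ (∀ x ∈ WW V Z i ⊔ NN Z i, x ^ 2 = 1) ∧
    CC Z i ≤ normalizer ((WW V Z i ⊔ NN Z i : Subgroup G) : Set G) ∧ V i ≤ WW V Z i ⊔ NN Z i := by
  have hc : WW V Z i ≤ centralizer (NN Z i : Set G) := (D.W_le_Q i).trans (D.Q_le_cent_N i)
  refine ⟨sup_le (D.W_le_Q i) (D.N_le_Q i), sq_sup (D.W_sq i) (D.N_sq i) hc, ?_, (le_V _ _).trans le_sup_left⟩
  refine le_norm_of fun c hcc x hx => ?_
  obtain ⟨w, hw, n, hn, rfl⟩ := exists_mul_of_mem_sup ((comm_symm hc).trans (centralizer_le_normalizer _)) hx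
  have e : c * (w * n) * c⁻¹ = (c * w * c⁻¹) * (c * n * c⁻¹) := by group
  rw [e]
  exact mul_mem (mem_sup_left ((mem_normalizer_iff.1 (le_normalizer_V (V i) (CC Z i) hcc) w).1 hw))
    (mem_sup_right ((mem_normalizer_iff.1 (le_normalizer_V (Z (i + 1)) (CC Z i) hcc) n).1 hn))

/-- a `C_i`-invariant `E` with `E ∩ Z (i+1) = 1` has `E ∩ V (i+1) = 1` -/
theorem inf_E {i : Fin 2} {E : Subgroup G} (hE : CC Z i ≤ normalizer (E : Set G))
    (hE1 : ∀ z ∈ Z (i + 1), z ∈ E → z = 1) : V (i + 1) ⊓ E = ⊥ := by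
  by_contra hne
  obtain ⟨n, hn, hn1, hf⟩ := NOThreeL.AdjTransv.exists_fixed (S := T) (N := V (i + 1) ⊓ E) D.T_isPGroup hne
    (fun n hn => by rw [← pow_two]; exact D.sqV _ n hn.1)
    (fun s hs n hn => ⟨(mem_normalizer_iff.1 (D.nV (i + 1) hs) n).1 hn.1,
      (mem_normalizer_iff.1 (hE (D.T_le_C i hs)) n).1 hn.2⟩)
  apply hn1
  refine hE1 n (D.cV (i + 1) n hn.1 ?_) hn.2
  rw [mem_centralizer_iff]
  intro t ht
  calc t * n = (t * n * t⁻¹) * t := by group
    _ = n * t := by rw [hf t ht]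

/-- `c ∈ C_i` fixes the coset `m E` of `m ∈ Z (i+1)` : `c` commutes with `m` -/
theorem stab {i : Fin 2} {E : Subgroup G} (hE : CC Z i ≤ normalizer (E : Set G))
    (hE1 : ∀ z ∈ Z (i + 1), z ∈ E → z = 1) {m c : G} (hm : m ∈ Z (i + 1)) (hc : c ∈ CC Z i)
    (h : c * m * c⁻¹ * m⁻¹ ∈ E) : c * m = m * c := by
  have hconj : ∀ g ∈ CC Z i, ∀ x ∈ E, g * x * g⁻¹ ∈ E := fun g hg x hx => (mem_normalizer_iff.1 (hE hg) x).1 hx
  let K : Subgroup G :=
    { carrier := {c | c ∈ CC Z i ∧ c * m * c⁻¹ * m⁻¹ ∈ E}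
      one_mem' := ⟨one_mem _, by simp⟩
      mul_mem' := by
        rintro a b ⟨ha, ha'⟩ ⟨hb, hb'⟩
        refine ⟨mul_mem ha hb, ?_⟩
        have e : a * b * m * (a * b)⁻¹ * m⁻¹ = (a * (b * m * b⁻¹ * m⁻¹) * a⁻¹) * (a * m * a⁻¹ * m⁻¹) := by group
        rw [e]
        exact mul_mem (hconj a ha _ hb') ha'
      inv_mem' := by
        rintro a ⟨ha, ha'⟩
        refine ⟨inv_mem ha, ?_⟩
        have e : a⁻¹ * m * a⁻¹⁻¹ * m⁻¹ = a⁻¹ * (a * m * a⁻¹ * m⁻¹)⁻¹ * a⁻¹⁻¹ := by group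
        rw [e]
        exact hconj _ (inv_mem ha) _ (inv_mem ha') }
  have hTm : T ≤ centralizer ({m} : Set G) :=
    (D.T_le_C (i + 1)).trans (centralizer_le (Set.singleton_subset_iff.2 hm))
  have hTK : T ≤ K := by
    intro t ht
    refine ⟨D.T_le_C i ht, ?_⟩
    rw [mem_centralizer_singleton_iff.1 (hTm ht), mul_inv_cancel_right, mul_inv_cancel]
    exact one_mem _
  have key : K ≤ centralizer ({m} : Set G) := by
    refine MinSimple.MinParabolic.le_of_forall hTK ?_ fun R hR hRK => ?_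
    · rintro n ⟨hn, hnT⟩
      have h1 := (D.nT i ⟨hn.1, hnT⟩).1.1
      have h3 : n * m * n⁻¹ ∈ Z (i + 1) := (mem_normalizer_iff.1 h1 m).1 hm
      have h2 := hE1 (n * m * n⁻¹ * m⁻¹) (mul_mem h3 (inv_mem hm)) hn.2
      rw [mul_inv_eq_one] at h2
      rw [mem_centralizer_singleton_iff]
      calc n * m = (n * m * n⁻¹) * n := by group
        _ = m * n := by rw [h2]
    · by_cases hR2 : R ≤ CC Z (i + 1)
      · exact hR2.trans (centralizer_le (Set.singleton_subset_iff.2 hm))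
      · have hRC : R ≤ CC Z i := fun r hr => (hRK hr).1
        have h1 := D.uni (i + 1) i (ne_add_one i).symm R hR hRC hR2 (i + 1)
        intro r hr
        have h2 : r * m * r⁻¹ * m⁻¹ ∈ V (i + 1) ⊓ E :=
          mem_inf.2 ⟨mul_mem ((mem_normalizer_iff.1 (h1 hr) m).1 (D.ZV _ hm)) (inv_mem (D.ZV _ hm)), (hRK hr).2⟩
        rw [D.inf_E hE hE1, mem_bot, mul_inv_eq_one] at h2
        rw [mem_centralizer_singleton_iff]
        calc r * m = (r * m * r⁻¹) * r := by group
          _ = m * r := by rw [h2]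
  exact mem_centralizer_singleton_iff.1 (key (show c ∈ K from ⟨hc, h⟩))

/-- **(G2)** `A` maximal in `O` moves `N_i` : `C_A(N_i)` moves `W_i` -/
theorem g2 (hML : ML.Final.MLK.{u, u}) {i : Fin 2} (hK : IsKGroup (CC Z i)) (hG : GOne V Z i) {A : Subgroup G}
    (hA : Mx (o2 (centralizer (zc T : Set G))) A) (hm : ¬ A ≤ centralizer (NN Z i : Set G)) :
    ¬ A ⊓ centralizer (NN Z i : Set G) ≤ centralizer (WW V Z i : Set G) := by
  intro hc0
  apply hm
  obtain ⟨h1, h2, h3, -⟩ := D.X_facts i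
  have hc : A ⊓ centralizer (NN Z i : Set G) ≤ centralizer ((WW V Z i ⊔ NN Z i : Subgroup G) : Set G) :=
    comm_symm (sup_le (comm_symm hc0) (comm_symm inf_le_right))
  have hXc : WW V Z i ⊔ NN Z i ≤ centralizer ((WW V Z i ⊔ NN Z i : Subgroup G) : Set G) := comm_of_sq h2
  have h7 : (centralizer (A : Set G)).relIndex (WW V Z i ⊔ NN Z i) ≤ (centralizer (A : Set G)).relIndex (NN Z i) := by
    refine (hA.thom (h1.trans (D.Q_le_O i)) h2).trans ?_
    rw [← (D.mx hML hK hA).1]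
    have e1 : (A ⊓ centralizer (NN Z i : Set G)).relIndex A = (centralizer (NN Z i : Set G)).relIndex A :=
      inf_relIndex_left _ _
    rw [← e1]
    exact relIndex_anti hc
  have h8 := sup_of_relIndex_le le_sup_right hXc h7
  have hAC : A ≤ CC Z i := (hA.le.trans D.O_le_T).trans (D.T_le_C i)
  refine hG A hAC ((o2_isPGroup _).to_le hA.le) fun a ha x hx => ?_
  have hNX : NN Z i ≤ WW V Z i ⊔ NN Z i := le_sup_right
  have h9 := comm_le_of_sup (N := NN Z i) (hAC.trans (le_normalizer_V (Z (i + 1)) (CC Z i))) h8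
    ((hXc.trans (centralizer_le hNX)).trans (centralizer_le_normalizer _)) a ha x hx
  exact mem_sup_left h9

/-- `A` maximal in `O` moves `N_i` : some maximal `A' ≤ Q_i` moves `V i` -/
theorem g_conj (hML : ML.Final.MLK.{u, u}) {i : Fin 2} (hK : IsKGroup (CC Z i)) (hG : GOne V Z i) {A : Subgroup G}
    (hA : Mx (o2 (centralizer (zc T : Set G))) A) (hm : ¬ A ≤ centralizer (NN Z i : Set G)) :
    ∃ B : Subgroup G, Mx (o2 (centralizer (zc T : Set G))) B ∧ B ≤ QQ Z i ∧ ¬ B ≤ centralizer (V i : Set G) := by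
  by_contra hcon
  push Not at hcon
  apply D.g2 hML hK hG hA hm
  obtain ⟨-, h1, h2⟩ := D.mx hML hK hA
  have h3 : WW V Z i ≤ centralizer ((A ⊓ centralizer (NN Z i : Set G) ⊔ NN Z i : Subgroup G) : Set G) := by
    refine V_le fun c hc => ?_
    have e1 : MulAut.conj c⁻¹ • QQ Z i = QQ Z i := conj_eq_of_mem (le_normalizer_o2 _ (inv_mem hc))
    have h4 : MulAut.conj c⁻¹ • (A ⊓ centralizer (NN Z i : Set G) ⊔ NN Z i) ≤ QQ Z i := by
      rw [← e1]; exact conj_le_iff.2 h2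
    have h5 := comm_symm (hcon _ (h1.conj (h4.trans (D.Q_le_O i))) h4)
    have h6 : MulAut.conj c • V i ≤ MulAut.conj c • centralizer
        ((MulAut.conj c⁻¹ • (A ⊓ centralizer (NN Z i : Set G) ⊔ NN Z i) : Subgroup G) : Set G) := conj_le_iff.2 h5
    rwa [conj_cent, conj_conj, mul_inv_cancel, map_one, one_smul] at h6
  exact le_sup_left.trans (comm_symm h3)

/-- (nonlocality) some maximal `A` moves `N_0` or `N_1` -/
theorem exists_move_N : ∃ (i : Fin 2) (A : Subgroup G), Mx (o2 (centralizer (zc T : Set G))) A ∧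
    ¬ A ≤ centralizer (NN Z i : Set G) := by
  by_contra hcon
  push Not at hcon
  have hQ : ∀ i A, Mx (o2 (centralizer (zc T : Set G))) A → A ≤ QQ Z i := fun i A hA =>
    (le_inf hA.le (hcon i A hA)).trans (D.O_inf_le i)
  set J : Subgroup G := ⨆ A : {A : Subgroup G // Mx (o2 (centralizer (zc T : Set G))) A}, (A : Subgroup G) with hJ
  have hJO : J ≤ o2 (centralizer (zc T : Set G)) := iSup_le fun A => A.2.le
  have hinv : ∀ (i : Fin 2), CC Z i ≤ normalizer (J : Set G) := by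
    intro i
    refine le_norm_of fun g hg x hx => ?_
    have h2 : J ≤ MulAut.conj g⁻¹ • J := by
      refine iSup_le fun A => ?_
      have e1 : MulAut.conj g • QQ Z i = QQ Z i := conj_eq_of_mem (le_normalizer_o2 _ hg)
      have hAg : MulAut.conj g • (A : Subgroup G) ≤ QQ Z i := by rw [← e1]; exact conj_le_iff.2 (hQ i _ A.2)
      have h3 : MulAut.conj g • (A : Subgroup G) ≤ J :=
        le_iSup (fun A : {A : Subgroup G // Mx (o2 (centralizer (zc T : Set G))) A} => (A : Subgroup G))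
          ⟨_, A.2.conj (hAg.trans (D.Q_le_O i))⟩
      have h4 : MulAut.conj g⁻¹ • (MulAut.conj g • (A : Subgroup G)) ≤ MulAut.conj g⁻¹ • J := conj_le_iff.2 h3
      rwa [conj_conj, inv_mul_cancel, map_one, one_smul] at h4
    have h5 := h2 hx
    rw [mem_conj, inv_inv] at h5
    exact h5
  have hJ1 : J = ⊥ := D.nonloc' (i := 0) ((o2_isPGroup _).to_le hJO) (hinv 0) (hinv (0 + 1))
  obtain ⟨A, hA⟩ := Mx.exists_mx (o2 (centralizer (zc T : Set G)))
  have h6 : A ≤ J := le_iSup (fun A : {A : Subgroup G // Mx (o2 (centralizer (zc T : Set G))) A} => (A : Subgroup G))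
    ⟨A, hA⟩
  have h7 : NN Z 0 ≤ A := hA.le_of_comm (D.N_le_O 0) (D.N_sq 0) (comm_symm (hcon 0 A hA))
  have h8 := (le_V (Z (0 + 1)) (CC Z 0)).trans (h7.trans h6)
  rw [hJ1] at h8
  exact D.ne (0 + 1) (le_bot_iff.1 h8)

/-- a maximal `A` which moves `V i` moves `N_{i+1}` -/
theorem move_N_of_V {i : Fin 2} {A : Subgroup G} (hm : ¬ A ≤ centralizer (V i : Set G)) :
    ¬ A ≤ centralizer (NN Z (i + 1) : Set G) := by
  intro h
  apply hm
  refine h.trans (centralizer_le ?_)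
  have h1 := D.V_le_N (i + 1)
  rwa [add_one_add_one] at h1

/-- **(G3)** for both `i` some maximal `A ≤ Q_i` moves `V i` -/
theorem g3 (hML : ML.Final.MLK.{u, u}) (hK : ∀ i, IsKGroup (CC Z i)) (hG : ∀ i, GOne V Z i) (i : Fin 2) :
    ∃ A : Subgroup G, Mx (o2 (centralizer (zc T : Set G))) A ∧ A ≤ QQ Z i ∧ ¬ A ≤ centralizer (V i : Set G) := by
  obtain ⟨j, A, hA, hm⟩ := D.exists_move_N
  obtain ⟨B, hB, hBQ, hBm⟩ := D.g_conj hML (hK j) (hG j) hA hm
  by_cases hij : i = j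
  · subst hij; exact ⟨B, hB, hBQ, hBm⟩
  · obtain rfl : i = j + 1 := eq_add_one (Ne.symm hij)
    exact D.g_conj hML (hK (j + 1)) (hG (j + 1)) hB (D.move_N_of_V hBm)

/-- (G3) on one side from a maximal `A` which moves `V (i+1)` -/
theorem g3_of (hML : ML.Final.MLK.{u, u}) {i : Fin 2} (hK : IsKGroup (CC Z i)) (hG : GOne V Z i) {A : Subgroup G}
    (hA : Mx (o2 (centralizer (zc T : Set G))) A) (hm : ¬ A ≤ centralizer (V (i + 1) : Set G)) :
    ∃ B : Subgroup G, Mx (o2 (centralizer (zc T : Set G))) B ∧ B ≤ QQ Z i ∧ ¬ B ≤ centralizer (V i : Set G) := by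
  have h := D.move_N_of_V hm
  rw [add_one_add_one] at h
  exact D.g_conj hML hK hG hA h


end FrK

end Cfsg.Agent.Omega.KL.TwoZ
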