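import Cfsg.Agent.Omega.KL.TwoZ.LineX
import Cfsg.Agent.Omega.KL.TwoZ.LFrEnd
import Cfsg.Agent.Omega.KL.TwoZ.LineBf
import Cfsg.Agent.Omega.NOThreeL.RRed.InstLW

/-!
# Two natural blocks WITH field automorphisms: contradiction (helper918 #24444 (C)), all inputs plugged

* **`LFrW.false`** : `LFrW` and the natural parabolics (640's `NatS`) are contradictory;
* **`LFr.false`** : `LFr` and natural minimal parabolics are contradictory (`bf` = helper916, tori = helper19).
-/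

set_option autoImplicit false
set_option linter.unusedSectionVars false

namespace Cfsg.Agent.Omega.KL.TwoZ.Line

open Subgroup Cfsg Cfsg.Agent.Omega.MinPar
open Cfsg.Agent.ZN (o2 zc)
open Cfsg.Agent.Omega.NOThreeL.RRed (NatS)
open Cfsg.Agent.Omega.NOThreeL.RRed.InstL (torZ_of_natS torU_of_natS lfrw_of)
open Cfsg.Agent.MinSimple.MinParabolic (IsMinPar)
open Cfsg.Agent.Omega.KL.TwoS (Mx)
open Cfsg.Agent.Omega.KL.TwoZ (CC)
open Cfsg.Agent.Omega.OM
open scoped Pointwise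

universe u

variable {G : Type u} [Group G] [Finite G] {S : Sylow 2 G} {V Z l : Fin 2 → Subgroup G}

/-- **two natural blocks with field automorphisms: contradiction** -/
theorem LFrW.false (D : LFrW S V Z l) (hML : ML.Final.MLK.{u, u}) (hE : ML.Ex.Two.Ext.{u, u})
    (hN : StarM.NoInpM.{u, u}) (hK : ∀ i, IsKGroup (CC Z i))
    (hP : ∀ i, ∃ (F : Type) (_ : Field F) (_ : Finite F) (_ : CharP F 2) (P : Subgroup G),
      Nonempty (NatS F (S : Subgroup G) P (V i) (V (i + 1)) (l i))) : False :=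
  D.false_of_g3 hML hK hP (D.toLFr.g1T D.torZ D.torU hML hE hN hK) (D.toLFr.g3T D.torZ D.torU hML hE hN hK)

/-- **two natural blocks with field automorphisms: contradiction**, from the frame and the natural parabolics -/
theorem LFr.false (D : LFr S V Z l) (hML : ML.Final.MLK.{u, u}) (hE : ML.Ex.Two.Ext.{u, u})
    (hN : StarM.NoInpM.{u, u}) (hK : ∀ i, IsKGroup (CC Z i))
    (hP : ∀ i, ∃ (F : Type) (_ : Field F) (_ : Finite F) (_ : CharP F 2) (P : Subgroup G)
      (_ : NatS F (S : Subgroup G) P (V i) (V (i + 1)) (l i)), IsMinPar (S : Subgroup G) P) : False := by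
  have torZ : ∀ i, ∀ x ∈ l i, x ≠ 1 → ∀ y ∈ l i, y ≠ 1 → ∃ h : G, h ∈ centralizer (V (i + 1) : Set G) ∧
      MulAut.conj h • l i = l i ∧ MulAut.conj h • V i = V i ∧ h * x * h⁻¹ = y := by
    intro i
    obtain ⟨F, _, _, _, P, N, -⟩ := hP i
    exact torZ_of_natS N ((D.VQ i).trans (D.Q_le_S i)) (D.sqV i)
  have torU : ∀ i, ∀ x ∈ V i, x ∉ l i → ∀ y ∈ V i, y ∉ l i → ∃ h : G, h ∈ centralizer (V (i + 1) : Set G) ∧
      MulAut.conj h • l i = l i ∧ MulAut.conj h • V i = V i ∧ y⁻¹ * (h * x * h⁻¹) ∈ l i := by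
    intro i
    obtain ⟨F, _, _, _, P, N, -⟩ := hP i
    exact torU_of_natS N ((D.VQ i).trans (D.Q_le_S i)) (D.sqV i)
  have hP' : ∀ i, ∃ (F : Type) (_ : Field F) (_ : Finite F) (_ : CharP F 2) (P : Subgroup G),
      Nonempty (NatS F (S : Subgroup G) P (V i) (V (i + 1)) (l i)) := fun i => by
    obtain ⟨F, h1, h2, h3, P, N, -⟩ := hP i
    exact ⟨F, h1, h2, h3, P, ⟨N⟩⟩
  exact LFrW.false (lfrw_of D hP' (D.bf hP (D.g3T torZ torU hML hE hN hK))) hML hE hN hK hP'

end Cfsg.Agent.Omega.KL.TwoZ.Line
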