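import Cfsg.Agent.Omega.KL.TwoZ.LineF2
import Cfsg.Agent.Omega.NOThreeL.RRed.NatS

/-!
# `LE` from 640's `NatS`: the data of THEOREM I(q) over the lines
-/

set_option autoImplicit false
set_option linter.unusedSectionVars false

namespace Cfsg.Agent.Omega.KL.TwoZ.Line

open Subgroup Cfsg Cfsg.Agent.Omega.MinPar
open Cfsg.Agent.ZN (o2 zc)
open Cfsg.Agent.MinSimple.MinParabolic (IsMinPar)
open Cfsg.Agent.MinSimple.VModule (oddGen oddGen_def)
open Cfsg.Agent.Omega.NOThreeL.RRed (NatS)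
open Cfsg.Agent.Omega.NoFF.Basic (conj_conj mem_conj conj_le_iff comm_symm)
open Cfsg.Agent.Omega.NoFF.ThmJFam (card_conj conj_inf)
open Cfsg.Agent.Omega.NOThreeL.Pair (conj_eq_of_mem)
open Cfsg.Agent.ZN.ChoiceSit (Syl exists_syl syl_conj)
open Cfsg.Agent.Omega.TC.LemZ (norm_cent)
open Cfsg.Agent.Omega.KL.TwoS (Mx)
open Cfsg.Agent.Omega.KL.TwoZ (CC)
open Cfsg.Agent.Omega.OM
open scoped Pointwise

universe u

variable {G : Type u} [Group G] [Finite G] {S : Sylow 2 G} {V Z l : Fin 2 → Subgroup G}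

/-- **the data of THEOREM I(q) over the lines from the coordinates of `V (i+1)`** -/
theorem LFr.le_of_natS (D : LFr S V Z l) {i : Fin 2} {F : Type} [Field F] [Finite F] [CharP F 2] {P W : Subgroup G}
    (N : NatS F (S : Subgroup G) P (V (i + 1)) W (l (i + 1))) (hW : Z i ≤ W)
    (hP : IsMinPar (S : Subgroup G) P) : LE S V Z l i P N.E := by
  have hmv : ¬ P ≤ normalizer (l (i + 1) : Set G) := by
    intro h
    obtain ⟨v, hv, hvl⟩ := D.exists_notMem (i + 1)
    obtain ⟨z, hz, hz1⟩ := D.exists_ne (i + 1)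
    obtain ⟨g, hg, hgv⟩ := N.trans hv (fun h' => hvl (h' ▸ one_mem _)) (D.ZV _ hz) hz1 (D.Z_cent_S _ hz)
    have hgP : g ∈ P := (by
      rw [oddGen_def] at hg
      exact (closure_le _).2 (fun x hx => hx.1) hg)
    apply hvl
    have h1 := (mem_normalizer_iff.1 (h hgP) v).2
    exact h1 (by rw [hgv]; exact D.Zl _ hz)
  refine
    { SP := N.SP
      PC := ?_
      PV := N.nV
      mv := hmv
      nrm := LE.nrm_of hP N.nV fun h => hmv (h.trans (sup_le ?_ (D.Sl (i + 1))))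
      EP := N.E_le
      nE := N.E_norm
      lE := fun s hs hsl => N.cl_le_E hs hsl
      El := fun s hs hsE => N.E_cl hs hsE }
  · rw [← Star.Core.oddGen_sup N.SP N.syl]
    exact sup_le (N.odd_le.trans (centralizer_le hW)) (D.S_le_C i)
  · exact inf_le_right.trans ((centralizer_le (D.lV _)).trans (centralizer_le_normalizer _))

/-- Frattini: `P = C_P(U) N_P(S ∩ C(U))` -/
theorem frat_of {P U : Subgroup G} (hSP : (S : Subgroup G) ≤ P) (hU : P ≤ normalizer (U : Set G)) {g : G}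
    (hg : g ∈ P) : ∃ k ∈ P ⊓ centralizer (U : Set G),
      k⁻¹ * g ∈ normalizer (((S : Subgroup G) ⊓ centralizer (U : Set G) : Subgroup G) : Set G) := by
  set K : Subgroup G := P ⊓ centralizer (U : Set G) with hK
  set T : Subgroup G := (S : Subgroup G) ⊓ centralizer (U : Set G) with hT
  have hTK : T ≤ K := inf_le_inf_right _ hSP
  have hn0 : P ≤ normalizer (K : Set G) := ThmIq.le_norm_of_conj fun g hg y hy =>
    mem_inf.2 ⟨P.mul_mem (P.mul_mem hg hy.1) (P.inv_mem hg), (mem_normalizer_iff.1 (norm_cent hU hg) y).1 hy.2⟩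
  have hn : ∀ x ∈ P, MulAut.conj x • K = K := fun x hx => conj_eq_of_mem (hn0 hx)
  have hsylP : Syl (S : Subgroup G) P := ⟨hSP, S.2, fun R _ hR2 hSR => S.3 hR2 hSR⟩
  have hSK : (S : Subgroup G) ⊓ K = T := by
    rw [hK, ← inf_assoc, inf_eq_left.2 hSP]
  have hsyl : Syl T K := by
    refine ⟨hTK, S.2.to_le inf_le_left, fun Q hQ hQ2 hle => ?_⟩
    obtain ⟨R, hR, hQR⟩ := exists_syl hQ2 (hQ.trans inf_le_left : Q ≤ P)
    obtain ⟨h, hh, e⟩ := syl_conj hsylP hR
    have e' : MulAut.conj h • (S : Subgroup G) = R := e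
    have h1 : Q ≤ MulAut.conj h • T := by
      rw [← hSK, conj_inf, e', hn h hh]
      exact le_inf hQR hQ
    have h2 := card_le_of_le h1
    rw [card_conj] at h2
    exact (Subgroup.eq_of_le_of_card_ge hle h2).symm
  have h1 : MulAut.conj g • T ≤ K := by
    rw [← hn g hg]
    exact conj_le_iff.2 hTK
  obtain ⟨R, hR, hTR⟩ := exists_syl ((S.2.to_le inf_le_left : IsPGroup 2 T).map (MulAut.conj g).toMonoidHom) h1
  have hTR' : MulAut.conj g • T ≤ R := hTR
  obtain ⟨k, hk, e⟩ := syl_conj hsyl hR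
  have e' : MulAut.conj k • T = R := e
  have h2 : MulAut.conj g • T = MulAut.conj k • T := by
    rw [e']
    refine Subgroup.eq_of_le_of_card_ge hTR' ?_
    rw [← e', card_conj, card_conj]
  refine ⟨k, hk, mem_norm_iff.2 ?_⟩
  rw [← conj_conj, h2, conj_conj, inv_mul_cancel, map_one, one_smul]

/-- the same, `P` arbitrary -/
theorem LFr.exists_le_of_natS (D : LFr S V Z l) {i : Fin 2} {F : Type} [Field F] [Finite F] [CharP F 2]
    {P W : Subgroup G} (N : NatS F (S : Subgroup G) P (V (i + 1)) W (l (i + 1))) (hW : Z i ≤ W) :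
    ∃ P' E', LE S V Z l i P' E' := by
  set K : Subgroup G := normalizer (((S : Subgroup G) ⊓ centralizer (V (i + 1) : Set G) : Subgroup G) : Set G) with hK
  have hSK : (S : Subgroup G) ≤ K := ThmIq.le_norm_of_conj fun g hg x hx =>
    mem_inf.2 ⟨(S : Subgroup G).mul_mem ((S : Subgroup G).mul_mem hg hx.1) ((S : Subgroup G).inv_mem hg),
      (mem_normalizer_iff.1 (norm_cent (D.nV (i + 1)) hg) x).1 hx.2⟩
  have hPC : P ≤ centralizer (Z i : Set G) := by
    rw [← Star.Core.oddGen_sup N.SP N.syl]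
    exact sup_le (N.odd_le.trans (centralizer_le hW)) (D.S_le_C i)
  have hmv : ¬ P ≤ normalizer (l (i + 1) : Set G) := by
    intro h
    obtain ⟨v, hv, hvl⟩ := D.exists_notMem (i + 1)
    obtain ⟨z, hz, hz1⟩ := D.exists_ne (i + 1)
    obtain ⟨g, hg, hgv⟩ := N.trans hv (fun h' => hvl (h' ▸ one_mem _)) (D.ZV _ hz) hz1 (D.Z_cent_S _ hz)
    have hgP : g ∈ P := (by
      rw [oddGen_def] at hg
      exact (closure_le _).2 (fun x hx => hx.1) hg)
    apply hvl
    have h1 := (mem_normalizer_iff.1 (h hgP) v).2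
    exact h1 (by rw [hgv]; exact D.Zl _ hz)
  refine ⟨P ⊓ K, N.E ⊓ (P ⊓ K),
    { SP := le_inf N.SP hSK
      PC := inf_le_left.trans hPC
      PV := inf_le_left.trans N.nV
      mv := fun h => hmv fun g hg => ?_
      nrm := inf_le_right
      EP := inf_le_right
      nE := ThmIq.le_norm_of_conj fun g hg x hx => ⟨(mem_normalizer_iff.1 (N.E_norm hg.1) x).1 hx.1,
        (P ⊓ K).mul_mem ((P ⊓ K).mul_mem hg hx.2) ((P ⊓ K).inv_mem hg)⟩
      lE := fun s hs hsl => ⟨N.cl_le_E hs hsl, N.SP hs, hSK hs⟩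
      El := fun s hs hsE => N.E_cl hs hsE.1 }⟩
  obtain ⟨k, hk, hkg⟩ := frat_of N.SP N.nV hg
  have h1 : k⁻¹ * g ∈ P ⊓ K := ⟨P.mul_mem (P.inv_mem hk.1) hg, hkg⟩
  have h2 : k ∈ normalizer (l (i + 1) : Set G) := centralizer_le_normalizer _ (centralizer_le (D.lV _) hk.2)
  have h3 := mul_mem h2 (h h1)
  rwa [mul_inv_cancel_left] at h3

/-- **THEOREM I(q) over the lines from coordinates** -/
theorem LFr.inter_natS (D : LFr S V Z l) (hML : ML.Final.MLK.{u, u}) (hK : ∀ i, IsKGroup (CC Z i))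
    (hN : ∀ i, ∃ (F : Type) (_ : Field F) (_ : Finite F) (_ : CharP F 2) (P : Subgroup G),
      Nonempty (NatS F (S : Subgroup G) P (V i) (V (i + 1)) (l i)))
    (hg3 : ∀ i, ∃ A : Subgroup G, Mx (o2 (centralizer (zc (S : Subgroup G) : Set G))) A ∧ A ≤ TwoZ.QQ Z i ∧
      ¬ A ≤ centralizer (V i : Set G))
    (hk3 : ∀ (i : Fin 2) (B : Subgroup G), B ≤ o2 (centralizer (zc (S : Subgroup G) : Set G)) →
      (∀ b ∈ B, b ^ 2 = 1) → (∀ j, B ≤ centralizer (l j : Set G)) →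
      (centralizer (B : Set G)).relIndex (TwoZ.NN Z i) ≤ (centralizer (TwoZ.NN Z i : Set G)).relIndex B →
      ∀ n ∈ TwoZ.NN Z i, (∀ b ∈ B, b * n * b⁻¹ * n⁻¹ ∈ l i) → ∀ b ∈ B, b * n = n * b) :
    PT.NN l (l 0) ⊓ PT.NN l (l 1) ≤ l 0 ⊔ l 1 :=
  D.inter' hML hK (fun i => by
    obtain ⟨F, iF, iF', iF2, P, ⟨N⟩⟩ := hN (i + 1)
    refine D.exists_le_of_natS N ?_
    rw [PT.add2]
    exact D.ZV i) hg3 hk3

end Cfsg.Agent.Omega.KL.TwoZ.Line
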