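import Cfsg.Agent.Omega.KL.TwoZ.LineM
import Cfsg.Agent.Omega.KL.TwoZ.LineF2
import Cfsg.Agent.Omega.KL.TwoM.Inp
import Cfsg.Agent.Omega.KL.TwoZ.GK
import Cfsg.Agent.Omega.KL.GLine.LFG

/-!
# Two natural blocks WITH field automorphisms: (G1), (G3) over the lines without hypotheses (helper918 #24444 (C))

* `LFr.ex` : `¬ Fail`, `V i ≰ N_i`, `J(O)` moves `V i` (391's `TwoM.Fr.ex_false`);
* `Full S V l i` : `[w, C_S(l i)] = l i` for `w ∈ V i - l i`; **`LFr.full`**;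
* `LFr.fix_of` : an element of `C_G(l i)` which fixes a vector of `V i / l i` is in `C_G(V i) S`;
* **`LFr.trR`** : a minimal parabolic which normalises `V i` and moves `l i` is transitive on `V i#`;
* `LFr.frK` : 410's frame; `LFr.exists_BX`; **`LFr.g1T`** : `PT.ThmC2 l (PT.XW l V)`; **`LFr.g3T`** : (G3).
-/

set_option autoImplicit false
set_option linter.unusedSectionVars false
set_option linter.unusedVariables false

namespace Cfsg.Agent.Omega.KL.TwoZ.Line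

open Subgroup Cfsg Cfsg.Agent.Omega.MinPar
open Cfsg.Agent.ZN (o2 zc)
open Cfsg.Agent.MinSimple.MinParabolic (IsMinPar)
open Cfsg.Agent.Omega.OM.KTwo (ne_add_one eq_add_one exists_mul_of_mem_sup)
open Cfsg.Agent.Omega.NoFF.Basic (conj_conj mem_conj conj_le_iff comm_symm comm_mono Z_le_V V_le)
open Cfsg.Agent.Omega.NOThreeL.Pair (conj_eq_of_mem conj_le_normalizer)
open Cfsg.Agent.ZN.ChoiceSit (Syl exists_syl syl_conj o2_le_syl syl_not_dvd)
open Cfsg.Agent.MinSimple.VModule (mem_zc zc_le le_o2 o2_isPGroup o2_le zc_le_centralizer le_centralizer_zc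
  le_normalizer_o2)
open Cfsg.Agent.Omega.TC.LemZ (card_eq le_norm_of norm_cent norm_inf)
open Cfsg.Agent.Omega.KL.TwoS (Mx)
open Cfsg.Agent.Omega.KL.TwoZ (CC)
open Cfsg.Agent.Omega.OM
open scoped Pointwise

universe u

variable {G : Type u} [Group G]

/-- `C_S(l i)` is the full root group on `V i` -/
def Full [Finite G] (S : Sylow 2 G) (V l : Fin 2 → Subgroup G) (i : Fin 2) : Prop :=
  ∀ w ∈ V i, w ∉ l i → ∀ x ∈ l i, ∃ s ∈ (S : Subgroup G), s ∈ centralizer (l i : Set G) ∧ s * w * s⁻¹ = x * w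

/-- two subgroups of order `q` which meet trivially generate a group of order `q²` -/
theorem exists_mul_of_card [Finite G] {W A P : Subgroup G} (hA : A ≤ W) (hP : P ≤ W) (hd : A ⊓ P = ⊥)
    (hc : Nat.card W ≤ Nat.card A * Nat.card P) {w : G} (hw : w ∈ W) : ∃ a ∈ A, ∃ p ∈ P, a * p = w := by
  let g : A × P → W := fun q => ⟨(q.1 : G) * (q.2 : G), W.mul_mem (hA q.1.2) (hP q.2.2)⟩
  have hg : Function.Injective g := by
    rintro ⟨a, p⟩ ⟨b, r⟩ h
    have h1 : (a : G) * (p : G) = (b : G) * (r : G) := congrArg Subtype.val h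
    have h2 : (b : G)⁻¹ * (a : G) = (r : G) * (p : G)⁻¹ := by
      calc (b : G)⁻¹ * (a : G) = (b : G)⁻¹ * ((a : G) * (p : G)) * (p : G)⁻¹ := by group
        _ = (b : G)⁻¹ * ((b : G) * (r : G)) * (p : G)⁻¹ := by rw [h1]
        _ = (r : G) * (p : G)⁻¹ := by group
    have h3 : (b : G)⁻¹ * (a : G) ∈ A ⊓ P :=
      ⟨A.mul_mem (A.inv_mem b.2) a.2, by rw [h2]; exact P.mul_mem r.2 (P.inv_mem p.2)⟩
    rw [hd, mem_bot] at h3
    have h4 : (a : G) = b := (inv_mul_eq_one.1 h3).symm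
    have h5 : (p : G) = r := by rw [h4] at h1; exact mul_left_cancel h1
    exact Prod.ext (Subtype.ext h4) (Subtype.ext h5)
  have hb : Function.Bijective g := hg.bijective_of_nat_card_le (by rw [Nat.card_prod]; exact hc)
  obtain ⟨⟨a, p⟩, h⟩ := hb.2 ⟨w, hw⟩
  exact ⟨a, a.2, p, p.2, congrArg Subtype.val h⟩

namespace LFr

variable [Finite G] {S : Sylow 2 G} {V Z l : Fin 2 → Subgroup G} (D : LFr S V Z l)
include D

/-- **(F)** -/
theorem ex (hML : ML.Final.MLK.{u, u}) (hN : StarM.NoInpM.{u, u}) (hK : ∀ i, IsKGroup (CC Z i)) :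
    ∀ i, ¬ Fail (S : Subgroup G) V Z i ∧
    ¬ V i ≤ TwoZ.NN Z i ∧ ∃ A : Subgroup G, Mx (o2 (centralizer (zc (S : Subgroup G) : Set G))) A ∧
      ¬ A ≤ centralizer (V i : Set G) :=
  D.frM.ex_false hML hN hK

/-- a maximal `A ≤ O` in `C(l i)` which moves `V i` is the full root group on `V i` -/
theorem full_of {i : Fin 2} {A : Subgroup G} (hA : Mx (o2 (centralizer (zc (S : Subgroup G) : Set G))) A)
    (hAl : A ≤ centralizer (l i : Set G)) (hm : ¬ A ≤ centralizer (V i : Set G)) {w : G} (hw : w ∈ V i)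
    (hwl : w ∉ l i) {x : G} (hx : x ∈ l i) : ∃ a ∈ A, a * w * a⁻¹ = x * w := by
  have hAS : A ≤ (S : Subgroup G) := hA.le.trans D.O_le_S
  obtain ⟨-, hc⟩ := D.exists_gen hA hAl hm
  have hroot : ∀ t ∈ A, t * w * t⁻¹ * w⁻¹ ∈ l i := by
    intro t ht
    have h1 := inv_mem (D.root i w hw t (hAS ht) (hAl ht))
    have e : (w * t * w⁻¹ * t⁻¹)⁻¹ = t * w * t⁻¹ * w⁻¹ := by group
    rwa [e] at h1
  set C : Subgroup A := (centralizer (V i : Set G)).subgroupOf A with hC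
  let g : A ⧸ C → l i := fun q => ⟨(q.out : A) * w * ((q.out : A) : G)⁻¹ * w⁻¹, hroot _ (q.out : A).2⟩
  have hg : Function.Injective g := by
    intro q q' h
    have h0 : ((q.out : A) : G) * w * ((q.out : A) : G)⁻¹ * w⁻¹ = ((q'.out : A) : G) * w * ((q'.out : A) : G)⁻¹ * w⁻¹ :=
      congrArg Subtype.val h
    have h1 := mul_right_cancel h0
    have h2 : ((q.out : A) : G)⁻¹ * ((q'.out : A) : G) ∈ centralizer (V i : Set G) := by
      refine D.reg i _ (mul_mem (inv_mem (hAS (q.out : A).2)) (hAS (q'.out : A).2))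
        (mul_mem (inv_mem (hAl (q.out : A).2)) (hAl (q'.out : A).2)) w hw hwl ?_
      calc ((q.out : A) : G)⁻¹ * ((q'.out : A) : G) * w
          = ((q.out : A) : G)⁻¹ * (((q'.out : A) : G) * w * ((q'.out : A) : G)⁻¹) * ((q'.out : A) : G) := by group
        _ = ((q.out : A) : G)⁻¹ * (((q.out : A) : G) * w * ((q.out : A) : G)⁻¹) * ((q'.out : A) : G) := by rw [h1]
        _ = w * (((q.out : A) : G)⁻¹ * ((q'.out : A) : G)) := by group
    rw [← Quotient.out_eq' q, ← Quotient.out_eq' q']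
    exact QuotientGroup.eq.2 (mem_subgroupOf.2 h2)
  have hcard : Nat.card (A ⧸ C) = (centralizer (V i : Set G)).relIndex A := rfl
  have hle : Nat.card (l i) ≤ Nat.card (A ⧸ C) := by
    rw [hcard]
    have c1 := card_eq A (centralizer (V i : Set G))
    rw [hc, mul_comm] at c1
    exact (Nat.eq_of_mul_eq_mul_left Nat.card_pos c1).le
  have hb : Function.Bijective g := hg.bijective_of_nat_card_le hle
  obtain ⟨q, hq⟩ := hb.2 ⟨x, hx⟩
  refine ⟨(q.out : A), (q.out : A).2, ?_⟩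
  have h1 : ((q.out : A) : G) * w * ((q.out : A) : G)⁻¹ * w⁻¹ = x := congrArg Subtype.val hq
  rw [← h1]
  group

/-- **the root groups are full** -/
theorem full (hML : ML.Final.MLK.{u, u}) (hN : StarM.NoInpM.{u, u}) (hK : ∀ i, IsKGroup (CC Z i)) (i : Fin 2) :
    Full S V l i := by
  obtain ⟨-, -, A, hA, hm⟩ := D.ex hML hN hK i
  intro w hw hwl x hx
  obtain ⟨a, ha, h⟩ := D.full_of hA (D.mx_le_cl hA i) hm hw hwl hx
  exact ⟨a, hA.le.trans D.O_le_S ha, D.mx_le_cl hA i ha, h⟩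

/-! ### The points of `V i` -/

theorem card_pt {i : Fin 2} {k : G} : Nat.card (MulAut.conj k • l i : Subgroup G) = Nat.card (l i) :=
  NoFF.ThmJFam.card_conj _ _

/-- `V i = l i P` for a point `P ≠ l i` of `V i` -/
theorem mul_pt {i : Fin 2} {k : G} (hk : MulAut.conj k • l i ≤ V i) (hne : MulAut.conj k • l i ≠ l i) {w : G}
    (hw : w ∈ V i) : ∃ a ∈ l i, ∃ p ∈ MulAut.conj k • l i, a * p = w := by
  refine exists_mul_of_card (D.lV i) hk (D.ti _ _ (PT.isPt l i) ⟨i, k, rfl⟩ hne.symm) ?_ hw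
  rw [D.card_pt, D.cardV i]

theorem pt_eq {i j : Fin 2} {k m p : G} (hp1 : p ≠ 1) (h1 : p ∈ MulAut.conj k • l i) (h2 : p ∈ MulAut.conj m • l j) :
    MulAut.conj k • l i = MulAut.conj m • l j := by
  by_contra hne
  have h3 : p ∈ MulAut.conj k • l i ⊓ MulAut.conj m • l j := ⟨h1, h2⟩
  rw [D.ti _ _ ⟨i, k, rfl⟩ ⟨j, m, rfl⟩ hne, mem_bot] at h3
  exact hp1 h3

/-- an element which fixes `l i` pointwise and a vector of `V i - l i` centralises `V i` -/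
theorem fix_aux {i : Fin 2} {c w : G} (hc : c ∈ centralizer (l i : Set G)) (hw : w ∈ V i) (hwl : w ∉ l i)
    (h : c * w * c⁻¹ = w) : c ∈ centralizer (V i : Set G) := by
  have h1e : MulAut.conj (1 : G) • l i = l i := by rw [map_one, one_smul]
  have hcl : ∀ y ∈ l i, c * y * c⁻¹ = y := fun y hy => by
    rw [← mem_centralizer_iff.1 hc y hy]; group
  -- `c` normalises every point of `V i`
  have key : ∀ k : G, MulAut.conj k • l i ≤ V i → MulAut.conj k • l i ≠ l i →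
      MulAut.conj c • (MulAut.conj k • l i) = MulAut.conj k • l i := by
    intro k hk hne
    obtain ⟨a, ha, p, hp, e⟩ := D.mul_pt hk hne hw
    have hp1 : p ≠ 1 := by
      rintro rfl
      rw [mul_one] at e
      exact hwl (e ▸ ha)
    have hpe : p = a⁻¹ * w := by rw [← e]; group
    have hfp : c * p * c⁻¹ = p := by
      calc c * p * c⁻¹ = (c * a * c⁻¹)⁻¹ * (c * w * c⁻¹) := by rw [hpe]; group
        _ = p := by rw [hcl a ha, h, hpe]
    have h2 : p ∈ MulAut.conj (c * k) • l i := by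
      rw [← conj_conj]
      have := conj_mem (g := c) hp
      rwa [hfp] at this
    rw [conj_conj]
    exact D.pt_eq hp1 h2 hp
  rw [mem_centralizer_iff]
  intro u hu
  by_cases hul : u ∈ l i
  · exact mem_centralizer_iff.1 hc u hul
  have hu1 : u ≠ 1 := fun e => hul (e ▸ one_mem _)
  obtain ⟨k, hk, huk⟩ := D.pts i u hu hu1
  have hkne : MulAut.conj k • l i ≠ l i := fun e => hul (e ▸ huk)
  obtain ⟨z, hz, hz1⟩ := D.exists_ne i
  have hy : z ∈ l i := D.Zl i hz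
  have huz : u * z ∈ V i := mul_mem hu (D.lV i hy)
  have huzl : u * z ∉ l i := fun h' => hul (by
    have := mul_mem h' (inv_mem hy)
    rwa [mul_inv_cancel_right] at this)
  obtain ⟨m, hm, hum⟩ := D.pts i (u * z) huz (fun e => huzl (e ▸ one_mem _))
  have hmne : MulAut.conj m • l i ≠ l i := fun e => huzl (e ▸ hum)
  have hkm : MulAut.conj k • l i ≠ MulAut.conj m • l i := by
    intro e
    have h1 : z ∈ MulAut.conj k • l i := by
      have h2 : u * z ∈ MulAut.conj k • l i := e ▸ hum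
      have := mul_mem (inv_mem huk) h2
      rwa [inv_mul_cancel_left] at this
    have h3 := D.pt_eq (m := 1) (j := i) hz1 h1 (by rw [h1e]; exact hy)
    exact hkne (h3.trans h1e)
  have hd := D.ti _ _ ⟨i, k, rfl⟩ ⟨i, m, rfl⟩ hkm
  -- `a = u⁻¹ (c u c⁻¹)`
  have hcu : c * u * c⁻¹ ∈ MulAut.conj k • l i := by
    have := conj_mem (g := c) huk
    rwa [key k hk hkne] at this
  have hcuz : c * (u * z) * c⁻¹ ∈ MulAut.conj m • l i := by
    have := conj_mem (g := c) hum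
    rwa [key m hm hmne] at this
  have ha1 : u⁻¹ * (c * u * c⁻¹) ∈ MulAut.conj k • l i := mul_mem (inv_mem huk) hcu
  have ha2 : u⁻¹ * (c * u * c⁻¹) ∈ MulAut.conj m • l i := by
    have h1 := mul_mem (inv_mem hum) hcuz
    have hV : c * u * c⁻¹ ∈ V i := hk hcu
    have e1 : c * (u * z) * c⁻¹ = (c * u * c⁻¹) * z := by
      calc c * (u * z) * c⁻¹ = (c * u * c⁻¹) * (c * z * c⁻¹) := by group
        _ = (c * u * c⁻¹) * z := by rw [hcl z hy]
    have e2 : (u * z)⁻¹ * (c * (u * z) * c⁻¹) = u⁻¹ * (c * u * c⁻¹) := by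
      rw [e1]
      have h5 : z * (u⁻¹ * (c * u * c⁻¹)) = (u⁻¹ * (c * u * c⁻¹)) * z :=
        D.V_comm i (D.lV i hy) (mul_mem (inv_mem hu) hV)
      calc (u * z)⁻¹ * (c * u * c⁻¹ * z) = z⁻¹ * ((u⁻¹ * (c * u * c⁻¹)) * z) := by group
        _ = z⁻¹ * (z * (u⁻¹ * (c * u * c⁻¹))) := by rw [h5]
        _ = u⁻¹ * (c * u * c⁻¹) := by group
    rwa [e2] at h1
  have h6 : u⁻¹ * (c * u * c⁻¹) ∈ MulAut.conj k • l i ⊓ MulAut.conj m • l i := ⟨ha1, ha2⟩
  rw [hd, mem_bot] at h6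
  have h7 : c * u * c⁻¹ = u := (inv_mul_eq_one.1 h6).symm
  calc u * c = (c * u * c⁻¹) * c := by rw [h7]
    _ = c * u := by group

/-- **(X)** -/
theorem fix_of {i : Fin 2} (hF : Full S V l i) {c w : G} (hc : c ∈ centralizer (l i : Set G)) (hw : w ∈ V i)
    (hwl : w ∉ l i) (h : c * w * c⁻¹ * w⁻¹ ∈ l i) : c ∈ centralizer (V i : Set G) ⊔ (S : Subgroup G) := by
  obtain ⟨s, hs, hsl, e⟩ := hF w hw hwl _ h
  rw [inv_mul_cancel_right] at e
  have h1 : s⁻¹ * c ∈ centralizer (V i : Set G) := by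
    refine D.fix_aux (mul_mem (inv_mem hsl) hc) hw hwl ?_
    calc s⁻¹ * c * w * (s⁻¹ * c)⁻¹ = s⁻¹ * (c * w * c⁻¹) * s := by group
      _ = s⁻¹ * (s * w * s⁻¹) * s := by rw [e]
      _ = w := by group
  have h2 : c = s * (s⁻¹ * c) := by group
  rw [h2]
  exact mul_mem (mem_sup_right hs) (mem_sup_left h1)

/-- **(R)** -/
theorem trR {i : Fin 2} (hF : Full S V l i) {R : Subgroup G} (hS : (S : Subgroup G) ≤ R)
    (hV : R ≤ normalizer (V i : Set G)) (hm : ¬ R ≤ normalizer (l i : Set G)) {v w : G} (hv : v ∈ V i) (hv1 : v ≠ 1)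
    (hw : w ∈ V i) (hw1 : w ≠ 1) : ∃ r ∈ R, r * v * r⁻¹ = w := by
  obtain ⟨g, hgR, hg⟩ := SetLike.not_le_iff_exists.1 hm
  have hne : MulAut.conj g • l i ≠ l i := fun e => hg (mem_norm_iff.2 e)
  have hgV : MulAut.conj g • V i = V i := conj_eq_of_mem (hV hgR)
  have hP : MulAut.conj g • l i ≤ V i := by
    rw [← hgV]; exact conj_le_iff.2 (D.lV i)
  have hd := D.ti _ _ (PT.isPt l i) ⟨i, g, rfl⟩ hne.symm
  -- the root groups
  have r1 : ∀ a ∈ V i, a ∉ l i → ∀ x ∈ l i, ∃ r ∈ R, r * a * r⁻¹ = x * a := fun a ha hal x hx => by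
    obtain ⟨s, hs, -, e⟩ := hF a ha hal x hx
    exact ⟨s, hS hs, e⟩
  have r2 : ∀ a ∈ V i, a ∉ MulAut.conj g • l i → ∀ x ∈ MulAut.conj g • l i, ∃ r ∈ R, r * a * r⁻¹ = x * a := by
    intro a ha hal x hx
    rw [mem_conj] at hal hx
    have ha' : g⁻¹ * a * g ∈ V i := by
      rw [← mem_conj, hgV]; exact ha
    obtain ⟨s, hs, -, e⟩ := hF _ ha' hal _ hx
    refine ⟨g * s * g⁻¹, mul_mem (mul_mem hgR (hS hs)) (inv_mem hgR), ?_⟩
    calc g * s * g⁻¹ * a * (g * s * g⁻¹)⁻¹ = g * (s * (g⁻¹ * a * g) * s⁻¹) * g⁻¹ := by group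
      _ = g * (g⁻¹ * x * g * (g⁻¹ * a * g)) * g⁻¹ := by rw [e]
      _ = x * a := by group
  have tr : ∀ {a b c : G}, (∃ r ∈ R, r * a * r⁻¹ = b) → (∃ r ∈ R, r * b * r⁻¹ = c) → ∃ r ∈ R, r * a * r⁻¹ = c := by
    rintro a b c ⟨r, hr, rfl⟩ ⟨t, ht, rfl⟩
    exact ⟨t * r, mul_mem ht hr, by group⟩
  have sy : ∀ {a b : G}, (∃ r ∈ R, r * a * r⁻¹ = b) → ∃ r ∈ R, r * b * r⁻¹ = a := by
    rintro a b ⟨r, hr, rfl⟩
    exact ⟨r⁻¹, inv_mem hr, by group⟩
  have nl : ∀ {p : G}, p ∈ MulAut.conj g • l i → p ≠ 1 → p ∉ l i := fun hp hp1 h => hp1 (by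
    have h3 : _ ∈ l i ⊓ MulAut.conj g • l i := ⟨h, hp⟩
    rwa [hd, mem_bot] at h3)
  -- a vector `p ≠ 1` of the second point
  obtain ⟨z, hz, hz1⟩ := D.exists_ne i
  have hpP : g * z * g⁻¹ ∈ MulAut.conj g • l i := conj_mem (D.Zl i hz)
  have hp1 : g * z * g⁻¹ ≠ 1 := fun e => hz1 (conj_eq_one_iff.1 e)
  set p := g * z * g⁻¹ with hp
  have hpl : p ∉ l i := nl hpP hp1
  have hpV : p ∈ V i := hP hpP
  -- `x ~ p x`, `x ∈ l i#`
  have s1 : ∀ x ∈ l i, x ≠ 1 → ∃ r ∈ R, r * x * r⁻¹ = p * x := fun x hx hx1 =>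
    r2 x (D.lV i hx) (fun h => nl h hx1 hx) p hpP
  -- `p x ~ p`
  have s2 : ∀ x ∈ l i, ∃ r ∈ R, r * p * r⁻¹ = p * x := fun x hx => by
    obtain ⟨r, hr, e⟩ := r1 p hpV hpl x hx
    exact ⟨r, hr, by rw [e, D.V_comm i (D.lV i hx) hpV]⟩
  have s3 : ∀ x ∈ l i, x ≠ 1 → ∃ r ∈ R, r * x * r⁻¹ = p := fun x hx hx1 => tr (s1 x hx hx1) (sy (s2 x hx))
  have s4 : ∀ y ∈ V i, y ≠ 1 → ∃ r ∈ R, r * y * r⁻¹ = p := by
    intro y hy hy1
    by_cases hyl : y ∈ l i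
    · exact s3 y hyl hy1
    obtain ⟨a, ha, b, hb, e⟩ := D.mul_pt hP hne hy
    have hb1 : b ≠ 1 := by
      rintro rfl
      rw [mul_one] at e
      exact hyl (e ▸ ha)
    have hbl := nl hb hb1
    -- `y = a b ~ b`
    have t1 : ∃ r ∈ R, r * b * r⁻¹ = y := e ▸ r1 b (hP hb) hbl a ha
    -- `b ~ g⁻¹ b g ∈ l i`
    have hb' : g⁻¹ * b * g ∈ l i := mem_conj.1 hb
    have t2 : ∃ r ∈ R, r * b * r⁻¹ = g⁻¹ * b * g := ⟨g⁻¹, inv_mem hgR, by group⟩
    have t3 := s3 _ hb' (fun e' => hb1 (by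
      have : b = g * (g⁻¹ * b * g) * g⁻¹ := by group
      rw [this, e']; group))
    exact tr (sy t1) (tr t2 t3)
  exact tr (s4 v hv hv1) (sy (s4 w hw hw1))

/-- `trR` in 45's form -/
theorem trR' (hF : ∀ i, Full S V l i) (i : Fin 2) {R : Subgroup G} (hR : IsMinPar (S : Subgroup G) R)
    (hRC : R ≤ CC Z i) (hRm : ¬ R ≤ normalizer (l (i + 1) : Set G)) : ∀ v ∈ V (i + 1), ∃ r ∈ R, r * v * r⁻¹ ∈ Z (i + 1) := by
  intro v hv
  by_cases hv1 : v = 1
  · refine ⟨1, one_mem _, ?_⟩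
    rw [hv1, one_mul, one_mul, inv_one]
    exact one_mem _
  obtain ⟨z, hz, hz1⟩ := D.exists_ne (i + 1)
  obtain ⟨r, hr, e⟩ := D.trR (hF (i + 1)) hR.le (D.par_V hR hRC hRm (i + 1)) hRm hv hv1 (D.ZV _ hz) hz1
  exact ⟨r, hr, e ▸ hz⟩

/-- **410's frame** -/
theorem frK : FrK (S : Subgroup G) V Z where
  char2 := D.char2
  sqV := D.sqV
  ZV := D.ZV
  ne := D.ne
  zT := D.zT
  syl := D.frM.syl
  nT := D.frM.nT
  nV := D.nV
  VQ := D.VQ
  VC := D.VC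
  VN := D.VN
  uni := D.frM.uni
  stiF := fun i w hw hw1 => D.sti hw hw1
  dis := fun i z hz hz' => D.dis' (ne_add_one i) hz (D.ZV _ hz')
  nonloc := D.nonloc

/-- the exact group of EX -/
theorem exists_BX (hML : ML.Final.MLK.{u, u}) {i : Fin 2} (hK : IsKGroup (CC Z i))
    (hF : ¬ Fail (S : Subgroup G) V Z i) : ∃ B : Subgroup G, (∀ b ∈ B, b ^ 2 = 1) ∧ B ≤ o2 (CC Z i ⊓ CC Z (i + 1)) ∧
      B ≤ o2 (TwoZ.HH (S : Subgroup G) V i) ∧
      (centralizer (B : Set G)).relIndex (TwoZ.NN Z i) ≤ (centralizer (TwoZ.NN Z i : Set G)).relIndex B ∧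
      ¬ B ≤ centralizer (TwoZ.NN Z i : Set G) := by
  unfold Fail at hF
  push Not at hF
  obtain ⟨A, hA, hAQ, hm⟩ := hF
  obtain ⟨h1, h2, -⟩ := D.frK.ex_U hML hK hA
  refine ⟨A ⊓ centralizer (TwoZ.UU V Z i : Set G), fun b hb => hA.sq b hb.1, ?_, h1, h2.ge, hm⟩
  rw [D.CC_inf_eq]
  exact inf_le_left.trans hA.le

/-! ### (G1), (G3), from the tori -/

section tor

variable (torZ : ∀ i, ∀ x ∈ l i, x ≠ 1 → ∀ y ∈ l i, y ≠ 1 → ∃ h : G, h ∈ centralizer (V (i + 1) : Set G) ∧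
    MulAut.conj h • l i = l i ∧ MulAut.conj h • V i = V i ∧ h * x * h⁻¹ = y)
  (torU : ∀ i, ∀ x ∈ V i, x ∉ l i → ∀ y ∈ V i, y ∉ l i → ∃ h : G, h ∈ centralizer (V (i + 1) : Set G) ∧
    MulAut.conj h • l i = l i ∧ MulAut.conj h • V i = V i ∧ y⁻¹ * (h * x * h⁻¹) ∈ l i)
  (hML : ML.Final.MLK.{u, u}) (hE : ML.Ex.Two.Ext.{u, u}) (hN : StarM.NoInpM.{u, u}) (hK : ∀ i, IsKGroup (CC Z i))
include torZ torU hML hN hK

theorem disT (i : Fin 2) : V i ⊓ (TwoZ.NN Z i ⊔ l i) ≤ l i := by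
  obtain ⟨-, h2, A, hA, hm⟩ := D.ex hML hN hK i
  obtain ⟨a, ha, ham⟩ := SetLike.not_le_iff_exists.1 hm
  refine D.dis_of (fun x hx hx1 y hy hy1 => ?_) (torU i) h2 ⟨a, hA.le.trans D.O_le_S ha, D.mx_le_cl hA i ha, ham⟩
  obtain ⟨h, h3, h4, -, h5⟩ := torZ i x hx hx1 y hy hy1
  exact ⟨h, h3, h4, h5⟩

include hE

/-- **(G1) over the lines** -/
theorem g1T : PT.ThmC2 l (PT.XW l V) :=
  D.thmC2 hML hE hK (D.disT torZ torU hML hN hK) (fun i R hR hRC hRm => D.trR' (D.full hML hN hK) i hR hRC hRm)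
    fun i => D.exists_BX hML (hK i) (D.ex hML hN hK i).1

theorem gOneM (i : Fin 2) : GOneM (S : Subgroup G) V Z i := by
  intro A hA h
  obtain ⟨B, h1, h2, h3, h4, h5⟩ := D.exists_BX hML (hK i) (D.ex hML hN hK i).1
  refine D.g1 hML hE (hK i) (D.disT torZ torU hML hN hK i)
    (fun R hR hRC hRm => D.trR' (D.full hML hN hK) i hR hRC hRm) h1 h2 h3 h4 h5
    (D.mx_le_cl hA i) ((o2_isPGroup _).to_le hA.le) fun a ha x hx => mem_sup_left (h a ha x ?_)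
  have h6 := D.XW_le i hx
  rwa [sup_comm] at h6

/-- **(G3)** -/
theorem g3T (i : Fin 2) : ∃ A : Subgroup G,
    Mx (o2 (centralizer (zc (S : Subgroup G) : Set G))) A ∧ A ≤ TwoZ.QQ Z i ∧ ¬ A ≤ centralizer (V i : Set G) :=
  D.frK.g3M hML hK (D.gOneM torZ torU hML hE hN hK) i

end tor

end LFr

end Cfsg.Agent.Omega.KL.TwoZ.Line
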