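import Cfsg.Agent.Omega.KL.TwoZ.NF
import Cfsg.Agent.Omega.KL.TwoZ.GThree
import Cfsg.Agent.Omega.OM.PT.Exact
import Cfsg.Agent.Omega.OM.PT.Pc

/-!
# TEXT W2 over `NF`: (NO), (G1), `X_i`, `O₂(H_i / C(N_i)) = 1` in the form of `OM/PT` (401's split)

`hnn : ∀ i, PT.NN Z (Z i) = NN Z i`, `hxw : ∀ i, PT.XW Z V (Z i) = W_i N_i`, `ho : ∀ i, O₂(N(Z i)) = O₂(C(Z i))` are the
outputs of `NFNN`, `NFBurn`.

* `NF.nop_of` : `NoP Z`; `NF.g1_of` : `ThmC2 Z (XW Z V)` from (G1);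
* `NF.xab_of`, `NF.xle_of` : `X_i` elementary abelian, `≤ Q_i`;
* `NF.core_of` : `CoreP Z i`.
-/

set_option autoImplicit false
set_option linter.unusedSectionVars false

namespace Cfsg.Agent.Omega.KL.TwoZ

open Subgroup Cfsg Cfsg.Agent.Omega.MinPar
open Cfsg.Agent.ZN (o2 zc)
open Cfsg.Agent.Omega.OM.KTwo (ne_add_one eq_add_one add_one_add_one le_normalizer_V le_V exists_mul_of_mem_sup)
open Cfsg.Agent.Omega.NoFF.Basic (conj_conj mem_conj conj_le_iff comm_symm comm_mono Z_le_V V_le)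
open Cfsg.Agent.Omega.NOThreeL.Pair (conj_eq_of_mem)
open Cfsg.Agent.ZN.ChoiceSit (Syl exists_syl syl_conj syl_not_dvd)
open Cfsg.Agent.MinSimple.VModule (le_o2 o2_isPGroup o2_le le_normalizer_o2)
open Cfsg.Agent.Omega.TC.LemZ (norm_cent le_norm_of)
open Cfsg.Agent.Omega.NO3S.EThree.ExactA (eab_iff)
open Cfsg.Agent.Omega.OM.PG (conj_inv_conj inv_conj_conj QQ_conj)
open scoped Pointwise

universe u

variable {G : Type u} [Group G]

/-- `K ⊴ H`, `T` Sylow in `H` : `T ∩ K` is Sylow in `K` -/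
theorem syl_inf_norm [Finite G] {T H K : Subgroup G} (hT : Syl T H) (hKH : K ≤ H)
    (hn : H ≤ normalizer (K : Set G)) : Syl (T ⊓ K) K := by
  refine ⟨inf_le_right, hT.2.1.to_le inf_le_left, fun Q hQ hQ2 hle => ?_⟩
  obtain ⟨R, hR, hQR⟩ := exists_syl hQ2 (hQ.trans hKH)
  obtain ⟨h, hh, e⟩ := syl_conj hT hR
  have h1 : Q ≤ ZN.ChoiceBase.cj h (T ⊓ K) := by
    rw [ZN.ChoiceBase.cj_inf, e]
    refine le_inf hQR ?_
    have h2 : ZN.ChoiceBase.cj h K = K := ZN.ChoiceBase.mem_normalizer_iff_cj.1 (hn hh)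
    rw [h2]
    exact hQ
  have h2 := Subgroup.card_le_of_le h1
  rw [ZN.ChoiceBase.card_cj] at h2
  exact (Subgroup.eq_of_le_of_card_ge hle h2).symm

/-- `J ⊴ H`, `y² ∈ C` for `y ∈ J`, `J` normalises `C`, `T` Sylow in `H` : `J = (T ∩ J)(J ∩ C)` -/
theorem le_sup_of_sq [Finite G] {T H J C : Subgroup G} (hT : Syl T H) (hJH : J ≤ H)
    (hn : H ≤ normalizer (J : Set G)) (hC : J ≤ normalizer (C : Set G)) (hsq : ∀ y ∈ J, y * y ∈ C) :
    J ≤ (T ⊓ J) ⊔ (J ⊓ C) := by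
  have h1 := syl_not_dvd (syl_inf_norm hT hJH hn)
  set M : Subgroup G := (T ⊓ J) ⊔ (J ⊓ C) with hM
  have h2 : M.relIndex J ∣ (T ⊓ J).relIndex J := relIndex_dvd_of_le_left J le_sup_left
  have h3 : M.relIndex J ∣ C.relIndex J := by
    rw [← inf_relIndex_left J C]
    exact relIndex_dvd_of_le_left J le_sup_right
  have hN : (C.subgroupOf J).Normal := normal_subgroupOf_of_le_normalizer hC
  have hp : IsPGroup 2 (J ⧸ C.subgroupOf J) := by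
    intro x
    refine ⟨1, ?_⟩
    induction x using QuotientGroup.induction_on with
    | H y =>
      rw [pow_one, pow_two, ← QuotientGroup.mk_mul, QuotientGroup.eq_one_iff, mem_subgroupOf]
      exact hsq y y.2
  have hf : Fact (Nat.Prime 2) := ⟨Nat.prime_two⟩
  obtain ⟨n, hn'⟩ := IsPGroup.iff_card.1 hp
  have h4 : C.relIndex J = 2 ^ n := hn'
  rw [h4] at h3
  obtain ⟨k, -, hk⟩ := (Nat.dvd_prime_pow Nat.prime_two).1 h3
  rcases Nat.eq_zero_or_pos k with rfl | hk0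
  · rw [pow_zero] at hk
    exact relIndex_eq_one.1 hk
  · exact absurd ((dvd_pow_self 2 hk0.ne').trans (hk ▸ h2)) h1

namespace NF

variable [Finite G] {T : Subgroup G} {V Z : Fin 2 → Subgroup G} (D : NF T V Z)

include D

/-- **(NO)** -/
theorem nop_of (hML : ML.Final.MLK.{u, u}) (hK : ∀ i, IsKGroup (CC Z i)) (hnn : ∀ i, OM.PT.NN Z (Z i) = NN Z i)
    (ho : ∀ i, o2 (normalizer (Z i : Set G)) = QQ Z i) : OM.PT.NoP Z := by
  rintro _ _ ⟨i, k, rfl, rfl⟩ B hB hBQ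
  rw [QQ_conj] at hBQ
  have h1 : MulAut.conj k⁻¹ • B ≤ QQ Z i := by
    have h2 := conj_le_iff (g := k⁻¹) |>.2 hBQ
    rw [inv_conj_conj] at h2
    exact h2.trans (ho i).le
  have h3 := D.toFr.no_N hML (i := i + 1) (A := MulAut.conj k⁻¹ • B) (hK (i + 1)) (h1.trans (D.Q_le_O i))
    (sq_conj (eab_iff.1 hB).2)
  have h4 : OM.PG.Peel.Nob (OM.PT.NN Z (Z (i + 1))) (MulAut.conj k⁻¹ • B) := by
    rw [hnn]
    exact h3
  have h5 := OM.PG.PeelQ.nob_conj h4 k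
  rwa [conj_inv_conj, ← OM.PT.NN_conj] at h5

/-- (G1) -/
theorem g1_of (hnn : ∀ i, OM.PT.NN Z (Z i) = NN Z i) (hxw : ∀ i, OM.PT.XW Z V (Z i) = WW V Z i ⊔ NN Z i)
    (hG : ∀ i, GOne V Z i) : OM.PT.ThmC2 Z (OM.PT.XW Z V) := by
  rintro _ ⟨i, k, rfl⟩ B hB2 hBa hx
  have h1 : MulAut.conj k⁻¹ • B ≤ CC Z i := by
    have h2 := conj_le_iff (g := k⁻¹) |>.2 hBa
    rwa [← NoFF.ThmJFam.conj_cent, inv_conj_conj] at h2
  have h2 : IsPGroup 2 (MulAut.conj k⁻¹ • B : Subgroup G) :=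
    IsPGroup.of_equiv hB2 (Subgroup.equivSMul (MulAut.conj k⁻¹) B)
  have h3 := hG i _ h1 h2 (by
    intro a ha x hxX
    rw [mem_conj, inv_inv] at ha
    have e1 : k * x * k⁻¹ ∈ OM.PT.XW Z V (MulAut.conj k • Z i) := by
      rw [OM.PT.XW_conj, hxw, mem_conj]
      have e : k⁻¹ * (k * x * k⁻¹) * k = x := by group
      rwa [e]
    have h4 := hx _ e1 _ ha
    rw [OM.PT.NN_conj, hnn, mem_conj] at h4
    have h5 := inv_mem h4
    refine mem_sup_left ?_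
    have e : (k⁻¹ * (k * x * k⁻¹ * (k * a * k⁻¹) * (k * x * k⁻¹)⁻¹ * (k * a * k⁻¹)⁻¹) * k)⁻¹ =
        a * x * a⁻¹ * x⁻¹ := by group
    rwa [e] at h5)
  have h4 := conj_le_iff (g := k) |>.2 h3
  rwa [conj_inv_conj, NoFF.ThmJFam.conj_cent, ← hnn, ← OM.PT.NN_conj] at h4

theorem xab_of (hxw : ∀ i, OM.PT.XW Z V (Z i) = WW V Z i ⊔ NN Z i) (i : Fin 2) :
    IsElementaryAbelian 2 (OM.PT.XW Z V (Z i)) := by
  obtain ⟨-, h2, -, -⟩ := D.toFr.X_facts i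
  rw [hxw, eab_iff]
  exact ⟨TwoS.comm_of_sq h2, h2⟩

theorem xle_of (hxw : ∀ i, OM.PT.XW Z V (Z i) = WW V Z i ⊔ NN Z i)
    (ho : ∀ i, o2 (normalizer (Z i : Set G)) = QQ Z i) (i : Fin 2) : OM.PT.XW Z V (Z i) ≤ OM.PG.QQ (Z i) := by
  rw [hxw]
  exact (D.toFr.X_facts i).1.trans (ho i).ge

/-- `O₂(H_i / C(N_i)) = 1`, for squares -/
theorem core_of (hnn : ∀ i, OM.PT.NN Z (Z i) = NN Z i) (i : Fin 2) : OM.PT.Pc.CoreP Z i := by
  intro J hJ hn hsq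
  rw [hnn] at hsq ⊢
  have hC : J ≤ normalizer ((centralizer (NN Z i : Set G) : Subgroup G) : Set G) := by
    refine hJ.trans (norm_cent ?_)
    rw [← hnn]
    exact OM.PT.PP.HH_le_NN (Z i)
  have hT : Syl T (OM.PG.HH (Z i)) := D.sylH ((D.T_le_C i).trans (centralizer_le_normalizer _))
  have h1 := le_sup_of_sq hT hJ hn hC hsq
  have h2 : J ≤ CC Z (i + 1) := by
    refine h1.trans (sup_le (inf_le_left.trans (D.T_le_C (i + 1))) (inf_le_right.trans (centralizer_le (le_V _ _))))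
  exact D.toFr.cent_N_of_le ((centralizer_le_normalizer _).trans hn) h2

end NF

end Cfsg.Agent.Omega.KL.TwoZ
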