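import Cfsg.Agent.Omega.KL.TwoZ.LineM
import Cfsg.Agent.Omega.KL.TwoZ.LineF2
import Cfsg.Agent.Omega.KL.TwoZ.LineK3
import Cfsg.Agent.Omega.KL.TwoZ.NFNo
import Cfsg.Agent.Omega.KL.TwoM.Inp

/-!
# LEMMA ZJ over the lines (helper371 #24968, helper271 #26119): `Ω₁Z(J(O)) = l 0 l 1`

`O = O₂(C_G(Ω₁Z(S)))`.

* `Lam S = Ω₁Z(J(O))`, `EJ S Z i = Ω₁Z(J(O₂(C_G(Z i))))`, normalised by `C_G(Z i)`;
* `LFr.card_EJ`, `LFr.exact_of` : `F ≤ A ∈ AA(O)`, `|C_E(F) : C_E(A)| = |A : F|` ⟹ `F` is exact on `N_i`;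
* `LL S V i = C(V i) ∩ N(V (i+1)) ∩ N(C_S(V 0 V 1))`; `LFr.exists_mv`, `LFr.exists_A`.
-/

set_option autoImplicit false
set_option linter.unusedSectionVars false
set_option linter.unusedVariables false

namespace Cfsg.Agent.Omega.KL.TwoZ.Line

open Subgroup Cfsg Cfsg.Agent.Omega.MinPar
open Cfsg.Agent.ZN (o2 zc)
open Cfsg.Agent.Omega.OM.KTwo (ne_add_one eq_add_one add_one_add_one le_normalizer_V le_V exists_mul_of_mem_sup)
open Cfsg.Agent.Omega.NoFF.Basic (conj_conj mem_conj conj_le_iff comm_symm comm_mono)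
open Cfsg.Agent.Omega.NoFF.ThmJFam (card_sup_inf card_conj)
open Cfsg.Agent.Omega.NOThreeL.Pair (conj_eq_of_mem)
open Cfsg.Agent.ZN.ChoiceSit (Syl syl_not_dvd o2_le_syl syl_conj)
open Cfsg.Agent.MinSimple.VModule (mem_zc zc_le o2_isPGroup o2_le le_o2 le_normalizer_o2 le_centralizer_zc)
open Cfsg.Agent.Omega.TC.LemZ (card_eq le_norm_of norm_cent norm_inf)
open Cfsg.Agent.Omega.KL.TwoS (Mx comm_of_sq sq_sup relIndex_le_of_sup relIndex_anti relIndex_pos)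
open Cfsg.Agent.Omega.KL.TwoZ (CC syl_inf_norm le_sup_of_sq)
open Cfsg.Agent.Omega.OM
open scoped Pointwise

universe u

variable {G : Type u} [Group G]

/-- `O₂(C_G(Ω₁Z(S)))` -/
abbrev OO [Finite G] (S : Sylow 2 G) : Subgroup G := o2 (centralizer (zc (S : Subgroup G) : Set G))

/-- `Ω₁Z(J(O))` -/
def Lam [Finite G] (S : Sylow 2 G) : Subgroup G := sInf {A | Mx (OO S) A}

/-- `Ω₁Z(J(Q_i))` -/
def EJ [Finite G] (S : Sylow 2 G) (Z : Fin 2 → Subgroup G) (i : Fin 2) : Subgroup G :=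
  sInf {A | Mx (OO S) A ∧ A ≤ TwoZ.QQ Z i}

/-- `C_S(V 0 V 1)` -/
def QV [Finite G] (S : Sylow 2 G) (V : Fin 2 → Subgroup G) : Subgroup G :=
  (S : Subgroup G) ⊓ (centralizer (V 0 : Set G) ⊓ centralizer (V 1 : Set G))

/-- `C(V i) ∩ N(V (i+1)) ∩ N(C_S(V 0 V 1))` -/
def LL [Finite G] (S : Sylow 2 G) (V : Fin 2 → Subgroup G) (i : Fin 2) : Subgroup G :=
  centralizer (V i : Set G) ⊓ normalizer (V (i + 1) : Set G) ⊓ normalizer (QV S V : Set G)

theorem QV_le [Finite G] (S : Sylow 2 G) (V : Fin 2 → Subgroup G) (i : Fin 2) :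
    QV S V ≤ centralizer (V i : Set G) := by
  fin_cases i
  · exact inf_le_right.trans inf_le_left
  · exact inf_le_right.trans inf_le_right

theorem le_QV [Finite G] {S : Sylow 2 G} {V : Fin 2 → Subgroup G} (i : Fin 2) {H : Subgroup G}
    (hS : H ≤ (S : Subgroup G)) (h : H ≤ centralizer (V i : Set G)) (h' : H ≤ centralizer (V (i + 1) : Set G)) :
    H ≤ QV S V := by
  refine le_inf hS ?_
  rcases Fin.exists_fin_two.1 ⟨i, rfl⟩ with e | e
  · subst e; exact le_inf h h'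
  · subst e; exact le_inf h' h

theorem Lam_le [Finite G] {S : Sylow 2 G} {A : Subgroup G} (hA : Mx (OO S) A) : Lam S ≤ A := sInf_le hA

theorem mem_Lam [Finite G] {S : Sylow 2 G} {n : G} (hn : n ∈ OO S) (hn2 : n ^ 2 = 1)
    (h : ∀ A, Mx (OO S) A → ∀ a ∈ A, a * n = n * a) : n ∈ Lam S := by
  refine mem_sInf.2 fun A hA => ?_
  have h2 : ∀ b ∈ zpowers n, b ^ 2 = 1 := by
    intro b hb
    obtain ⟨k, rfl⟩ := mem_zpowers_iff.1 hb
    rw [← zpow_natCast, ← zpow_mul, mul_comm, zpow_mul, zpow_natCast, hn2, one_zpow]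
  exact Mx.le_of_comm hA (zpowers_le.2 hn) h2
    (zpowers_le.2 (mem_centralizer_iff.2 fun a ha => h A hA a ha)) (mem_zpowers n)

/-- `|C_E(F)| |F| ≤ |A| |E ∩ A|` for `F ≤ A ∈ AA(O)`, `E ≤ O` elementary abelian -/
theorem card_E [Finite G] {O A E F : Subgroup G} (hA : Mx O A) (hE : E ≤ O) (hE2 : ∀ x ∈ E, x ^ 2 = 1)
    (hF : F ≤ A) : Nat.card (E ⊓ centralizer (F : Set G) : Subgroup G) * Nat.card F ≤
      Nat.card A * Nat.card (E ⊓ A : Subgroup G) := by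
  have hFE : F ≤ centralizer ((E ⊓ centralizer (F : Set G) : Subgroup G) : Set G) := comm_symm inf_le_right
  have h1 := hA.max (F ⊔ (E ⊓ centralizer (F : Set G))) (sup_le (hF.trans hA.le) (inf_le_left.trans hE))
    (sq_sup (fun x hx => hA.sq x (hF hx)) (fun x hx => hE2 x hx.1) hFE)
  have h2 := card_sup_inf hFE
  have h3 : Nat.card (F ⊓ (E ⊓ centralizer (F : Set G)) : Subgroup G) ≤ Nat.card (E ⊓ A : Subgroup G) :=
    card_le_of_le (le_inf (inf_le_right.trans inf_le_left) (inf_le_left.trans hF))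
  calc Nat.card (E ⊓ centralizer (F : Set G) : Subgroup G) * Nat.card F
      = Nat.card (F ⊔ (E ⊓ centralizer (F : Set G)) : Subgroup G) *
        Nat.card (F ⊓ (E ⊓ centralizer (F : Set G)) : Subgroup G) := by rw [h2, mul_comm]
    _ ≤ _ := Nat.mul_le_mul h1 h3

namespace LFr

variable [Finite G] {S : Sylow 2 G} {V Z l : Fin 2 → Subgroup G} (D : LFr S V Z l)
include D

theorem mx_core (hML : ML.Final.MLK.{u, u}) {i : Fin 2} (hK : IsKGroup (CC Z i)) {A : Subgroup G}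
    (hA : Mx (OO S) A) : Mx (OO S) (A ⊓ centralizer (TwoZ.NN Z i : Set G) ⊔ TwoZ.NN Z i) ∧
      A ⊓ centralizer (TwoZ.NN Z i : Set G) ⊔ TwoZ.NN Z i ≤ TwoZ.QQ Z i := by
  refine ⟨hA.sup (D.TN_le_O i) (D.TN_sq i) (D.mx_eq hML hK hA).le, sup_le ?_ (D.TN_le_Q i)⟩
  exact (inf_le_inf_right _ hA.le).trans (D.frM.O_inf_le i)

theorem exists_EJ (hML : ML.Final.MLK.{u, u}) {i : Fin 2} (hK : IsKGroup (CC Z i)) :
    ∃ A, Mx (OO S) A ∧ A ≤ TwoZ.QQ Z i := by
  obtain ⟨A, hA⟩ := Mx.exists_mx (OO S)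
  exact ⟨_, D.mx_core hML hK hA⟩

theorem EJ_le_Q (hML : ML.Final.MLK.{u, u}) {i : Fin 2} (hK : IsKGroup (CC Z i)) : EJ S Z i ≤ TwoZ.QQ Z i := by
  obtain ⟨A, hA, hAQ⟩ := D.exists_EJ hML hK
  exact (sInf_le (show A ∈ {A | Mx (OO S) A ∧ A ≤ TwoZ.QQ Z i} from ⟨hA, hAQ⟩)).trans hAQ

theorem EJ_le_O (hML : ML.Final.MLK.{u, u}) {i : Fin 2} (hK : IsKGroup (CC Z i)) : EJ S Z i ≤ OO S :=
  (D.EJ_le_Q hML hK).trans (D.qq_le_O i)

theorem EJ_sq (hML : ML.Final.MLK.{u, u}) {i : Fin 2} (hK : IsKGroup (CC Z i)) : ∀ x ∈ EJ S Z i, x ^ 2 = 1 := by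
  obtain ⟨A, hA, hAQ⟩ := D.exists_EJ hML hK
  exact fun x hx => hA.sq x (mem_sInf.1 hx A ⟨hA, hAQ⟩)

theorem N_le_EJ (i : Fin 2) : TwoZ.NN Z i ≤ EJ S Z i := by
  refine le_sInf ?_
  rintro A ⟨hA, hAQ⟩
  exact hA.le_of_comm (D.TN_le_O i) (D.TN_sq i) (comm_symm (hAQ.trans (D.Q_cent_TN i)))

theorem V_le_EJ (i : Fin 2) : V (i + 1) ≤ EJ S Z i := (D.VN i).trans (D.N_le_EJ i)

theorem EJ_norm (i : Fin 2) : CC Z i ≤ normalizer (EJ S Z i : Set G) := by
  refine le_norm_of fun c hc x hx => ?_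
  refine mem_sInf.2 ?_
  rintro A ⟨hA, hAQ⟩
  have h1 : MulAut.conj c⁻¹ • A ≤ TwoZ.QQ Z i := by
    have h2 : MulAut.conj c⁻¹ • TwoZ.QQ Z i = TwoZ.QQ Z i := conj_eq_of_mem (le_normalizer_o2 _ (inv_mem hc))
    rw [← h2]
    exact conj_le_iff.2 hAQ
  have h3 := mem_sInf.1 hx _ ⟨hA.conj (h1.trans (D.qq_le_O i)), h1⟩
  rw [mem_conj, inv_inv] at h3
  exact h3

theorem Lam_le_EJ (i : Fin 2) : Lam S ≤ EJ S Z i := sInf_le_sInf fun A h => h.1

theorem EJ_dec (hML : ML.Final.MLK.{u, u}) {i : Fin 2} (hK : IsKGroup (CC Z i)) {A : Subgroup G}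
    (hA : Mx (OO S) A) {y : G} (hy : y ∈ EJ S Z i) : ∃ w ∈ TwoZ.NN Z i, ∃ c ∈ A, c ∈ EJ S Z i ∧ y = w * c := by
  have h1 := mem_sInf.1 hy _ (D.mx_core hML hK hA)
  obtain ⟨c, hc, w, hw, rfl⟩ := exists_mul_of_mem_sup
    ((comm_symm (inf_le_right : A ⊓ centralizer (TwoZ.NN Z i : Set G) ≤ _)).trans (centralizer_le_normalizer _)) h1
  refine ⟨w, hw, c, hc.1, ?_, (mem_centralizer_iff.1 hc.2 w hw).symm⟩
  have h2 := mul_mem hy (inv_mem (D.N_le_EJ i hw))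
  rwa [mul_inv_cancel_right] at h2

/-- **'=' in (%)** : `F` is exact on `N_i` -/
theorem exact_of (hML : ML.Final.MLK.{u, u}) {i : Fin 2} (hK : IsKGroup (CC Z i)) {A F : Subgroup G}
    (hA : Mx (OO S) A) (hF : F ≤ A) (he : Nat.card A * Nat.card (EJ S Z i ⊓ A : Subgroup G) ≤
      Nat.card (EJ S Z i ⊓ centralizer (F : Set G) : Subgroup G) * Nat.card F) :
    (centralizer (F : Set G)).relIndex (TwoZ.NN Z i) ≤ (centralizer (TwoZ.NN Z i : Set G)).relIndex F := by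
  set E := EJ S Z i with hE
  set K : Subgroup G := E ⊓ centralizer (F : Set G) with hKd
  have hFK : F ≤ centralizer (K : Set G) := comm_symm inf_le_right
  have hKO : K ≤ OO S := inf_le_left.trans (D.EJ_le_O hML hK)
  have hB2 : ∀ x ∈ F ⊔ K, x ^ 2 = 1 :=
    sq_sup (fun x hx => hA.sq x (hF hx)) (fun x hx => D.EJ_sq hML hK x hx.1) hFK
  have h2 := card_sup_inf hFK
  have h3 : Nat.card (F ⊓ K : Subgroup G) ≤ Nat.card (E ⊓ A : Subgroup G) :=
    card_le_of_le (le_inf (inf_le_right.trans inf_le_left) (inf_le_left.trans hF))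
  have hB : Mx (OO S) (F ⊔ K) := by
    refine hA.of_card (sup_le (hF.trans hA.le) hKO) hB2 ?_
    refine Nat.le_of_mul_le_mul_right (c := Nat.card (F ⊓ K : Subgroup G)) ?_ Nat.card_pos
    calc Nat.card A * Nat.card (F ⊓ K : Subgroup G) ≤ Nat.card A * Nat.card (E ⊓ A : Subgroup G) :=
          Nat.mul_le_mul_left _ h3
      _ ≤ Nat.card K * Nat.card F := he
      _ = _ := by rw [h2, mul_comm]
  have h4 := D.mx_eq hML hK hB
  have hKN : K ≤ centralizer (TwoZ.NN Z i : Set G) :=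
    inf_le_left.trans ((D.EJ_le_Q hML hK).trans (D.Q_cent_TN i))
  have h5 : (centralizer (TwoZ.NN Z i : Set G)).relIndex (F ⊔ K : Subgroup G) ≤
      (centralizer (TwoZ.NN Z i : Set G)).relIndex F :=
    relIndex_le_of_sup le_sup_left (comm_of_sq hB2)
      (sup_le le_sup_left (le_trans (le_inf le_sup_right hKN) le_sup_right))
  have h6 : (centralizer (F : Set G)).relIndex (TwoZ.NN Z i) ≤
      (centralizer ((F ⊔ K : Subgroup G) : Set G)).relIndex (TwoZ.NN Z i) :=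
    relIndex_anti (centralizer_le (SetLike.coe_subset_coe.2 le_sup_left))
  exact h6.trans (h4.ge.trans h5)

/-! ### The group `LL` -/

theorem S_norm_QV : (S : Subgroup G) ≤ normalizer (QV S V : Set G) :=
  norm_inf le_normalizer (norm_inf (norm_cent (D.nV 0)) (norm_cent (D.nV 1)))

theorem S_norm_LL (i : Fin 2) : (S : Subgroup G) ≤ normalizer (LL S V i : Set G) := by
  have h : ∀ H : Subgroup G, (S : Subgroup G) ≤ normalizer (H : Set G) →
      (S : Subgroup G) ≤ normalizer ((normalizer (H : Set G) : Subgroup G) : Set G) := fun H hH =>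
    hH.trans le_normalizer
  exact norm_inf (norm_inf (norm_cent (D.nV i)) (h _ (D.nV _))) (h _ D.S_norm_QV)

omit D in
theorem LL_C (i : Fin 2) : LL S V i ≤ centralizer (V i : Set G) := inf_le_left.trans inf_le_left

omit D in
theorem LL_V (i : Fin 2) : LL S V i ≤ normalizer (V (i + 1) : Set G) := inf_le_left.trans inf_le_right

omit D in
theorem LL_Q (i : Fin 2) : LL S V i ≤ normalizer (QV S V : Set G) := inf_le_right

theorem LL_le_CC (i : Fin 2) : LL S V i ≤ CC Z i := (LL_C i).trans (centralizer_le (D.ZV i))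

/-- `C_S(V 0 V 1)` is a Sylow subgroup of `C(V 0 V 1)` -/
theorem syl_QV : Syl (QV S V) (centralizer (V 0 : Set G) ⊓ centralizer (V 1 : Set G)) := by
  refine syl_inf_norm (H := normalizer (V 0 : Set G) ⊓ normalizer (V 1 : Set G)) (D.syl (le_inf (D.nV 0) (D.nV 1)))
    (inf_le_inf (centralizer_le_normalizer _) (centralizer_le_normalizer _)) ?_
  exact norm_inf (norm_cent inf_le_left) (norm_cent inf_le_right)

theorem cV01 (i : Fin 2) : centralizer (V 0 : Set G) ⊓ centralizer (V 1 : Set G) =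
    centralizer (V i : Set G) ⊓ centralizer (V (i + 1) : Set G) := by
  rcases Fin.exists_fin_two.1 ⟨i, rfl⟩ with e | e
  · subst e; rfl
  · subst e; exact inf_comm _ _

/-- some element of `LL` moves `l (i+1)` -/
theorem exists_mv (i : Fin 2) : ∃ g ∈ LL S V i, g ∉ normalizer (l (i + 1) : Set G) := by
  obtain ⟨v, hv, hvl⟩ := D.exists_notMem (i + 1)
  obtain ⟨h, hc, hV, hZ⟩ := D.trV (i + 1) v hv
  rw [PT.add2] at hc
  set K : Subgroup G := centralizer (V 0 : Set G) ⊓ centralizer (V 1 : Set G) with hK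
  have hKi : K = centralizer (V i : Set G) ⊓ centralizer (V (i + 1) : Set G) := D.cV01 i
  have hhK : h ∈ normalizer (K : Set G) := by
    rw [hKi]
    exact norm_inf (A := zpowers h) (norm_cent (zpowers_le.2 (centralizer_le_normalizer _ hc)))
      (norm_cent (zpowers_le.2 hV)) (mem_zpowers h)
  have hs := D.syl_QV
  have hs2 : Syl (ZN.ChoiceBase.cj h (QV S V)) K := by
    have e : ZN.ChoiceBase.cj h K = K := ZN.ChoiceBase.mem_normalizer_iff_cj.1 hhK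
    refine ⟨?_, ?_, fun R hR hR2 hle => ?_⟩
    · rw [← e]; exact Subgroup.map_mono hs.1
    · exact hs.2.1.map _
    · have e2 : ZN.ChoiceBase.cj h⁻¹ K = K := ZN.ChoiceBase.mem_normalizer_iff_cj.1 (inv_mem hhK)
      have h3 := hs.2.2 (ZN.ChoiceBase.cj h⁻¹ R) ((Subgroup.map_mono hR).trans e2.le) (hR2.map _) (by
        have h4 := Subgroup.map_mono (f := (MulAut.conj h⁻¹).toMonoidHom) hle
        refine le_trans ?_ h4
        intro x hx
        refine ⟨h * x * h⁻¹, ⟨x, hx, rfl⟩, ?_⟩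
        change h⁻¹ * (h * x * h⁻¹) * h⁻¹⁻¹ = x
        group)
      rw [← h3]
      ext x
      constructor
      · intro hx
        exact ⟨h⁻¹ * x * h, ⟨x, hx, by change h⁻¹ * x * h⁻¹⁻¹ = _; group⟩, by
          change h * (h⁻¹ * x * h) * h⁻¹ = x; group⟩
      · rintro ⟨_, ⟨y, hy, rfl⟩, rfl⟩
        change h * (h⁻¹ * y * h⁻¹⁻¹) * h⁻¹ ∈ R
        have e3 : h * (h⁻¹ * y * h⁻¹⁻¹) * h⁻¹ = y := by group
        rwa [e3]
  obtain ⟨x, hx, e⟩ := syl_conj hs2 hs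
  have hxi : x ∈ centralizer (V i : Set G) ⊓ centralizer (V (i + 1) : Set G) := hKi ▸ hx
  refine ⟨x * h, ⟨⟨mul_mem hxi.1 hc, mul_mem (centralizer_le_normalizer _ hxi.2) hV⟩, ?_⟩, fun hn => ?_⟩
  · refine ZN.ChoiceBase.mem_normalizer_iff_cj.2 ?_
    refine Eq.trans ?_ e
    ext y
    rw [ZN.ChoiceBase.mem_cj, ZN.ChoiceBase.mem_cj, ZN.ChoiceBase.mem_cj]
    have e5 : (x * h)⁻¹ * y * (x * h) = h⁻¹ * (x⁻¹ * y * x) * h := by group
    rw [e5]
  · apply hvl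
    have h5 : (x * h) * v * (x * h)⁻¹ ∈ l (i + 1) := by
      have h6 := mem_centralizer_iff.1 hxi.2 _ (D.ZV _ hZ)
      have e4 : (x * h) * v * (x * h)⁻¹ = x * (h * v * h⁻¹) * x⁻¹ := by group
      rw [e4, ← h6, mul_inv_cancel_right]
      exact D.Zl _ hZ
    exact (mem_normalizer_iff.1 hn v).2 h5

/-! ### The groups `A` -/

theorem V_le_O (i : Fin 2) : V i ≤ OO S := (D.VQ i).trans (D.qq_le_O i)

/-- some `A ∈ AA(O)` moves `V (i+1)` and centralises `V i` -/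
theorem exists_A (hex : ∀ i, ∃ A, Mx (OO S) A ∧ ¬ A ≤ centralizer (V i : Set G)) (i : Fin 2) :
    ∃ A, Mx (OO S) A ∧ A ≤ centralizer (V i : Set G) ∧ ¬ A ≤ centralizer (V (i + 1) : Set G) := by
  obtain ⟨A, hA, hm⟩ := hex (i + 1)
  by_cases hV : A ≤ centralizer (V i : Set G)
  · exact ⟨A, hA, hV, hm⟩
  obtain ⟨-, c0⟩ := D.exists_gen hA (D.mx_le_cl hA i) hV
  have hAS : A ≤ (S : Subgroup G) := hA.le.trans D.O_le_S
  have f0 : V i ⊓ centralizer (A : Set G) = l i := by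
    apply le_antisymm
    · rintro x ⟨hx, hxA⟩
      by_contra hxl
      exact hV fun a ha => D.reg i a (hAS ha) (D.mx_le_cl hA i ha) x hx hxl (mem_centralizer_iff.1 hxA a ha)
    · exact le_inf (D.lV i) (comm_symm (D.mx_le_cl hA i))
  have r0 : (centralizer (V i : Set G)).relIndex A = Nat.card (l i) := by
    have c1 := card_eq A (centralizer (V i : Set G))
    rw [c0, mul_comm] at c1
    exact (Nat.eq_of_mul_eq_mul_left Nat.card_pos c1).symm
  have r1 : (centralizer (A : Set G)).relIndex (V i) = Nat.card (l i) := by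
    have c1 := card_eq (V i) (centralizer (A : Set G))
    rw [f0, D.cardV i] at c1
    exact (Nat.eq_of_mul_eq_mul_left Nat.card_pos c1).symm
  have h1 : Mx (OO S) (A ⊓ centralizer (V i : Set G) ⊔ V i) :=
    hA.sup (D.V_le_O i) (D.sqV i) (by rw [r0, r1])
  refine ⟨_, h1, sup_le inf_le_right (comm_of_sq (D.sqV i)), fun hc => ?_⟩
  have h2 : V (i + 1) ≤ A ⊓ centralizer (V i : Set G) ⊔ V i :=
    h1.le_of_comm (D.V_le_O _) (D.sqV _) (comm_symm hc)
  apply hm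
  intro a' ha'
  obtain ⟨v, hv, hvl⟩ := D.exists_notMem (i + 1)
  obtain ⟨a, ha, u, hu, e⟩ := exists_mul_of_mem_sup
    ((comm_symm (inf_le_right : A ⊓ centralizer (V i : Set G) ≤ _)).trans (centralizer_le_normalizer _)) (h2 hv)
  refine D.reg (i + 1) a' (hAS ha') (D.mx_le_cl hA (i + 1) ha') v hv hvl ?_
  have k1 : a' * v * a'⁻¹ * v⁻¹ ∈ V (i + 1) :=
    mul_mem ((mem_normalizer_iff.1 (D.nV _ (hAS ha')) v).1 hv) (inv_mem hv)
  have k2 : a' * v * a'⁻¹ * v⁻¹ ∈ V i := by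
    have h3 := mem_centralizer_iff.1 (hA.comm ha') a ha.1
    have e1 : a' * v * a'⁻¹ * v⁻¹ = a * (a' * u * a'⁻¹ * u⁻¹) * a⁻¹ := by
      rw [e]
      calc a' * (a * u) * a'⁻¹ * (a * u)⁻¹ = (a' * a) * u * a'⁻¹ * u⁻¹ * a⁻¹ := by group
        _ = (a * a') * u * a'⁻¹ * u⁻¹ * a⁻¹ := by rw [h3]
        _ = _ := by group
    have h4 : a' * u * a'⁻¹ * u⁻¹ ∈ V i :=
      mul_mem ((mem_normalizer_iff.1 (D.nV _ (hAS ha')) u).1 hu) (inv_mem hu)
    rw [e1, ← mem_centralizer_iff.1 ha.2 _ h4, mul_inv_cancel_right]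
    exact h4
  have k3 := D.dis' (ne_add_one i) k2 k1
  exact mul_inv_eq_iff_eq_mul.1 (mul_inv_eq_one.1 k3)

theorem rt {j : Fin 2} {A : Subgroup G} (hA : Mx (OO S) A) {v a : G} (hv : v ∈ V j) (ha : a ∈ A) :
    a * v * a⁻¹ * v⁻¹ ∈ l j := by
  have h1 := inv_mem (D.root j v hv a (hA.le.trans D.O_le_S ha) (D.mx_le_cl hA j ha))
  have e : (v * a * v⁻¹ * a⁻¹)⁻¹ = a * v * a⁻¹ * v⁻¹ := by group
  rwa [e] at h1

/-- `A` induces a full root group -/
theorem onto {j : Fin 2} {A : Subgroup G} (hA : Mx (OO S) A) (hm : ¬ A ≤ centralizer (V j : Set G)) {v : G}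
    (hv : v ∈ V j) (hvl : v ∉ l j) {x : G} (hx : x ∈ l j) : ∃ a ∈ A, a * v * a⁻¹ * v⁻¹ = x := by
  have hAS : A ≤ (S : Subgroup G) := hA.le.trans D.O_le_S
  have hAl := D.mx_le_cl hA j
  have hr : ∀ a ∈ A, a * v * a⁻¹ * v⁻¹ ∈ l j := fun a ha => D.rt hA hv ha
  let f : A →* l j :=
    { toFun := fun a => ⟨(a : G) * v * (a : G)⁻¹ * v⁻¹, hr a a.2⟩
      map_one' := Subtype.ext (by simp)
      map_mul' := fun a b => Subtype.ext (by
        show (a * b : G) * v * (a * b : G)⁻¹ * v⁻¹ = (a * v * (a : G)⁻¹ * v⁻¹) * (b * v * (b : G)⁻¹ * v⁻¹)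
        have h1 := mem_centralizer_iff.1 (hAl a.2) _ (hr b b.2)
        calc (a * b : G) * v * (a * b : G)⁻¹ * v⁻¹ = (a * (b * v * (b : G)⁻¹ * v⁻¹)) * v * (a : G)⁻¹ * v⁻¹ := by group
          _ = ((b * v * (b : G)⁻¹ * v⁻¹) * a) * v * (a : G)⁻¹ * v⁻¹ := by rw [h1]
          _ = (b * v * (b : G)⁻¹ * v⁻¹) * (a * v * (a : G)⁻¹ * v⁻¹) := by group
          _ = _ := D.V_comm j (D.lV j (hr b b.2)) (D.lV j (hr a a.2))) }
  obtain ⟨-, c0⟩ := D.exists_gen hA hAl hm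
  have h1 : Nat.card f.ker ≤ Nat.card (A ⊓ centralizer (V j : Set G) : Subgroup G) := by
    refine Nat.card_le_card_of_injective
      (fun a : f.ker => (⟨(a : A), (a : A).2, ?_⟩ : (A ⊓ centralizer (V j : Set G) : Subgroup G))) ?_
    · have h2 : ((a : A) : G) * v * ((a : A) : G)⁻¹ * v⁻¹ = 1 := congrArg Subtype.val a.2
      exact D.reg j _ (hAS (a : A).2) (hAl (a : A).2) v hv hvl (mul_inv_eq_iff_eq_mul.1 (mul_inv_eq_one.1 h2))
    · intro a b h
      exact Subtype.ext (Subtype.ext (congrArg (fun x : (A ⊓ centralizer (V j : Set G) : Subgroup G) => (x : G)) h))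
  have h2 : Nat.card f.ker * Nat.card f.range = Nat.card A := by
    rw [← Subgroup.index_ker, Subgroup.card_mul_index]
  have h3 : Nat.card (l j) ≤ Nat.card f.range := by
    refine Nat.le_of_mul_le_mul_right (c := Nat.card f.ker) ?_ Nat.card_pos
    calc Nat.card (l j) * Nat.card f.ker ≤ Nat.card (l j) * Nat.card (A ⊓ centralizer (V j : Set G) : Subgroup G) :=
          Nat.mul_le_mul_left _ h1
      _ = Nat.card f.range * Nat.card f.ker := by rw [← c0, ← h2, mul_comm]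
  have h4 : f.range = ⊤ := Subgroup.eq_top_of_le_card _ h3
  obtain ⟨a, ha⟩ : (⟨x, hx⟩ : l j) ∈ f.range := by rw [h4]; exact mem_top _
  exact ⟨a, a.2, congrArg Subtype.val ha⟩

/-- `V j ∩ A ≤ l j` -/
theorem V_inf_A {j : Fin 2} {A : Subgroup G} (hA : Mx (OO S) A) (hm : ¬ A ≤ centralizer (V j : Set G)) {x : G}
    (hx : x ∈ V j) (h : ∀ a ∈ A, a * x = x * a) : x ∈ l j := by
  by_contra hxl
  exact hm fun a ha => D.reg j a (hA.le.trans D.O_le_S ha) (D.mx_le_cl hA j ha) x hx hxl (h a ha)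

/-- `E₀ = V j (E₀ ∩ A)` if `C_A(V j)` centralises `E₀ ≥ V j` -/
theorem dec_of {j : Fin 2} {A E₀ : Subgroup G} (hA : Mx (OO S) A) (hm : ¬ A ≤ centralizer (V j : Set G))
    (hE : E₀ ≤ OO S) (hE2 : ∀ x ∈ E₀, x ^ 2 = 1)
    (hEF : E₀ ≤ centralizer ((A ⊓ centralizer (V j : Set G) : Subgroup G) : Set G)) (hV : V j ≤ E₀) :
    (∀ y ∈ E₀, ∃ v ∈ V j, ∃ c ∈ A, c ∈ E₀ ∧ y = v * c) ∧
      Nat.card E₀ = Nat.card (l j) * Nat.card (E₀ ⊓ A : Subgroup G) := by
  obtain ⟨-, c0⟩ := D.exists_gen hA (D.mx_le_cl hA j) hm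
  set F : Subgroup G := A ⊓ centralizer (V j : Set G) with hF
  have h1 := card_E hA hE hE2 (inf_le_left : F ≤ A)
  rw [inf_eq_left.2 hEF, c0] at h1
  have h2 : Nat.card E₀ ≤ Nat.card (l j) * Nat.card (E₀ ⊓ A : Subgroup G) := by
    refine Nat.le_of_mul_le_mul_right (c := Nat.card F) ?_ Nat.card_pos
    refine h1.trans (le_of_eq ?_)
    ring
  have hEc : E₀ ≤ centralizer (E₀ : Set G) := comm_of_sq hE2
  have h3 := card_sup_inf (A := V j) (B := E₀ ⊓ A) (comm_mono hEc hV inf_le_left)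
  have h4 : Nat.card (V j ⊓ (E₀ ⊓ A) : Subgroup G) ≤ Nat.card (l j) := by
    refine card_le_of_le fun x hx => ?_
    exact D.V_inf_A hA hm hx.1 fun a ha => mem_centralizer_iff.1 (hA.comm hx.2.2) a ha
  have h5 : Nat.card (l j) * Nat.card (E₀ ⊓ A : Subgroup G) ≤ Nat.card (V j ⊔ (E₀ ⊓ A) : Subgroup G) := by
    refine Nat.le_of_mul_le_mul_right (c := Nat.card (l j)) ?_ Nat.card_pos
    calc Nat.card (l j) * Nat.card (E₀ ⊓ A : Subgroup G) * Nat.card (l j)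
        = Nat.card (V j) * Nat.card (E₀ ⊓ A : Subgroup G) := by rw [D.cardV j]; ring
      _ = Nat.card (V j ⊔ (E₀ ⊓ A) : Subgroup G) * Nat.card (V j ⊓ (E₀ ⊓ A) : Subgroup G) := h3.symm
      _ ≤ _ := Nat.mul_le_mul_left _ h4
  have hle : V j ⊔ (E₀ ⊓ A) ≤ E₀ := sup_le hV inf_le_left
  have h6 := Subgroup.eq_of_le_of_card_ge hle (h2.trans h5)
  refine ⟨fun y hy => ?_, le_antisymm h2 (h5.trans (card_le_of_le hle))⟩
  rw [← h6] at hy
  obtain ⟨v, hv, c, hc, rfl⟩ := exists_mul_of_mem_sup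
    ((inf_le_left.trans (hEc.trans (centralizer_le hV))).trans (centralizer_le_normalizer _)) hy
  exact ⟨v, hv, c, hc.2, hc.1, rfl⟩

/-- two lines of `V j` -/
theorem lines {j : Fin 2} {g : G} (hg : g ∈ normalizer (V j : Set G)) (hgl : g ∉ normalizer (l j : Set G)) :
    MulAut.conj g • l j ≤ V j ∧ (∀ x ∈ l j, x ∈ MulAut.conj g • l j → x = 1) ∧
      ∀ v ∈ V j, ∃ a ∈ l j, ∃ b ∈ MulAut.conj g • l j, v = a * b := by
  have h0 : MulAut.conj g • l j ≤ V j := by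
    have h1 : MulAut.conj g • V j = V j := conj_eq_of_mem hg
    rw [← h1]
    exact conj_le_iff.2 (D.lV j)
  have h1 : l j ⊓ MulAut.conj g • l j = ⊥ := by
    refine D.ti _ _ ⟨j, 1, by rw [map_one, one_smul]⟩ ⟨j, g, rfl⟩ fun h => hgl (mem_norm_iff.2 h.symm)
  refine ⟨h0, fun x hx hx' => ?_, fun v hv => ?_⟩
  · have h2 : x ∈ l j ⊓ MulAut.conj g • l j := ⟨hx, hx'⟩
    rwa [h1, mem_bot] at h2
  · have hc : l j ≤ centralizer ((MulAut.conj g • l j : Subgroup G) : Set G) :=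
      comm_mono (comm_of_sq (D.sqV j)) (D.lV j) h0
    have h2 := card_sup_inf hc
    rw [h1, card_bot, mul_one, card_conj, ← D.cardV j] at h2
    have h3 := Subgroup.eq_of_le_of_card_ge (sup_le (D.lV j) h0) h2.ge
    rw [← h3] at hv
    exact exists_mul_of_mem_sup ((comm_symm hc).trans (centralizer_le_normalizer _)) hv

end LFr

end Cfsg.Agent.Omega.KL.TwoZ.Line
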