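import Cfsg.Agent.Omega.KL.TwoZ.LineZJ

/-!
# LEMMA ZJ over the lines (helper371 #24968, helper271 #26119), second part

* `LFr.claim` : `n ∈ Ω₁Z(J(O))`, `[n, S] ≤ l 0 l 1` ⟹ `[n, C_S(V 0 V 1)] ≤ l i`;
* `LFr.proj`; **`LFr.zj`** : `Ω₁Z(J(O)) ≤ l 0 l 1`.
-/

set_option autoImplicit false
set_option linter.unusedSectionVars false
set_option linter.unusedVariables false

namespace Cfsg.Agent.Omega.KL.TwoZ.Line

open Subgroup Cfsg Cfsg.Agent.Omega.MinPar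
open Cfsg.Agent.ZN (o2 zc)
open Cfsg.Agent.Omega.OM.KTwo (ne_add_one eq_add_one add_one_add_one le_normalizer_V le_V exists_mul_of_mem_sup)
open Cfsg.Agent.Omega.NoFF.Basic (conj_conj mem_conj conj_le_iff comm_symm comm_mono)
open Cfsg.Agent.Omega.NoFF.ThmJFam (card_sup_inf card_conj)
open Cfsg.Agent.Omega.NOThreeL.Pair (conj_eq_of_mem)
open Cfsg.Agent.ZN.ChoiceSit (Syl syl_not_dvd o2_le_syl syl_conj)
open Cfsg.Agent.MinSimple.VModule (mem_zc zc_le o2_isPGroup o2_le le_o2 le_normalizer_o2 le_centralizer_zc)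
open Cfsg.Agent.Omega.TC.LemZ (card_eq le_norm_of norm_cent norm_inf)
open Cfsg.Agent.Omega.KL.TwoS (Mx comm_of_sq sq_sup relIndex_le_of_sup relIndex_anti relIndex_pos)
open Cfsg.Agent.Omega.KL.TwoZ (CC syl_inf_norm le_sup_of_sq)
open Cfsg.Agent.Omega.OM
open scoped Pointwise

universe u

variable {G : Type u} [Group G]

namespace LFr

variable [Finite G] {S : Sylow 2 G} {V Z l : Fin 2 → Subgroup G} (D : LFr S V Z l)
include D

theorem ll_eq (i : Fin 2) : l 0 ⊔ l 1 = l i ⊔ l (i + 1) := by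
  rcases Fin.exists_fin_two.1 ⟨i, rfl⟩ with e | e
  · subst e; rfl
  · subst e; exact sup_comm _ _

theorem l_comm (i : Fin 2) : l i ≤ centralizer (l (i + 1) : Set G) :=
  comm_mono (D.comm' i) (D.lV i) (D.lV (i + 1))

theorem ll_dec (i : Fin 2) {x : G} (hx : x ∈ l 0 ⊔ l 1) : ∃ a ∈ l i, ∃ b ∈ l (i + 1), x = a * b := by
  rw [D.ll_eq i] at hx
  exact exists_mul_of_mem_sup ((comm_symm (D.l_comm i)).trans (centralizer_le_normalizer _)) hx

theorem l_le_Lam (i : Fin 2) : l i ≤ Lam S := by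
  refine le_sInf fun A hA => ?_
  exact Mx.le_of_comm hA ((D.lV i).trans (D.V_le_O i)) (fun x hx => D.sqV i x (D.lV i hx))
    (comm_symm (D.mx_le_cl hA i))

/-- a line of `V (i+1)` is moved by the elements of `A` -/
theorem fix_line {j : Fin 2} {A : Subgroup G} (hA : Mx (OO S) A) {g a b : G} (hg : g ∈ normalizer (V j : Set G))
    (hgl : g ∉ normalizer (l j : Set G)) (ha : a ∈ A) (haV : a ∉ centralizer (V j : Set G))
    (hb : b ∈ MulAut.conj g • l j) (h : a * b * a⁻¹ ∈ MulAut.conj g • l j) : b = 1 := by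
  obtain ⟨h0, h1, -⟩ := D.lines hg hgl
  have h2 := h1 _ (D.rt hA (h0 hb) ha) (mul_mem h (inv_mem hb))
  have h3 : a * b = b * a := mul_inv_eq_iff_eq_mul.1 (mul_inv_eq_one.1 h2)
  by_contra hb1
  refine haV (D.reg j a (hA.le.trans D.O_le_S ha) (D.mx_le_cl hA j ha) b (h0 hb) (fun hbl => hb1 (h1 b hbl hb)) h3)

/-- **`[n, C_S(V 0 V 1)] ≤ l i`** -/
theorem claim (hML : ML.Final.MLK.{u, u}) {i : Fin 2} (hK : IsKGroup (CC Z i)) {A : Subgroup G}
    (hA : Mx (OO S) A) (hAV : A ≤ centralizer (V i : Set G)) (hm : ¬ A ≤ centralizer (V (i + 1) : Set G)) {n : G}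
    (hn : n ∈ Lam S) (hc : ∀ s ∈ (S : Subgroup G), s * n * s⁻¹ * n⁻¹ ∈ l 0 ⊔ l 1) :
    ∀ q ∈ QV S V, q * n * q⁻¹ * n⁻¹ ∈ l i := by
  obtain ⟨g, hg, hgl⟩ := D.exists_mv i
  have hAS : A ≤ (S : Subgroup G) := hA.le.trans D.O_le_S
  have hEsq := D.EJ_sq hML hK
  have hEO := D.EJ_le_O hML hK
  have hEc : EJ S Z i ≤ centralizer (EJ S Z i : Set G) := comm_of_sq hEsq
  obtain ⟨hmV, hml, hlm⟩ := D.lines (LL_V i hg) hgl
  set m : Subgroup G := MulAut.conj g • l (i + 1) with hmd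
  set y : G := g * n * g⁻¹ with hy
  have hyE : y ∈ EJ S Z i := (mem_normalizer_iff.1 (D.EJ_norm i (D.LL_le_CC i hg)) n).1 (D.Lam_le_EJ i hn)
  have hVE : V (i + 1) ≤ EJ S Z i := D.V_le_EJ i
  have hlE : l i ≤ EJ S Z i := (D.l_le_Lam i).trans (D.Lam_le_EJ i)
  -- `[x, y] ∈ l i m` for `x ∈ QV`
  have key1 : ∀ x ∈ QV S V, ∃ α ∈ l i, ∃ β ∈ m, x * y * x⁻¹ = α * β * y := by
    intro x hx
    have hx' : g⁻¹ * x * g ∈ QV S V := by
      have h1 := (mem_normalizer_iff.1 (inv_mem (LL_Q i hg)) x).1 hx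
      rwa [inv_inv] at h1
    obtain ⟨α, hα, β, hβ, e⟩ := D.ll_dec i (hc _ hx'.1)
    refine ⟨α, hα, g * β * g⁻¹, conj_mem hβ, ?_⟩
    have h2 : g * α * g⁻¹ = α := by
      have h3 := mem_centralizer_iff.1 (LL_C i hg) α (D.lV i hα)
      rw [← h3, mul_inv_cancel_right]
    calc x * y * x⁻¹ = g * ((g⁻¹ * x * g) * n * (g⁻¹ * x * g)⁻¹ * n⁻¹) * g⁻¹ * y := by rw [hy]; group
      _ = g * (α * β) * g⁻¹ * y := by rw [e]
      _ = (g * α * g⁻¹) * (g * β * g⁻¹) * y := by group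
      _ = _ := by rw [h2]
  -- it is enough to have `[q, y] ∈ l i`
  suffices key : ∀ q ∈ QV S V, q * y * q⁻¹ * y⁻¹ ∈ l i by
    intro q hq
    have h1 := key _ ((mem_normalizer_iff.1 (LL_Q i hg) q).1 hq)
    have h2 := mem_centralizer_iff.1 (LL_C i hg) _ (D.lV i h1)
    have e1 : q * n * q⁻¹ * n⁻¹ = g⁻¹ * ((g * q * g⁻¹) * y * (g * q * g⁻¹)⁻¹ * y⁻¹) * g := by
      rw [hy]; group
    rw [e1, mul_assoc, h2, inv_mul_cancel_left]
    exact h1
  obtain ⟨-, cA⟩ := D.exists_gen hA (D.mx_le_cl hA (i + 1)) hm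
  set F : Subgroup G := A ⊓ centralizer (V (i + 1) : Set G) with hF
  have hFQ : F ≤ QV S V := le_QV i (inf_le_left.trans hAS) (inf_le_left.trans hAV) inf_le_right
  have hAC : A ≤ CC Z i := hAS.trans (D.S_le_C i)
  have hAE : A ≤ normalizer (EJ S Z i : Set G) := hAC.trans (D.EJ_norm i)
  -- `C_E(F) = V_(i+1) C_E(A)`
  obtain ⟨dF, cF⟩ := D.dec_of (E₀ := EJ S Z i ⊓ centralizer (F : Set G)) hA hm (inf_le_left.trans hEO)
    (fun x hx => hEsq x hx.1) inf_le_right (le_inf hVE (comm_symm inf_le_right))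
  have cEA : (EJ S Z i ⊓ centralizer (F : Set G)) ⊓ A = EJ S Z i ⊓ A := by
    apply le_antisymm
    · exact inf_le_inf_right _ inf_le_left
    · exact le_inf (le_inf inf_le_left (inf_le_right.trans (hA.comm.trans (centralizer_le inf_le_left)))) inf_le_right
  rw [cEA] at cF
  obtain ⟨w, hw, c, hcA, hcE, hyw⟩ := D.EJ_dec hML hK hA hyE
  -- `[x, w] = [x, y]` for `x ∈ A`
  have hxw : ∀ x ∈ A, x * w * x⁻¹ * w⁻¹ = x * y * x⁻¹ * y⁻¹ := by
    intro x hx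
    have h1 := mem_centralizer_iff.1 (hA.comm hcA) x hx
    have h2 : x * c * x⁻¹ = c := by rw [h1, mul_inv_cancel_right]
    rw [hyw]
    calc x * w * x⁻¹ * w⁻¹ = (x * w * x⁻¹) * (x * c * x⁻¹) * c⁻¹ * w⁻¹ := by rw [h2]; group
      _ = _ := by group
  have hk3 : ∀ B : Subgroup G, B ≤ A → (centralizer (B : Set G)).relIndex (TwoZ.NN Z i) ≤
      (centralizer (TwoZ.NN Z i : Set G)).relIndex B → (∀ x ∈ B, x * y * x⁻¹ * y⁻¹ ∈ l i) →
      ∀ x ∈ B, x * y * x⁻¹ * y⁻¹ = 1 := by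
    intro B hB he h x hx
    have h1 := D.k3 hML hK (hB.trans hA.le) (fun b hb => hA.sq b (hB hb)) (hB.trans (D.mx_le_cl hA i)) he w hw
      (fun b hb => by rw [hxw b (hB hb)]; exact h b hb) x hx
    rw [← hxw x (hB hx), h1, mul_inv_cancel_right, mul_inv_cancel]
  have hq0 : 0 < Nat.card (l (i + 1)) := Nat.card_pos
  have hd0 : 0 < Nat.card (EJ S Z i ⊓ A : Subgroup G) := Nat.card_pos
  -- the other case is impossible
  have hcase : ∀ x ∈ F, x * y * x⁻¹ * y⁻¹ ∈ l i := by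
    by_contra hcon
    push Not at hcon
    obtain ⟨x₀, hx₀, hx₀l⟩ := hcon
    obtain ⟨α₀, hα₀, β₀, hβ₀, e₀⟩ := key1 x₀ (hFQ hx₀)
    have e₀' : x₀ * y * x₀⁻¹ * y⁻¹ = α₀ * β₀ := by rw [e₀, mul_inv_cancel_right]
    have hβ₀1 : β₀ ≠ 1 := by
      intro h
      apply hx₀l
      rw [e₀', h, mul_one]
      exact hα₀
    have hβ₀l : β₀ ∉ l (i + 1) := fun h => hβ₀1 (hml _ h hβ₀)
    -- the kernel
    let F' : Subgroup G :=
      { carrier := {x | x ∈ F ∧ x * y * x⁻¹ * y⁻¹ ∈ l i}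
        one_mem' := ⟨one_mem _, by simp⟩
        mul_mem' := by
          rintro a b ⟨ha, ha'⟩ ⟨hb, hb'⟩
          refine ⟨mul_mem ha hb, ?_⟩
          have h1 := mem_centralizer_iff.1 (QV_le S V i (hFQ ha)) _ (D.lV i hb')
          have e : (a * b) * y * (a * b)⁻¹ * y⁻¹ = (a * (b * y * b⁻¹ * y⁻¹)) * a⁻¹ * (a * y * a⁻¹ * y⁻¹) := by group
          rw [e, ← h1, mul_inv_cancel_right]
          exact mul_mem hb' ha'
        inv_mem' := by
          rintro a ⟨ha, ha'⟩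
          refine ⟨inv_mem ha, ?_⟩
          have h1 := mem_centralizer_iff.1 (QV_le S V i (hFQ (inv_mem ha))) _ (D.lV i (inv_mem ha'))
          have e : a⁻¹ * y * a⁻¹⁻¹ * y⁻¹ = a⁻¹ * (a * y * a⁻¹ * y⁻¹)⁻¹ * a := by group
          have e2 : a⁻¹ * (a * y * a⁻¹ * y⁻¹)⁻¹ * a = (a * y * a⁻¹ * y⁻¹)⁻¹ := by
            rw [← h1, inv_mul_cancel_right]
          rw [e, e2]
          exact inv_mem ha' }
    have hF'F : F' ≤ F := fun x hx => hx.1
    -- `|F : F'| ≤ q`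
    have cF' : Nat.card F ≤ Nat.card (l (i + 1)) * Nat.card F' := by
      have hβ : ∀ x : F, ∃ β : m, ∃ α ∈ l i, (x : G) * y * (x : G)⁻¹ = α * β * y := by
        intro x
        obtain ⟨α, hα, β, hβ, e⟩ := key1 x (hFQ x.2)
        exact ⟨⟨β, hβ⟩, α, hα, e⟩
      choose b hb using hβ
      have h1 : F'.relIndex F ≤ Nat.card m := by
        let f : F ⧸ F'.subgroupOf F → m := fun q => b q.out
        refine Nat.card_le_card_of_injective f ?_
        intro p q h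
        have h2 : (b p.out : G) = b q.out := congrArg Subtype.val h
        obtain ⟨α, hα, e⟩ := hb p.out
        obtain ⟨α', hα', e'⟩ := hb q.out
        rw [← QuotientGroup.out_eq' p, ← QuotientGroup.out_eq' q]
        refine QuotientGroup.eq.2 (mem_subgroupOf.2 ⟨mul_mem (inv_mem p.out.2) q.out.2, ?_⟩)
        set x : G := (p.out : G) with hx
        set x' : G := (q.out : G) with hx'
        have hxQ : x ∈ QV S V := hFQ p.out.2
        -- `x⁻¹` fixes `α' β` and `α β`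
        have hβV : (b p.out : G) ∈ V (i + 1) := hmV (b p.out).2
        have cx : ∀ z ∈ V i, ∀ z' ∈ V (i + 1), x⁻¹ * (z * z') * x = z * z' := by
          intro z hz z' hz'
          have h3 := mem_centralizer_iff.1 (QV_le S V i hxQ) z hz
          have h4 := mem_centralizer_iff.1 (QV_le S V (i + 1) hxQ) z' hz'
          calc x⁻¹ * (z * z') * x = x⁻¹ * (z * (z' * x)) := by group
            _ = x⁻¹ * (z * (x * z')) := by rw [h4]
            _ = x⁻¹ * ((z * x) * z') := by group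
            _ = x⁻¹ * ((x * z) * z') := by rw [h3]
            _ = _ := by group
        have e3 : x⁻¹ * y * x = (α * (b p.out : G))⁻¹ * y := by
          have h3 : x⁻¹ * (α * (b p.out : G) * y) * x = y := by rw [← e]; group
          have h4 : x⁻¹ * (α * (b p.out : G) * y) * x =
              (x⁻¹ * (α * (b p.out : G)) * x) * (x⁻¹ * y * x) := by group
          rw [h4, cx α (D.lV i hα) _ hβV] at h3
          exact (inv_mul_eq_iff_eq_mul.2 h3.symm).symm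
        have e4 : x⁻¹ * x' * y * (x⁻¹ * x')⁻¹ * y⁻¹ = α' * α⁻¹ := by
          calc x⁻¹ * x' * y * (x⁻¹ * x')⁻¹ * y⁻¹ = x⁻¹ * (x' * y * x'⁻¹) * x * y⁻¹ := by group
            _ = x⁻¹ * (α' * (b p.out : G) * y) * x * y⁻¹ := by rw [e', h2]
            _ = (x⁻¹ * (α' * (b p.out : G)) * x) * (x⁻¹ * y * x) * y⁻¹ := by group
            _ = (α' * (b p.out : G)) * ((α * (b p.out : G))⁻¹ * y) * y⁻¹ := by
              rw [cx α' (D.lV i hα') _ hβV, e3]
            _ = α' * α⁻¹ := by group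
        show x⁻¹ * x' * y * (x⁻¹ * x')⁻¹ * y⁻¹ ∈ l i
        rw [e4]
        exact mul_mem hα' (inv_mem hα)
      have h2 := card_eq F F'
      rw [inf_eq_right.2 hF'F] at h2
      rw [h2, mul_comm]
      rw [hmd, card_conj] at h1
      exact Nat.mul_le_mul_right _ h1
    set K : Subgroup G := EJ S Z i ⊓ centralizer (F' : Set G) with hKd
    -- `[·, x₀]` on `K`
    have hx₀E : x₀ ∈ normalizer (EJ S Z i : Set G) := hAE hx₀.1
    have hψE : ∀ z ∈ EJ S Z i, x₀ * z * x₀⁻¹ * z⁻¹ ∈ EJ S Z i := fun z hz =>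
      mul_mem ((mem_normalizer_iff.1 hx₀E z).1 hz) (inv_mem hz)
    let ψ : K →* G :=
      { toFun := fun z => x₀ * z * x₀⁻¹ * (z : G)⁻¹
        map_one' := by simp
        map_mul' := fun z z' => by
          show x₀ * (z * z' : G) * x₀⁻¹ * (z * z' : G)⁻¹ =
            (x₀ * z * x₀⁻¹ * (z : G)⁻¹) * (x₀ * z' * x₀⁻¹ * (z' : G)⁻¹)
          have h1 := mem_centralizer_iff.1 (hEc (hψE z' z'.2.1)) (z : G)⁻¹ (inv_mem z.2.1)
          calc x₀ * (z * z' : G) * x₀⁻¹ * (z * z' : G)⁻¹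
              = (x₀ * z * x₀⁻¹) * ((x₀ * z' * x₀⁻¹ * (z' : G)⁻¹) * (z : G)⁻¹) := by group
            _ = (x₀ * z * x₀⁻¹) * ((z : G)⁻¹ * (x₀ * z' * x₀⁻¹ * (z' : G)⁻¹)) := by rw [h1]
            _ = _ := by group }
    have cψ : Nat.card ψ.ker * Nat.card ψ.range = Nat.card K := by
      rw [← Subgroup.index_ker, Subgroup.card_mul_index]
    -- the kernel contains `C_E(F)`
    have ck : Nat.card (l (i + 1)) * Nat.card (EJ S Z i ⊓ A : Subgroup G) ≤ Nat.card ψ.ker := by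
      rw [← cF]
      refine Nat.card_le_card_of_injective
        (fun z : (EJ S Z i ⊓ centralizer (F : Set G) : Subgroup G) =>
          (⟨⟨z, z.2.1, centralizer_le (SetLike.coe_subset_coe.2 hF'F) z.2.2⟩, ?_⟩ : ψ.ker)) ?_
      · show x₀ * (z : G) * x₀⁻¹ * (z : G)⁻¹ = 1
        rw [mem_centralizer_iff.1 z.2.2 x₀ hx₀, mul_inv_cancel_right, mul_inv_cancel]
      · intro a b h
        exact Subtype.ext (congrArg (fun x : ψ.ker => ((x : K) : G)) h)
    -- the range contains `l (i+1)`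
    have hr : ∀ x ∈ l (i + 1), x ∈ ψ.range := by
      intro x hx
      obtain ⟨a, ha, hax⟩ := D.onto hA hm (hmV hβ₀) hβ₀l hx
      have hyaE : a * y * a⁻¹ * y⁻¹ ∈ EJ S Z i := mul_mem ((mem_normalizer_iff.1 (hAE ha) y).1 hyE) (inv_mem hyE)
      -- the effect of `b ∈ F`, `[b,y] = α β`
      have cal : ∀ b ∈ F, ∀ α ∈ l i, ∀ β ∈ V (i + 1), b * y * b⁻¹ = α * β * y →
          b * (a * y * a⁻¹ * y⁻¹) * b⁻¹ * (a * y * a⁻¹ * y⁻¹)⁻¹ = a * β * a⁻¹ * β⁻¹ := by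
        intro b hb α hα β hβ e
        have h1 := mem_centralizer_iff.1 (hA.comm hb.1) a ha
        have haα : a * α * a⁻¹ = α := by
          rw [← mem_centralizer_iff.1 (hAV ha) α (D.lV i hα), mul_inv_cancel_right]
        have h2 : b * (a * y * a⁻¹ * y⁻¹) * b⁻¹ = a * (b * y * b⁻¹) * a⁻¹ * (b * y * b⁻¹)⁻¹ := by
          calc b * (a * y * a⁻¹ * y⁻¹) * b⁻¹ = (b * a) * y * (b * a)⁻¹ * (b * y * b⁻¹)⁻¹ := by group
            _ = (a * b) * y * (a * b)⁻¹ * (b * y * b⁻¹)⁻¹ := by rw [h1]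
            _ = _ := by group
        have hαE : α ∈ EJ S Z i := hlE hα
        have hβE : β ∈ EJ S Z i := hVE hβ
        have haβE : a * β * a⁻¹ ∈ EJ S Z i := (mem_normalizer_iff.1 (hAE ha) β).1 hβE
        have c1 : (a * y * a⁻¹ * y⁻¹) * (β⁻¹ * α⁻¹) = (β⁻¹ * α⁻¹) * (a * y * a⁻¹ * y⁻¹) :=
          mem_centralizer_iff.1 (hEc (mul_mem (inv_mem hβE) (inv_mem hαE))) _ hyaE
        have c2 : α * (a * β * a⁻¹ * β⁻¹) = (a * β * a⁻¹ * β⁻¹) * α :=
          mem_centralizer_iff.1 (hEc (mul_mem haβE (inv_mem hβE))) _ hαE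
        rw [h2, e]
        calc a * (α * β * y) * a⁻¹ * (α * β * y)⁻¹ * (a * y * a⁻¹ * y⁻¹)⁻¹
            = (a * α * a⁻¹) * (a * β * a⁻¹) * ((a * y * a⁻¹ * y⁻¹) * (β⁻¹ * α⁻¹)) * (a * y * a⁻¹ * y⁻¹)⁻¹ := by group
          _ = α * (a * β * a⁻¹) * ((β⁻¹ * α⁻¹) * (a * y * a⁻¹ * y⁻¹)) * (a * y * a⁻¹ * y⁻¹)⁻¹ := by rw [haα, c1]
          _ = (α * (a * β * a⁻¹ * β⁻¹)) * α⁻¹ := by group
          _ = _ := by rw [c2, mul_inv_cancel_right]
      have hyaK : a * y * a⁻¹ * y⁻¹ ∈ K := by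
        refine ⟨hyaE, mem_centralizer_iff.2 fun b hb => ?_⟩
        have h1 := cal b hb.1 _ hb.2 1 (one_mem _) (by rw [mul_one]; group)
        rw [mul_one, mul_inv_cancel, inv_one, mul_one] at h1
        exact mul_inv_eq_iff_eq_mul.1 (mul_inv_eq_one.1 h1)
      refine ⟨⟨_, hyaK⟩, ?_⟩
      show x₀ * (a * y * a⁻¹ * y⁻¹) * x₀⁻¹ * (a * y * a⁻¹ * y⁻¹)⁻¹ = x
      rw [cal x₀ hx₀ α₀ hα₀ β₀ (hmV hβ₀) e₀, hax]
    -- counting
    have h1 := card_E hA hEO hEsq (hF'F.trans inf_le_left : F' ≤ A)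
    have h2 : Nat.card K ≤ Nat.card (l (i + 1)) * (Nat.card (l (i + 1)) * Nat.card (EJ S Z i ⊓ A : Subgroup G)) := by
      refine Nat.le_of_mul_le_mul_right (c := Nat.card F') ?_ Nat.card_pos
      calc Nat.card K * Nat.card F' ≤ Nat.card A * Nat.card (EJ S Z i ⊓ A : Subgroup G) := h1
        _ = Nat.card (l (i + 1)) * Nat.card F * Nat.card (EJ S Z i ⊓ A : Subgroup G) := by rw [cA]
        _ ≤ Nat.card (l (i + 1)) * (Nat.card (l (i + 1)) * Nat.card F') *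
            Nat.card (EJ S Z i ⊓ A : Subgroup G) := Nat.mul_le_mul_right _ (Nat.mul_le_mul_left _ cF')
        _ = _ := by ring
    have hlr : l (i + 1) ≤ ψ.range := hr
    have h3 : Nat.card (l (i + 1)) ≤ Nat.card ψ.range := card_le_of_le hlr
    have h4 : Nat.card ψ.range ≤ Nat.card (l (i + 1)) := by
      refine Nat.le_of_mul_le_mul_left (c := Nat.card (l (i + 1)) * Nat.card (EJ S Z i ⊓ A : Subgroup G)) ?_
        (Nat.mul_pos hq0 hd0)
      calc Nat.card (l (i + 1)) * Nat.card (EJ S Z i ⊓ A : Subgroup G) * Nat.card ψ.range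
          ≤ Nat.card ψ.ker * Nat.card ψ.range := Nat.mul_le_mul_right _ ck
        _ = Nat.card K := cψ
        _ ≤ _ := h2.trans (le_of_eq (by ring))
    have h5 : l (i + 1) = ψ.range := Subgroup.eq_of_le_of_card_ge hlr h4
    have h6 : Nat.card (l (i + 1)) * (Nat.card (l (i + 1)) * Nat.card (EJ S Z i ⊓ A : Subgroup G)) ≤ Nat.card K := by
      rw [← cψ, mul_comm (Nat.card ψ.ker)]
      exact Nat.mul_le_mul h3 ck
    have hex := D.exact_of hML hK hA (hF'F.trans inf_le_left : F' ≤ A) (by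
      calc Nat.card A * Nat.card (EJ S Z i ⊓ A : Subgroup G)
          = Nat.card (l (i + 1)) * Nat.card F * Nat.card (EJ S Z i ⊓ A : Subgroup G) := by rw [cA]
        _ ≤ Nat.card (l (i + 1)) * (Nat.card (l (i + 1)) * Nat.card F') *
            Nat.card (EJ S Z i ⊓ A : Subgroup G) := Nat.mul_le_mul_right _ (Nat.mul_le_mul_left _ cF')
        _ = Nat.card (l (i + 1)) * (Nat.card (l (i + 1)) * Nat.card (EJ S Z i ⊓ A : Subgroup G)) *
            Nat.card F' := by ring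
        _ ≤ _ := Nat.mul_le_mul_right _ h6)
    have h7 := hk3 F' (hF'F.trans inf_le_left) hex (fun x hx => hx.2)
    have hyK : y ∈ K := by
      refine ⟨hyE, mem_centralizer_iff.2 fun x hx => ?_⟩
      exact mul_inv_eq_iff_eq_mul.1 (mul_inv_eq_one.1 (h7 x hx))
    have h8 : α₀ * β₀ ∈ l (i + 1) := by
      rw [h5, ← e₀']
      exact ⟨⟨y, hyK⟩, rfl⟩
    have h9 : α₀ ∈ V (i + 1) := by
      have := mul_mem (D.lV _ h8) (inv_mem (hmV hβ₀))
      rwa [mul_inv_cancel_right] at this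
    have h10 : α₀ = 1 := D.dis' (ne_add_one i) (D.lV i hα₀) h9
    rw [h10, one_mul] at h8
    exact hβ₀l h8
  -- `F` centralises `y`
  have hexF := D.exact_of hML hK hA (inf_le_left : F ≤ A) (by
    rw [cF, cA]
    exact le_of_eq (by ring))
  have hFy := hk3 F inf_le_left hexF hcase
  have hyF : y ∈ EJ S Z i ⊓ centralizer (F : Set G) :=
    ⟨hyE, mem_centralizer_iff.2 fun x hx => mul_inv_eq_iff_eq_mul.1 (mul_inv_eq_one.1 (hFy x hx))⟩
  obtain ⟨v, hv, c', hc'A, hc'E, hyv⟩ := dF y hyF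
  obtain ⟨a, ha, haV⟩ := SetLike.not_le_iff_exists.1 hm
  have hya : a * y * a⁻¹ = (a * v * a⁻¹ * v⁻¹) * y := by
    have h1 := mem_centralizer_iff.1 (hA.comm hc'A) a ha
    rw [hyv]
    calc a * (v * c') * a⁻¹ = (a * v) * (c' * a⁻¹) := by group
      _ = (a * v) * (a⁻¹ * (a * c') * a⁻¹) := by group
      _ = (a * v) * (a⁻¹ * (c' * a) * a⁻¹) := by rw [h1]
      _ = _ := by group
  have hav : a * v * a⁻¹ * v⁻¹ ∈ V (i + 1) := D.lV _ (D.rt hA hv ha)
  intro q hq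
  obtain ⟨α, hα, β, hβ, e⟩ := key1 q hq
  have hq' : a⁻¹ * q * a ∈ QV S V := by
    have h1 := (mem_normalizer_iff.1 (inv_mem (D.S_norm_QV (hAS ha))) q).1 hq
    rwa [inv_inv] at h1
  obtain ⟨α', hα', β', hβ', e'⟩ := key1 _ hq'
  -- two expressions for `q (a y a⁻¹) q⁻¹`
  have h1 : q * (a * y * a⁻¹) * q⁻¹ = (a * v * a⁻¹ * v⁻¹) * (α * β) * y := by
    have h2 := mem_centralizer_iff.1 (QV_le S V (i + 1) hq) _ hav
    rw [hya]
    calc q * ((a * v * a⁻¹ * v⁻¹) * y) * q⁻¹ = (q * (a * v * a⁻¹ * v⁻¹)) * q⁻¹ * (q * y * q⁻¹) := by group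
      _ = ((a * v * a⁻¹ * v⁻¹) * q) * q⁻¹ * (α * β * y) := by rw [h2, e]
      _ = _ := by group
  have h2 : q * (a * y * a⁻¹) * q⁻¹ = α' * (a * β' * a⁻¹) * ((a * v * a⁻¹ * v⁻¹) * y) := by
    have haα : a * α' * a⁻¹ = α' := by
      rw [← mem_centralizer_iff.1 (hAV ha) α' (D.lV i hα'), mul_inv_cancel_right]
    calc q * (a * y * a⁻¹) * q⁻¹ = a * ((a⁻¹ * q * a) * y * (a⁻¹ * q * a)⁻¹) * a⁻¹ := by group
      _ = a * (α' * β' * y) * a⁻¹ := by rw [e']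
      _ = (a * α' * a⁻¹) * (a * β' * a⁻¹) * (a * y * a⁻¹) := by group
      _ = _ := by rw [haα, hya]
  have haβ : a * β' * a⁻¹ ∈ V (i + 1) := (mem_normalizer_iff.1 (D.nV _ (hAS ha)) β').1 (hmV hβ')
  have hαE : α ∈ EJ S Z i := hlE hα
  -- `α β = α' (a β' a⁻¹)`
  have h3 : α * β = α' * (a * β' * a⁻¹) := by
    have c1 : (α * β) * (a * v * a⁻¹ * v⁻¹) = (a * v * a⁻¹ * v⁻¹) * (α * β) :=
      mem_centralizer_iff.1 (hEc (hVE hav)) _ (mul_mem hαE (hVE (hmV hβ)))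
    have h4 := h1.symm.trans h2
    rw [← c1] at h4
    have h5 : (α * β) * ((a * v * a⁻¹ * v⁻¹) * y) = α' * (a * β' * a⁻¹) * ((a * v * a⁻¹ * v⁻¹) * y) := by
      rw [← h4]; group
    exact mul_right_cancel h5
  have h4 : α'⁻¹ * α = (a * β' * a⁻¹) * β⁻¹ := by
    calc α'⁻¹ * α = α'⁻¹ * (α * β) * β⁻¹ := by group
      _ = _ := by rw [h3]; group
  have h5 : α'⁻¹ * α = 1 := by
    refine D.dis' (ne_add_one i) (D.lV i (mul_mem (inv_mem hα') hα)) ?_
    rw [h4]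
    exact mul_mem haβ (inv_mem (hmV hβ))
  rw [h5] at h4
  have h6 : a * β' * a⁻¹ = β := (mul_inv_eq_one.1 h4.symm)
  have h7 : β' = 1 := D.fix_line hA (LL_V i hg) hgl ha haV hβ' (by rw [h6]; exact hβ)
  rw [h7, mul_one, mul_inv_cancel] at h6
  rw [e, ← h6, mul_one, mul_inv_cancel_right]
  exact hα

end LFr

end Cfsg.Agent.Omega.KL.TwoZ.Line
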