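import Cfsg.Agent.Omega.KL.TwoZ.LineZJ2
import Cfsg.Agent.Omega.NO3b.Closed.Pow

/-!
# LEMMA ZJ over the lines (helper371 #24968, helper271 #26119), end

* `LFr.proj` : `n ∈ Ω₁Z(J(O))` centralised by `C_S(V 0 V 1)` : `[n v, S] ≤ l i` for some `v ∈ l (i+1)`;
* **`LFr.zj'`** : `Ω₁Z(J(O)) ≤ l 0 l 1`; **`LFr.zj`** : the hypothesis of `bf_of`; **`LFr.bfZJ`**.
-/

set_option autoImplicit false
set_option linter.unusedSectionVars false
set_option linter.unusedVariables false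

namespace Cfsg.Agent.Omega.KL.TwoZ.Line

open Subgroup Cfsg Cfsg.Agent.Omega.MinPar
open Cfsg.Agent.ZN (o2 zc)
open Cfsg.Agent.Omega.OM.KTwo (ne_add_one eq_add_one add_one_add_one le_normalizer_V le_V exists_mul_of_mem_sup)
open Cfsg.Agent.Omega.NoFF.Basic (conj_conj mem_conj conj_le_iff comm_symm comm_mono)
open Cfsg.Agent.Omega.NoFF.ThmJFam (card_sup_inf card_conj)
open Cfsg.Agent.Omega.NOThreeL.Pair (conj_eq_of_mem)
open Cfsg.Agent.ZN.ChoiceSit (Syl syl_not_dvd o2_le_syl syl_conj)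
open Cfsg.Agent.MinSimple.VModule (mem_zc zc_le o2_isPGroup o2_le le_o2 le_normalizer_o2 le_centralizer_zc)
open Cfsg.Agent.Omega.TC.LemZ (card_eq le_norm_of norm_cent norm_inf)
open Cfsg.Agent.Omega.KL.TwoS (Mx comm_of_sq sq_sup relIndex_le_of_sup relIndex_anti relIndex_pos)
open Cfsg.Agent.Omega.KL.TwoZ (CC syl_inf_norm le_sup_of_sq)
open Cfsg.Agent.Omega.OM
open scoped Pointwise

universe u

variable {G : Type u} [Group G]

/-- the elements of `LL` which act trivially on `C_E(QV) / V (i+1)` -/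
def Lt [Finite G] (S : Sylow 2 G) (V Z : Fin 2 → Subgroup G) (i : Fin 2) : Subgroup G where
  carrier := {x | x ∈ LL S V i ∧ ∀ y ∈ EJ S Z i ⊓ centralizer (QV S V : Set G), x * y * x⁻¹ * y⁻¹ ∈ V (i + 1)}
  one_mem' := ⟨one_mem _, fun y _ => by simp⟩
  mul_mem' := by
    rintro a b ⟨ha, ha'⟩ ⟨hb, hb'⟩
    refine ⟨mul_mem ha hb, fun y hy => ?_⟩
    have e : (a * b) * y * (a * b)⁻¹ * y⁻¹ = (a * (b * y * b⁻¹ * y⁻¹) * a⁻¹) * (a * y * a⁻¹ * y⁻¹) := by group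
    rw [e]
    exact mul_mem ((mem_normalizer_iff.1 (LL_V i ha) _).1 (hb' y hy)) (ha' y hy)
  inv_mem' := by
    rintro a ⟨ha, ha'⟩
    refine ⟨inv_mem ha, fun y hy => ?_⟩
    have e : a⁻¹ * y * a⁻¹⁻¹ * y⁻¹ = a⁻¹ * (a * y * a⁻¹ * y⁻¹)⁻¹ * a⁻¹⁻¹ := by group
    rw [e]
    exact (mem_normalizer_iff.1 (inv_mem (LL_V i ha)) _).1 (inv_mem (ha' y hy))
where
  LL_V {S : Sylow 2 G} {V : Fin 2 → Subgroup G} (i : Fin 2) : LL S V i ≤ normalizer (V (i + 1) : Set G) :=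
    inf_le_left.trans inf_le_right

namespace LFr

variable [Finite G] {S : Sylow 2 G} {V Z l : Fin 2 → Subgroup G} (D : LFr S V Z l)
include D

omit D in
theorem Lt_le (i : Fin 2) : Lt S V Z i ≤ LL S V i := fun x hx => hx.1

theorem norm_Lt {i : Fin 2} {H : Subgroup G} (h1 : H ≤ normalizer (LL S V i : Set G))
    (h2 : H ≤ normalizer ((EJ S Z i ⊓ centralizer (QV S V : Set G) : Subgroup G) : Set G))
    (h3 : H ≤ normalizer (V (i + 1) : Set G)) : H ≤ normalizer (Lt S V Z i : Set G) := by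
  refine le_norm_of fun x hx a ha => ⟨(mem_normalizer_iff.1 (h1 hx) a).1 ha.1, fun y hy => ?_⟩
  have h4 : x⁻¹ * y * x ∈ EJ S Z i ⊓ centralizer (QV S V : Set G) := by
    have := (mem_normalizer_iff.1 (inv_mem (h2 hx)) y).1 hy
    rwa [inv_inv] at this
  have e : x * a * x⁻¹ * y * (x * a * x⁻¹)⁻¹ * y⁻¹ = x * (a * (x⁻¹ * y * x) * a⁻¹ * (x⁻¹ * y * x)⁻¹) * x⁻¹ := by
    group
  rw [e]
  exact (mem_normalizer_iff.1 (h3 hx) _).1 (ha.2 _ h4)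

theorem LL_norm_E (i : Fin 2) :
    LL S V i ≤ normalizer ((EJ S Z i ⊓ centralizer (QV S V : Set G) : Subgroup G) : Set G) :=
  norm_inf ((D.LL_le_CC i).trans (D.EJ_norm i)) (norm_cent (LL_Q i))

theorem S_norm_E (i : Fin 2) :
    (S : Subgroup G) ≤ normalizer ((EJ S Z i ⊓ centralizer (QV S V : Set G) : Subgroup G) : Set G) :=
  norm_inf ((D.S_le_C i).trans (D.EJ_norm i)) (norm_cent D.S_norm_QV)

theorem LL_norm_Lt (i : Fin 2) : LL S V i ≤ normalizer (Lt S V Z i : Set G) :=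
  D.norm_Lt le_normalizer (D.LL_norm_E i) (LL_V i)

theorem S_norm_Lt (i : Fin 2) : (S : Subgroup G) ≤ normalizer (Lt S V Z i : Set G) :=
  D.norm_Lt (D.S_norm_LL i) (D.S_norm_E i) (D.nV _)

/-- `C_Lt(V (i+1))` centralises `C_E(QV)` -/
theorem Lt_cent (i : Fin 2) : Lt S V Z i ⊓ centralizer (V (i + 1) : Set G) ≤
    centralizer ((EJ S Z i ⊓ centralizer (QV S V : Set G) : Subgroup G) : Set G) := by
  set H : Subgroup G := centralizer (V 0 : Set G) ⊓ centralizer (V 1 : Set G) ⊓ normalizer (QV S V : Set G) with hH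
  have hHi : H = centralizer (V i : Set G) ⊓ centralizer (V (i + 1) : Set G) ⊓ normalizer (QV S V : Set G) := by
    rw [hH, D.cV01 i]
  have hHL : H ≤ LL S V i := by
    rw [hHi]
    exact inf_le_inf_right _ (inf_le_inf_left _ (centralizer_le_normalizer _))
  have hs := D.syl_QV
  have hsH : Syl (QV S V) H := by
    refine ⟨le_inf hs.1 le_normalizer, hs.2.1, fun R hR hR2 hle => hs.2.2 R (hR.trans inf_le_left) hR2 hle⟩
  have h1 := le_sup_of_sq (J := Lt S V Z i ⊓ centralizer (V (i + 1) : Set G))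
    (C := centralizer ((EJ S Z i ⊓ centralizer (QV S V : Set G) : Subgroup G) : Set G)) hsH ?_ ?_ ?_ ?_
  · refine h1.trans (sup_le ?_ inf_le_right)
    exact inf_le_left.trans (comm_symm inf_le_right)
  · rw [hHi]
    exact le_inf (le_inf (inf_le_left.trans ((Lt_le i).trans (LL_C i))) inf_le_right)
      (inf_le_left.trans ((Lt_le i).trans (LL_Q i)))
  · refine norm_inf (hHL.trans (D.LL_norm_Lt i)) (norm_cent (hHL.trans (LL_V i)))
  · exact (inf_le_left.trans ((Lt_le i).trans (D.LL_norm_E i))).trans (norm_cent le_rfl)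
  · rintro x ⟨hx, hxV⟩
    refine mem_centralizer_iff.2 fun y hy => ?_
    have h2 := hx.2 y hy
    set v := x * y * x⁻¹ * y⁻¹ with hv
    have h3 := mem_centralizer_iff.1 hxV v h2
    have hvv : v * v = 1 := by rw [← pow_two]; exact D.sqV _ v h2
    have e1 : x * y = v * y * x := by rw [hv]; group
    calc y * (x * x) = v⁻¹ * ((v * y * x) * x) := by group
      _ = v⁻¹ * ((x * y) * x) := by rw [e1]
      _ = v⁻¹ * x * (y * x) := by group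
      _ = v⁻¹ * x * (v⁻¹ * (v * y * x)) := by group
      _ = v⁻¹ * x * (v⁻¹ * (x * y)) := by rw [e1]
      _ = v⁻¹ * (x * v⁻¹) * x * y := by group
      _ = v⁻¹ * (v⁻¹ * x) * x * y := by rw [mem_centralizer_iff.1 hxV v⁻¹ (inv_mem h2)]
      _ = (v * v)⁻¹ * (x * x) * y := by group
      _ = x * x * y := by rw [hvv, inv_one, one_mul]

/-- an element of `N(l j) ∩ N(V j)` maps `A` into `A C(V j)` -/
theorem conj_A {j : Fin 2} {A : Subgroup G} (hA : Mx (OO S) A) (hm : ¬ A ≤ centralizer (V j : Set G)) {x b : G}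
    (hxl : x ∈ normalizer (l j : Set G)) (hxV : x ∈ normalizer (V j : Set G)) (hb : b ∈ A) :
    ∃ a ∈ A, a⁻¹ * (x * b * x⁻¹) ∈ centralizer (V j : Set G) := by
  let J : Subgroup G :=
    { carrier := {y | y ∈ centralizer (l j : Set G) ∧ y ∈ normalizer (V j : Set G) ∧ ∀ v ∈ V j, y * v * y⁻¹ * v⁻¹ ∈ l j}
      one_mem' := ⟨one_mem _, one_mem _, fun v _ => by simp⟩
      mul_mem' := by
        rintro a b ⟨ha, ha', ha''⟩ ⟨hb, hb', hb''⟩
        refine ⟨mul_mem ha hb, mul_mem ha' hb', fun v hv => ?_⟩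
        have h1 := mem_centralizer_iff.1 ha _ (hb'' v hv)
        have e : (a * b) * v * (a * b)⁻¹ * v⁻¹ = (a * (b * v * b⁻¹ * v⁻¹)) * a⁻¹ * (a * v * a⁻¹ * v⁻¹) := by group
        rw [e, ← h1, mul_inv_cancel_right]
        exact mul_mem (hb'' v hv) (ha'' v hv)
      inv_mem' := by
        rintro a ⟨ha, ha', ha''⟩
        refine ⟨inv_mem ha, inv_mem ha', fun v hv => ?_⟩
        have h1 := mem_centralizer_iff.1 (inv_mem ha) _ (inv_mem (ha'' v hv))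
        have e : a⁻¹ * v * a⁻¹⁻¹ * v⁻¹ = (a⁻¹ * (a * v * a⁻¹ * v⁻¹)⁻¹) * a := by group
        rw [e, ← h1, inv_mul_cancel_right]
        exact inv_mem (ha'' v hv) }
  have hAS : A ≤ (S : Subgroup G) := hA.le.trans D.O_le_S
  have hAl := D.mx_le_cl hA j
  have hJn : normalizer (l j : Set G) ⊓ normalizer (V j : Set G) ≤ normalizer (J : Set G) := by
    refine le_norm_of fun z hz y hy => ⟨?_, ?_, fun v hv => ?_⟩
    · exact (mem_normalizer_iff.1 (norm_cent (A := normalizer (l j : Set G)) le_rfl hz.1) y).1 hy.1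
    · exact mul_mem (mul_mem hz.2 hy.2.1) (inv_mem hz.2)
    · have h4 : z⁻¹ * v * z ∈ V j := by
        have := (mem_normalizer_iff.1 (inv_mem hz.2) v).1 hv
        rwa [inv_inv] at this
      have e : z * y * z⁻¹ * v * (z * y * z⁻¹)⁻¹ * v⁻¹ = z * (y * (z⁻¹ * v * z) * y⁻¹ * (z⁻¹ * v * z)⁻¹) * z⁻¹ := by
        group
      rw [e]
      exact (mem_normalizer_iff.1 hz.1 _).1 (hy.2.2 _ h4)
  have hbJ : b ∈ J := ⟨hAl hb, D.nV j (hAS hb), fun v hv => D.rt hA hv hb⟩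
  have hcJ : x * b * x⁻¹ ∈ J := (mem_normalizer_iff.1 (hJn ⟨hxl, hxV⟩) b).1 hbJ
  have h1 := le_sup_of_sq (J := J) (C := centralizer (V j : Set G))
    (D.syl (le_inf (D.Sl j) (D.nV j))) (fun y hy => ⟨centralizer_le_normalizer _ hy.1, hy.2.1⟩) hJn
    (fun y hy => norm_cent (A := normalizer (V j : Set G)) le_rfl hy.2.1) (fun y hy => ?_) hcJ
  · have h1' : x * b * x⁻¹ ∈ (J ⊓ centralizer (V j : Set G)) ⊔ ((S : Subgroup G) ⊓ J) := by
      rw [sup_comm]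
      exact h1
    obtain ⟨f, hf, t, ht, e⟩ := exists_mul_of_mem_sup (norm_inf (inf_le_right.trans le_normalizer)
      (norm_cent (inf_le_left.trans (D.nV j)))) h1'
    obtain ⟨a, ha, hat⟩ := (D.exists_gen hA hAl hm).1 t ht.1 ht.2.1
    refine ⟨a, ha, ?_⟩
    have e2 : a⁻¹ * (f * t) = (a⁻¹ * f * a⁻¹⁻¹) * (a⁻¹ * t) := by group
    rw [e, e2]
    exact mul_mem ((mem_normalizer_iff.1 (norm_cent (A := normalizer (V j : Set G)) le_rfl
      (inv_mem (D.nV j (hAS ha)))) f).1 hf.2) hat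
  · refine mem_centralizer_iff.2 fun v hv => ?_
    have h2 := hy.2.2 v hv
    set u := y * v * y⁻¹ * v⁻¹ with hu
    have h3 := mem_centralizer_iff.1 hy.1 u⁻¹ (inv_mem h2)
    have huu : u * u = 1 := by rw [← pow_two]; exact D.sqV _ u (D.lV j h2)
    have e1 : y * v = u * v * y := by rw [hu]; group
    calc v * (y * y) = u⁻¹ * ((u * v * y) * y) := by group
      _ = u⁻¹ * ((y * v) * y) := by rw [e1]
      _ = u⁻¹ * y * (u⁻¹ * (u * v * y)) := by group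
      _ = u⁻¹ * y * (u⁻¹ * (y * v)) := by rw [e1]
      _ = u⁻¹ * (y * u⁻¹) * y * v := by group
      _ = u⁻¹ * (u⁻¹ * y) * y * v := by rw [h3]
      _ = (u * u)⁻¹ * (y * y) * v := by group
      _ = y * y * v := by rw [huu, inv_one, one_mul]

/-- some `n v`, `v ∈ l (i+1)`, has `[n v, S] ≤ l i` -/
theorem proj (hML : ML.Final.MLK.{u, u}) {i : Fin 2} (hK : IsKGroup (CC Z i)) {A : Subgroup G}
    (hA : Mx (OO S) A) (hAV : A ≤ centralizer (V i : Set G)) (hm : ¬ A ≤ centralizer (V (i + 1) : Set G)) {n : G}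
    (hn : n ∈ Lam S) (hnQ : n ∈ centralizer (QV S V : Set G))
    (hc : ∀ s ∈ (S : Subgroup G), s * n * s⁻¹ * n⁻¹ ∈ l 0 ⊔ l 1) :
    ∃ v ∈ l (i + 1), ∀ s ∈ (S : Subgroup G), s * (n * v) * s⁻¹ * (n * v)⁻¹ ∈ l i := by
  obtain ⟨g₁, hg₁, hg₁l⟩ := D.exists_mv i
  obtain ⟨a₀, ha₀, ha₀V⟩ := SetLike.not_le_iff_exists.1 hm
  obtain ⟨z, hz, hz1⟩ := D.exists_ne (i + 1)
  have hAS : A ≤ (S : Subgroup G) := hA.le.trans D.O_le_S
  have hEsq := D.EJ_sq hML hK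
  have hEO := D.EJ_le_O hML hK
  have hEc : EJ S Z i ≤ centralizer (EJ S Z i : Set G) := comm_of_sq hEsq
  have hVE' : V (i + 1) ≤ EJ S Z i ⊓ centralizer (QV S V : Set G) :=
    le_inf (D.V_le_EJ i) (comm_symm (QV_le S V (i + 1)))
  have hALL : A ≤ LL S V i := le_inf (le_inf hAV (hAS.trans (D.nV _))) (hAS.trans D.S_norm_QV)
  have hFQ : A ⊓ centralizer (V (i + 1) : Set G) ≤ QV S V :=
    le_QV i (inf_le_left.trans hAS) (inf_le_left.trans hAV) inf_le_right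
  obtain ⟨dE, -⟩ := D.dec_of (E₀ := EJ S Z i ⊓ centralizer (QV S V : Set G)) hA hm (inf_le_left.trans hEO)
    (fun x hx => hEsq x hx.1) (inf_le_right.trans (centralizer_le hFQ)) hVE'
  have hALt : A ≤ Lt S V Z i := by
    refine fun a ha => ⟨hALL ha, fun y hy => ?_⟩
    obtain ⟨v, hv, c, hcA, -, rfl⟩ := dE y hy
    have h1 := mem_centralizer_iff.1 (hA.comm hcA) a ha
    have e : a * (v * c) * a⁻¹ * (v * c)⁻¹ = a * v * a⁻¹ * v⁻¹ := by
      calc a * (v * c) * a⁻¹ * (v * c)⁻¹ = a * v * (a⁻¹ * (a * c) * a⁻¹) * c⁻¹ * v⁻¹ := by group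
        _ = a * v * (a⁻¹ * (c * a) * a⁻¹) * c⁻¹ * v⁻¹ := by rw [h1]
        _ = _ := by group
    rw [e]
    exact D.lV _ (D.rt hA hv ha)
  set g : G := g₁ * a₀ * g₁⁻¹ with hg
  have hgLt : g ∈ Lt S V Z i := (mem_normalizer_iff.1 (D.LL_norm_Lt i hg₁) a₀).1 (hALt ha₀)
  have hgV : g ∈ normalizer (V (i + 1) : Set G) := LL_V i hgLt.1
  have hgl : g ∉ normalizer (l (i + 1) : Set G) := by
    intro h
    have h1 := D.fix_line (g := g₁⁻¹) (a := a₀) (b := g₁⁻¹ * z * g₁⁻¹⁻¹) hA (inv_mem (LL_V i hg₁))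
      (fun h => hg₁l (by have := inv_mem h; rwa [inv_inv] at this)) ha₀ ha₀V (conj_mem (D.Zl _ hz)) (by
        have e : a₀ * (g₁⁻¹ * z * g₁⁻¹⁻¹) * a₀⁻¹ = g₁⁻¹ * (g * z * g⁻¹) * g₁⁻¹⁻¹ := by rw [hg]; group
        rw [e]
        exact conj_mem ((mem_normalizer_iff.1 h z).1 (D.Zl _ hz)))
    exact hz1 (conj_eq_one_iff.1 h1)
  obtain ⟨hmV, hml, hlm⟩ := D.lines hgV hgl
  set m : Subgroup G := MulAut.conj g • l (i + 1) with hmd
  have hnE : n ∈ EJ S Z i := D.Lam_le_EJ i hn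
  have hnE' : n ∈ EJ S Z i ⊓ centralizer (QV S V : Set G) := ⟨hnE, hnQ⟩
  obtain ⟨a₁, ha₁, b₁, hb₁, e₁⟩ := hlm _ (hgLt.2 n hnE')
  refine ⟨a₁, ha₁, ?_⟩
  have ha₁E : a₁ ∈ EJ S Z i := D.V_le_EJ i (D.lV _ ha₁)
  have hb₁E : b₁ ∈ EJ S Z i := D.V_le_EJ i (hmV hb₁)
  set n' : G := n * a₁ with hn'
  have hn'A : n' ∈ A := mul_mem (Lam_le hA hn) (Lam_le hA (D.l_le_Lam _ ha₁))
  have hn'E : n' ∈ EJ S Z i ⊓ centralizer (QV S V : Set G) := mul_mem hnE' (hVE' (D.lV _ ha₁))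
  have hn'g : n' ∈ MulAut.conj g • A := by
    have h1 : n' = b₁⁻¹ * (g * n * g⁻¹) := by
      have h2 : g * n * g⁻¹ = a₁ * b₁ * n := by rw [← e₁]; group
      have c1 : (a₁ * b₁) * n = n * (a₁ * b₁) := mem_centralizer_iff.1 (hEc hnE) _ (mul_mem ha₁E hb₁E)
      have c2 : b₁⁻¹ * (n * a₁) = (n * a₁) * b₁⁻¹ := mem_centralizer_iff.1 (hEc (mul_mem hnE ha₁E)) _ (inv_mem hb₁E)
      rw [h2, c1]
      calc n' = (n * a₁) * b₁⁻¹ * b₁ := by rw [hn']; group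
        _ = b₁⁻¹ * (n * a₁) * b₁ := by rw [c2]
        _ = _ := by group
    rw [h1]
    refine mul_mem (inv_mem ?_) (conj_mem (Lam_le hA hn))
    have h3 : l (i + 1) ≤ A := (D.l_le_Lam _).trans (Lam_le hA)
    exact (conj_le_iff.2 h3) hb₁
  have hgAc : ∀ x ∈ MulAut.conj g • A, x * n' = n' * x := by
    intro x hx
    have h1 := mem_conj.1 hx
    have h2 := mem_conj.1 hn'g
    have h3 := mem_centralizer_iff.1 (hA.comm h2) _ h1
    calc x * n' = g * ((g⁻¹ * x * g) * (g⁻¹ * n' * g)) * g⁻¹ := by group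
      _ = g * ((g⁻¹ * n' * g) * (g⁻¹ * x * g)) * g⁻¹ := by rw [h3]
      _ = _ := by group
  have hl01 : ∀ k, l k ≤ l 0 ⊔ l 1 := fun k => by
    rcases PT.eq_or 0 k with rfl | rfl
    · exact le_sup_left
    · exact le_sup_right
  have hLc : Lam S ≤ centralizer (Lam S : Set G) := by
    refine (Lam_le hA).trans (hA.comm.trans (centralizer_le (Lam_le hA)))
  -- the case where `s` normalises the line `m`
  have key : ∀ s ∈ (S : Subgroup G), s ∈ normalizer (m : Set G) → s * n' * s⁻¹ * n'⁻¹ ∈ l i := by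
    intro s hs hsm
    have hε : s * n' * s⁻¹ * n'⁻¹ ∈ l 0 ⊔ l 1 := by
      have h1 : s * a₁ * s⁻¹ * a₁⁻¹ ∈ l (i + 1) := mul_mem ((mem_normalizer_iff.1 (D.Sl _ hs) a₁).1 ha₁) (inv_mem ha₁)
      have h2 := mem_centralizer_iff.1 (hLc hn) _ (D.l_le_Lam _ h1)
      have e : s * n' * s⁻¹ * n'⁻¹ = (s * n * s⁻¹ * n⁻¹) * (n * (s * a₁ * s⁻¹ * a₁⁻¹) * n⁻¹) := by
        rw [hn']; group
      rw [e, ← h2, mul_inv_cancel_right]
      exact mul_mem (hc s hs) (hl01 _ h1)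
    obtain ⟨ei, hei, ej, hej, eε⟩ := D.ll_dec i hε
    set x : G := g⁻¹ * s * g with hx
    have hxl : x ∈ normalizer (l (i + 1) : Set G) := by
      refine mem_norm_iff.2 ?_
      rw [hx, ← conj_conj, ← conj_conj, ← hmd, conj_eq_of_mem hsm, hmd, conj_conj, inv_mul_cancel, map_one, one_smul]
    have hxV : x ∈ normalizer (V (i + 1) : Set G) := mul_mem (mul_mem (inv_mem hgV) (D.nV _ hs)) hgV
    obtain ⟨a₂, ha₂, hc₂⟩ := D.conj_A hA hm hxl hxV ha₀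
    set b : G := g * (x * a₀ * x⁻¹) * g⁻¹ with hb
    have hbLt : b ∈ Lt S V Z i := by
      have h1 : s * g * s⁻¹ ∈ Lt S V Z i := (mem_normalizer_iff.1 (D.S_norm_Lt i hs) g).1 hgLt
      have h2 : s * a₀ * s⁻¹ ∈ Lt S V Z i := (mem_normalizer_iff.1 (D.S_norm_Lt i hs) a₀).1 (hALt ha₀)
      have e : b = (s * g * s⁻¹) * (s * a₀ * s⁻¹) * (s * g * s⁻¹)⁻¹ := by rw [hb, hx]; group
      rw [e]
      exact mul_mem (mul_mem h1 h2) (inv_mem h1)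
    have hb'Lt : g * a₂ * g⁻¹ ∈ Lt S V Z i := mul_mem (mul_mem hgLt (hALt ha₂)) (inv_mem hgLt)
    have hbb : (g * a₂ * g⁻¹)⁻¹ * b ∈ centralizer (V (i + 1) : Set G) := by
      have h1 := (mem_normalizer_iff.1 (norm_cent (A := normalizer (V (i + 1) : Set G)) le_rfl hgV) _).1 hc₂
      have e : (g * a₂ * g⁻¹)⁻¹ * b = g * (a₂⁻¹ * (x * a₀ * x⁻¹)) * g⁻¹ := by rw [hb]; group
      rw [e]
      exact h1
    have hbbL : (g * a₂ * g⁻¹)⁻¹ * b ∈ Lt S V Z i := mul_mem (inv_mem hb'Lt) hbLt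
    have h1 : n' * ((g * a₂ * g⁻¹)⁻¹ * b) = ((g * a₂ * g⁻¹)⁻¹ * b) * n' :=
      mem_centralizer_iff.1 (D.Lt_cent i ⟨hbbL, hbb⟩) n' hn'E
    have h2 : (g * a₂ * g⁻¹) * n' = n' * (g * a₂ * g⁻¹) := hgAc _ (conj_mem ha₂)
    have h3 : b * n' = n' * b := by
      calc b * n' = (g * a₂ * g⁻¹) * (((g * a₂ * g⁻¹)⁻¹ * b) * n') := by group
        _ = (g * a₂ * g⁻¹) * (n' * ((g * a₂ * g⁻¹)⁻¹ * b)) := by rw [h1]
        _ = ((g * a₂ * g⁻¹) * n') * ((g * a₂ * g⁻¹)⁻¹ * b) := by group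
        _ = (n' * (g * a₂ * g⁻¹)) * ((g * a₂ * g⁻¹)⁻¹ * b) := by rw [h2]
        _ = _ := by group
    have eb : b = s * (g * a₀ * g⁻¹) * s⁻¹ := by rw [hb, hx]; group
    have h4 : b * (s * n' * s⁻¹) = (s * n' * s⁻¹) * b := by
      have h5 := hgAc _ (conj_mem (g := g) ha₀)
      rw [eb]
      calc s * (g * a₀ * g⁻¹) * s⁻¹ * (s * n' * s⁻¹) = s * ((g * a₀ * g⁻¹) * n') * s⁻¹ := by group
        _ = s * (n' * (g * a₀ * g⁻¹)) * s⁻¹ := by rw [h5]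
        _ = _ := by group
    have h5 : b * (ei * ej) = (ei * ej) * b := by
      rw [← eε]
      calc b * (s * n' * s⁻¹ * n'⁻¹) = (b * (s * n' * s⁻¹)) * n'⁻¹ := by group
        _ = (s * n' * s⁻¹) * (n'⁻¹ * (n' * b) * n'⁻¹) := by rw [h4]; group
        _ = (s * n' * s⁻¹) * (n'⁻¹ * (b * n') * n'⁻¹) := by rw [h3]
        _ = _ := by group
    have h6 : b * ej = ej * b := by
      have h7 := mem_centralizer_iff.1 (LL_C i hbLt.1) ei (D.lV i hei)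
      calc b * ej = ei⁻¹ * (ei * b) * ej := by group
        _ = ei⁻¹ * (b * (ei * ej)) := by rw [h7]; group
        _ = ei⁻¹ * ((ei * ej) * b) := by rw [h5]
        _ = _ := by group
    have hsgV : s * g ∈ normalizer (V (i + 1) : Set G) := mul_mem (D.nV _ hs) hgV
    have h8 : (s * g)⁻¹ * ej * (s * g) ∈ V (i + 1) := by
      have := (mem_normalizer_iff.1 (inv_mem hsgV) ej).1 (D.lV _ hej)
      rwa [inv_inv] at this
    have h9 : (s * g)⁻¹ * ej * (s * g) ∈ l (i + 1) := by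
      by_contra hcon
      refine ha₀V (D.reg (i + 1) a₀ (hAS ha₀) (D.mx_le_cl hA (i + 1) ha₀) _ h8 hcon ?_)
      have eb' : a₀ = (s * g)⁻¹ * b * (s * g) := by rw [eb]; group
      rw [eb']
      calc (s * g)⁻¹ * b * (s * g) * ((s * g)⁻¹ * ej * (s * g)) = (s * g)⁻¹ * (b * ej) * (s * g) := by group
        _ = (s * g)⁻¹ * (ej * b) * (s * g) := by rw [h6]
        _ = _ := by group
    have h10 : ej ∈ m := by
      have h11 : ej ∈ MulAut.conj (s * g) • l (i + 1) := mem_conj.2 h9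
      rwa [← conj_conj, ← hmd, conj_eq_of_mem hsm] at h11
    rw [eε, hml ej hej h10, mul_one]
    exact hei
  intro s hs
  -- replace `s` by `a⁻¹ s`
  have hsgV : s * g ∈ normalizer (V (i + 1) : Set G) := mul_mem (D.nV _ hs) hgV
  have hsgl : s * g ∉ normalizer (l (i + 1) : Set G) := by
    intro h
    apply hgl
    have := mul_mem (inv_mem (D.Sl (i + 1) hs)) h
    rwa [inv_mul_cancel_left] at this
  obtain ⟨h0, h1, h2⟩ := D.lines hsgV hsgl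
  have hwm : g * z * g⁻¹ ∈ m := conj_mem (D.Zl _ hz)
  have hw1 : g * z * g⁻¹ ≠ 1 := fun h => hz1 (conj_eq_one_iff.1 h)
  obtain ⟨u, hu, w, hw, e⟩ := h2 _ (hmV hwm)
  obtain ⟨a, ha, ea⟩ := D.onto hA hm (hmV hwm) (fun h => hw1 (hml _ h hwm)) (inv_mem hu)
  have e2 : a * (g * z * g⁻¹) * a⁻¹ = w := by
    have h3 : a * (g * z * g⁻¹) * a⁻¹ = u⁻¹ * (g * z * g⁻¹) := by
      rw [← ea]; group
    rw [h3, e]; group
  have hw1' : w ≠ 1 := fun h => hw1 (conj_eq_one_iff.1 (e2.trans h))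
  have hmm : MulAut.conj (a * g) • l (i + 1) = MulAut.conj (s * g) • l (i + 1) := by
    by_contra hne
    have h3 := D.ti _ _ ⟨i + 1, a * g, rfl⟩ ⟨i + 1, s * g, rfl⟩ hne
    have h4 : w ∈ MulAut.conj (a * g) • l (i + 1) ⊓ MulAut.conj (s * g) • l (i + 1) := by
      refine ⟨?_, hw⟩
      rw [← e2, ← conj_conj]
      exact conj_mem hwm
    rw [h3, mem_bot] at h4
    exact hw1' h4
  have hs' : a⁻¹ * s ∈ normalizer (m : Set G) := by
    refine mem_norm_iff.2 ?_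
    rw [hmd, conj_conj, mul_assoc, ← conj_conj, ← hmm, conj_conj, inv_mul_cancel_left]
  have h3 := key _ (mul_mem (inv_mem (hAS ha)) hs) hs'
  have h4 := mem_centralizer_iff.1 (hA.comm hn'A) a ha
  have h5 := mem_centralizer_iff.1 (hAV ha) _ (D.lV i h3)
  have e3 : s * n' * s⁻¹ * n'⁻¹ = a * ((a⁻¹ * s) * n' * (a⁻¹ * s)⁻¹ * n'⁻¹) * a⁻¹ := by
    calc s * n' * s⁻¹ * n'⁻¹ = a * ((a⁻¹ * s) * n' * (a⁻¹ * s)⁻¹ * n'⁻¹) * (n' * a⁻¹ * n'⁻¹) := by group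
      _ = a * ((a⁻¹ * s) * n' * (a⁻¹ * s)⁻¹ * n'⁻¹) * (a⁻¹ * (a * n') * a⁻¹ * n'⁻¹) := by group
      _ = a * ((a⁻¹ * s) * n' * (a⁻¹ * s)⁻¹ * n'⁻¹) * (a⁻¹ * (n' * a) * a⁻¹ * n'⁻¹) := by rw [h4]
      _ = _ := by group
  rw [e3, ← h5, mul_inv_cancel_right]
  exact h3

theorem Lam_norm : (S : Subgroup G) ≤ normalizer (Lam S : Set G) := by
  refine le_norm_of fun c hc x hx => mem_sInf.2 fun A hA => ?_
  have h1 : MulAut.conj c⁻¹ • A ≤ OO S := by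
    have h2 : MulAut.conj c⁻¹ • OO S = OO S := conj_eq_of_mem
      (le_normalizer_o2 _ (le_centralizer_zc _ (inv_mem hc)))
    rw [← h2]
    exact conj_le_iff.2 hA.le
  have h3 := mem_sInf.1 hx _ (hA.conj h1)
  rw [mem_conj, inv_inv] at h3
  exact h3

/-- **LEMMA ZJ** : `Ω₁Z(J(O)) ≤ l 0 l 1` -/
theorem zj' (hML : ML.Final.MLK.{u, u}) (hK : ∀ i, IsKGroup (CC Z i))
    (hex : ∀ i, ∃ A, Mx (OO S) A ∧ ¬ A ≤ centralizer (V i : Set G)) : Lam S ≤ l 0 ⊔ l 1 := by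
  by_contra hcon
  obtain ⟨A₀, hA₀⟩ := Mx.exists_mx (OO S)
  have hLc : Lam S ≤ centralizer (Lam S : Set G) :=
    (Lam_le hA₀).trans (hA₀.comm.trans (centralizer_le (Lam_le hA₀)))
  have hl01 : ∀ k, l k ≤ l 0 ⊔ l 1 := fun k => by
    rcases PT.eq_or 0 k with rfl | rfl
    · exact le_sup_left
    · exact le_sup_right
  have hlL : l 0 ⊔ l 1 ≤ Lam S := sup_le (D.l_le_Lam 0) (D.l_le_Lam 1)
  have hSl : (S : Subgroup G) ≤ normalizer ((l 0 ⊔ l 1 : Subgroup G) : Set G) := by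
    refine le_norm_of fun s hs x hx => ?_
    obtain ⟨a, ha, b, hb, rfl⟩ := D.ll_dec 0 hx
    have e : s * (a * b) * s⁻¹ = (s * a * s⁻¹) * (s * b * s⁻¹) := by group
    rw [e]
    exact mul_mem (hl01 _ ((mem_normalizer_iff.1 (D.Sl _ hs) a).1 ha))
      (hl01 _ ((mem_normalizer_iff.1 (D.Sl _ hs) b).1 hb))
  obtain ⟨n, hn, hnl, hc⟩ := NO3b.ClosedPow.exists_fixed_mod (S := (S : Subgroup G)) (B := Lam S) (A := l 0 ⊔ l 1)
    S.2 (S.2.to_le ((Lam_le hA₀).trans (hA₀.le.trans D.O_le_S)))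
    (fun x hx b hb => (mem_normalizer_iff.1 (D.Lam_norm hx) b).1 hb)
    (fun x hx b hb => (mem_normalizer_iff.1 (hSl hx) b).1 hb)
    (fun x hx b hb => by
      rw [← mem_centralizer_iff.1 (hLc hx) b (hlL hb), mul_inv_cancel_right]
      exact hb) hcon
  have hc' : ∀ s ∈ (S : Subgroup G), s * n * s⁻¹ * n⁻¹ ∈ l 0 ⊔ l 1 := hc
  have hA : ∀ i, ∃ A, Mx (OO S) A ∧ A ≤ centralizer (V i : Set G) ∧ ¬ A ≤ centralizer (V (i + 1) : Set G) :=
    D.exists_A hex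
  obtain ⟨A, hA1, hA2, hA3⟩ := hA 0
  obtain ⟨B, hB1, hB2, hB3⟩ := hA 1
  have hnQ : n ∈ centralizer (QV S V : Set G) := by
    refine mem_centralizer_iff.2 fun q hq => ?_
    have h0 := D.claim hML (hK 0) hA1 hA2 hA3 hn hc' q hq
    have h1 := D.claim hML (hK 1) hB1 hB2 hB3 hn hc' q hq
    have h2 := D.dis' (i := 0) (j := 1) (by decide) (D.lV 0 h0) (D.lV 1 h1)
    exact mul_inv_eq_iff_eq_mul.1 (mul_inv_eq_one.1 h2)
  obtain ⟨v₁, hv₁, h1⟩ := D.proj hML (hK 0) hA1 hA2 hA3 hn hnQ hc'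
  have hv₁' : v₁ ∈ l 1 := hv₁
  have hn₁ : n * v₁ ∈ Lam S := mul_mem hn (D.l_le_Lam 1 hv₁')
  have hn₁Q : n * v₁ ∈ centralizer (QV S V : Set G) :=
    mul_mem hnQ (comm_symm (QV_le S V 1) (D.lV 1 hv₁'))
  obtain ⟨v₀, hv₀, h0⟩ := D.proj hML (hK 1) hB1 hB2 hB3 hn₁ hn₁Q fun s hs => hl01 0 (h1 s hs)
  have hv₀' : v₀ ∈ l 0 := hv₀
  set n₂ : G := n * v₁ * v₀ with hn₂
  have h2 : ∀ s ∈ (S : Subgroup G), s * n₂ * s⁻¹ * n₂⁻¹ = 1 := by
    intro s hs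
    refine D.dis' (i := 0) (j := 1) (by decide) (D.lV 0 ?_) (D.lV 1 (h0 s hs))
    have h3 : s * v₀ * s⁻¹ * v₀⁻¹ ∈ l 0 := mul_mem ((mem_normalizer_iff.1 (D.Sl 0 hs) v₀).1 hv₀') (inv_mem hv₀')
    have h4 := mem_centralizer_iff.1 (hLc hn₁) _ (D.l_le_Lam 0 h3)
    have e : s * n₂ * s⁻¹ * n₂⁻¹ =
        (s * (n * v₁) * s⁻¹ * (n * v₁)⁻¹) * ((n * v₁) * (s * v₀ * s⁻¹ * v₀⁻¹) * (n * v₁)⁻¹) := by
      rw [hn₂]; group
    rw [e, ← h4, mul_inv_cancel_right]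
    exact mul_mem (h1 s hs) h3
  have hn₂L : n₂ ∈ Lam S := mul_mem hn₁ (D.l_le_Lam 0 hv₀')
  have h3 : n₂ ∈ zc (S : Subgroup G) := by
    exact mem_zc.2 ⟨D.O_le_S (hA₀.le (Lam_le hA₀ hn₂L)),
      fun s hs => mul_inv_eq_iff_eq_mul.1 (mul_inv_eq_one.1 (h2 s hs)), hA₀.sq _ (Lam_le hA₀ hn₂L)⟩
  apply hnl
  rw [D.zT] at h3
  have h4 : n₂ ∈ l 0 ⊔ l 1 := (sup_le_sup (D.Zl 0) (D.Zl 1)) h3
  have h5 := mul_mem (mul_mem h4 (inv_mem (hl01 0 hv₀'))) (inv_mem (hl01 1 hv₁'))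
  have e : n₂ * v₀⁻¹ * v₁⁻¹ = n := by rw [hn₂]; group
  rwa [e] at h5

/-- **LEMMA ZJ**, the hypothesis `zj` of `bf_of` -/
theorem zj (hML : ML.Final.MLK.{u, u}) (hK : ∀ i, IsKGroup (CC Z i))
    (hex : ∀ i, ∃ A, Mx (OO S) A ∧ ¬ A ≤ centralizer (V i : Set G)) :
    ∀ n ∈ o2 (centralizer (zc (S : Subgroup G) : Set G)), n ^ 2 = 1 →
      (∀ A, Mx (o2 (centralizer (zc (S : Subgroup G) : Set G))) A → ∀ a ∈ A, a * n = n * a) → n ∈ l 0 ⊔ l 1 :=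
  fun n hn hn2 h => D.zj' hML hK hex (mem_Lam hn hn2 h)

/-- **the field `bf` of `LFrW`** -/
theorem bfZJ (hML : ML.Final.MLK.{u, u}) (hK : ∀ i, IsKGroup (CC Z i))
    (hex : ∀ i, ∃ A, Mx (OO S) A ∧ ¬ A ≤ centralizer (V i : Set G)) :
    ∀ n ∈ o2 (centralizer (zc (S : Subgroup G) : Set G)), n ^ 2 = 1 → (∀ b ∈ BB S l, b * n = n * b) →
      n ∈ l 0 ⊔ l 1 :=
  bf_of (fun A hA i => D.mx_le_cl hA i) (D.zj hML hK hex)

/-- **the field `bf` of `LFrW`**, from `NoInpM` -/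
theorem bfZJ' (hML : ML.Final.MLK.{u, u}) (hN : StarM.NoInpM.{u, u}) (hK : ∀ i, IsKGroup (CC Z i)) :
    ∀ n ∈ o2 (centralizer (zc (S : Subgroup G) : Set G)), n ^ 2 = 1 → (∀ b ∈ BB S l, b * n = n * b) →
      n ∈ l 0 ⊔ l 1 :=
  D.bfZJ hML hK fun i => (D.frM.ex_false hML hN hK i).2.2

end LFr

end Cfsg.Agent.Omega.KL.TwoZ.Line
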