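import Cfsg.Agent.Omega.KL.TwoZ.Low

/-!
# (NO) and (K3) on `N_i E / E` for a `C_i`-invariant `E` (fields: `E = l i`, TEXT W2 (F4))

`E ≤ Q_i` elementary abelian, normalised by `C_i`, `E ∩ Z (i+1) = 1`.

* `cmE E B` : `{n ∈ C(E) : [B, n] ≤ E}`; `Fr.no_E` : `|B : C_B(N_i)| ≤ |N_i : {n : [B, n] ≤ E}|` for `B ≤ O`, `B² = 1`;
* `Fr.k3_E` : `B` exact on `N_i` : the `n ∈ N_i` with `[B, n] ≤ E` commute with `B`.
-/

set_option autoImplicit false
set_option linter.unusedSectionVars false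

namespace Cfsg.Agent.Omega.KL.TwoZ

open Subgroup Cfsg Cfsg.Agent.Omega.MinPar
open Cfsg.Agent.ZN (o2 zc)
open Cfsg.Agent.Omega.OM.KTwo (ne_add_one eq_add_one add_one_add_one le_normalizer_V le_V exists_mul_of_mem_sup)
open Cfsg.Agent.Omega.NoFF.Basic (conj_conj mem_conj conj_le_iff comm_symm comm_mono Z_le_V V_le)
open Cfsg.Agent.ZN.ChoiceSit (Syl exists_syl syl_conj o2_le_syl syl_not_dvd)
open Cfsg.Agent.MinSimple.VModule (mem_zc zc_le o2_isPGroup o2_le le_normalizer_o2)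
open Cfsg.Agent.Omega.TC.LemZ (card_eq le_norm_of norm_cent norm_inf)
open Cfsg.Agent.Omega.KL.TwoS (comm_of_sq sq_sup relIndex_le_of_sup relIndex_pos relIndex_mono relIndex_anti)
open scoped Pointwise

universe u

variable {G : Type u} [Group G]

/-- `{n ∈ C(E) : [B, n] ≤ E}` -/
def cmE (E B : Subgroup G) : Subgroup G where
  carrier := {n | n ∈ centralizer (E : Set G) ∧ ∀ b ∈ B, b * n * b⁻¹ * n⁻¹ ∈ E}
  one_mem' := ⟨one_mem _, fun b _ => by simp⟩
  mul_mem' := by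
    rintro n m ⟨hn, hn'⟩ ⟨hm, hm'⟩
    refine ⟨mul_mem hn hm, fun b hb => ?_⟩
    have h1 := mem_centralizer_iff.1 hn _ (hm' b hb)
    have e : b * (n * m) * b⁻¹ * (n * m)⁻¹ = (b * n * b⁻¹ * n⁻¹) * (n * (b * m * b⁻¹ * m⁻¹) * n⁻¹) := by group
    rw [e, ← h1, mul_inv_cancel_right]
    exact mul_mem (hn' b hb) (hm' b hb)
  inv_mem' := by
    rintro n ⟨hn, hn'⟩
    refine ⟨inv_mem hn, fun b hb => ?_⟩
    have h1 := mem_centralizer_iff.1 hn _ (inv_mem (hn' b hb))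
    have e : b * n⁻¹ * b⁻¹ * n⁻¹⁻¹ = n⁻¹ * ((b * n * b⁻¹ * n⁻¹)⁻¹ * n) := by group
    rw [e, h1, inv_mul_cancel_left]
    exact inv_mem (hn' b hb)

theorem mem_cmE {E B : Subgroup G} {n : G} :
    n ∈ cmE E B ↔ n ∈ centralizer (E : Set G) ∧ ∀ b ∈ B, b * n * b⁻¹ * n⁻¹ ∈ E := Iff.rfl

namespace Fr

variable [Finite G] {T : Subgroup G} {V Z : Fin 2 → Subgroup G} (D : Fr T V Z)

include D

/-- **(NO) on `N_i E / E`** for `B ≤ O` with `B² = 1` -/
theorem no_E (hML : ML.Final.MLK.{u, u}) {i : Fin 2} (hK : IsKGroup (CC Z i)) {E B : Subgroup G}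
    (hE : CC Z i ≤ normalizer (E : Set G)) (hE1 : ∀ z ∈ Z (i + 1), z ∈ E → z = 1) (hEQ : E ≤ QQ Z i)
    (hE2 : ∀ x ∈ E, x ^ 2 = 1) (hB : B ≤ o2 (centralizer (zc T : Set G))) (hB2 : ∀ b ∈ B, b ^ 2 = 1) :
    (centralizer (NN Z i : Set G)).relIndex B ≤ (cmE E B).relIndex (NN Z i) := by
  obtain ⟨w, hw, hw1⟩ : ∃ w ∈ Z (i + 1), w ≠ 1 := by
    by_contra hc
    push Not at hc
    exact D.ne (i + 1) (eq_bot_iff.2 fun x hx => mem_bot.2 (hc x hx))
  set W₁ : Subgroup G := NoFF.Basic.V (zpowers w) (CC Z i) with hW₁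
  have hwW : w ∈ W₁ := le_V _ _ (mem_zpowers w)
  have hW₁n : CC Z i ≤ normalizer (W₁ : Set G) := le_normalizer_V _ _
  have hW₁N : W₁ ≤ NN Z i := V_le_of ((zpowers_le.2 hw).trans (le_V _ _)) (le_normalizer_V _ _)
  have hEc : E ≤ centralizer (E : Set G) := comm_of_sq hE2
  have hNE : NN Z i ≤ centralizer (E : Set G) := (D.N_le_cent_Q i).trans (centralizer_le hEQ)
  have hEC : E ≤ CC Z i := (hEQ.trans (D.Q_le_T i)).trans (D.T_le_C i)
  set X : Subgroup G := NN Z i ⊔ E with hX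
  have hXsq : ∀ x ∈ X, x ^ 2 = 1 := sq_sup (D.N_sq i) hE2 hNE
  have hXc : X ≤ centralizer (X : Set G) := comm_of_sq hXsq
  have hXC : X ≤ CC Z i := sup_le (D.N_le_C i i) hEC
  have hXE : X ≤ centralizer (E : Set G) := sup_le hNE hEc
  have hWX : W₁ ⊔ E ≤ X := sup_le_sup_right hW₁N _
  have hBC : B ≤ CC Z i := (hB.trans D.O_le_T).trans (D.T_le_C i)
  have hZc : E ≤ cmE E B := by
    intro z hz
    refine ⟨hEc hz, fun b hb => ?_⟩
    exact mul_mem ((mem_normalizer_iff.1 (hE (hBC hb)) z).1 hz) (inv_mem hz)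
  have hmain : (B ⊓ centralizer (W₁ : Set G)).relIndex B ≤ ((W₁ ⊔ E) ⊓ cmE E B).relIndex (W₁ ⊔ E) := by
    refine hML.grp (C := CC Z i) (W := W₁ ⊔ E) (Y := E) (T := T) (Q := o2 (centralizer (zc T : Set G))) (A := B)
      (w := w) hK ?_ (KA := B ⊓ centralizer (W₁ : Set G)) (CW := (W₁ ⊔ E) ⊓ cmE E B) ?_ ?_
    · refine ⟨norm_sup hW₁n hE, hE, le_sup_right, (hWX.trans hXC).trans hE, ?_, mem_sup_left hwW, ?_, D.T_le_C i,
        D.T_isPGroup, syl_not_dvd (D.syl i), ?_, D.O_le_T.trans (D.T_le_C i), o2_isPGroup _, ?_, ?_, hB, ?_⟩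
      · intro x hx
        rw [← pow_two, hXsq x (hWX hx)]
        exact one_mem _
      · intro U hU hYU hHU
        exact sup_le (V_le_of (zpowers_le.2 hU) hHU) hYU
      · intro t ht
        have h1 := mem_centralizer_iff.1 (D.T_le_C (i + 1) ht) w hw
        rw [← h1, mul_inv_cancel_right, mul_inv_cancel]
        exact one_mem _
      · intro q hq
        have h1 := mem_centralizer_iff.1 (D.cent_zc_le (i + 1) (o2_le _ hq)) w hw
        rw [← h1, mul_inv_cancel_right, mul_inv_cancel]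
        exact one_mem _
      · intro g hg hgY q hq
        have h1 : g ∈ centralizer ({w} : Set G) := mem_centralizer_singleton_iff.2 (D.stab hE hE1 hw hg hgY)
        exact (mem_normalizer_iff.1 (norm_o2_of (D.norm_D i ⟨hg, D.sti hw hw1 ⟨hg, h1⟩⟩)) q).1 hq
      · intro a ha x _
        have h1 : a * a = 1 := by rw [← pow_two]; exact hB2 a ha
        have e : a * (a * x * a⁻¹) * a⁻¹ * x⁻¹ = (a * a) * x * (a * a)⁻¹ * x⁻¹ := by group
        rw [e, h1]
        simp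
    · intro a
      constructor
      · rintro ⟨h1, h2⟩
        refine ⟨h1, fun x hx => ?_⟩
        obtain ⟨y, hy, z, hz, rfl⟩ := exists_mul_of_mem_sup (hEC.trans hW₁n) hx
        have h3 := mem_centralizer_iff.1 h2 y hy
        have h4 : a * z * a⁻¹ * z⁻¹ ∈ E := mul_mem ((mem_normalizer_iff.1 (hE (hBC h1)) z).1 hz) (inv_mem hz)
        have h5 : y ∈ centralizer (E : Set G) := hNE (hW₁N hy)
        have e : a * (y * z) * a⁻¹ * (y * z)⁻¹ = (a * y) * a⁻¹ * (a * z * a⁻¹ * z⁻¹) * y⁻¹ := by group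
        rw [e, ← h3, mul_inv_cancel_right, ← mem_centralizer_iff.1 h5 _ h4, mul_inv_cancel_right]
        exact h4
      · rintro ⟨h1, h2⟩
        refine ⟨h1, ?_⟩
        have h3 : W₁ ≤ centralizer ({a} : Set G) := by
          refine V_le fun c hc => ?_
          intro y hy
          rw [mem_conj] at hy
          have h4 : c * w * c⁻¹ ∈ centralizer ({a} : Set G) := by
            have h5 := h2 (c * w * c⁻¹) (mem_sup_left ((mem_normalizer_iff.1 (hW₁n hc) w).1 hwW))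
            have h6 : (c⁻¹ * a * c) * w * (c⁻¹ * a * c)⁻¹ * w⁻¹ ∈ E := by
              have h7 := (mem_normalizer_iff.1 (hE (inv_mem hc)) _).1 h5
              have e : c⁻¹ * (a * (c * w * c⁻¹) * a⁻¹ * (c * w * c⁻¹)⁻¹) * c⁻¹⁻¹ =
                (c⁻¹ * a * c) * w * (c⁻¹ * a * c)⁻¹ * w⁻¹ := by group
              rwa [e] at h7
            have h8 := D.stab hE hE1 hw (mul_mem (mul_mem (inv_mem hc) (hBC h1)) hc) h6
            rw [mem_centralizer_singleton_iff]
            calc c * w * c⁻¹ * a = c * (w * (c⁻¹ * a * c)) * c⁻¹ := by group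
              _ = c * ((c⁻¹ * a * c) * w) * c⁻¹ := by rw [h8]
              _ = a * (c * w * c⁻¹) := by group
          obtain ⟨n, hn⟩ := mem_zpowers_iff.1 hy
          have e : y = (c * w * c⁻¹) ^ n := by rw [conj_zpow, hn]; group
          rw [e]
          exact zpow_mem h4 n
        exact mem_centralizer_iff.2 fun y hy => mem_centralizer_singleton_iff.1 (h3 hy)
    · intro x
      constructor
      · rintro ⟨h1, h2⟩
        exact ⟨h1, h2.2⟩
      · rintro ⟨h1, h2⟩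
        exact ⟨h1, hXE (hWX h1), h2⟩
  rw [inf_relIndex_left, inf_relIndex_left] at hmain
  calc (centralizer (NN Z i : Set G)).relIndex B ≤ (B ⊓ centralizer (W₁ : Set G)).relIndex B :=
        relIndex_anti (D.ker_w hw hw1 hB)
    _ = (centralizer (W₁ : Set G)).relIndex B := inf_relIndex_left _ _
    _ ≤ (cmE E B).relIndex (W₁ ⊔ E) := hmain
    _ ≤ (cmE E B).relIndex X := relIndex_mono hWX
    _ ≤ (cmE E B).relIndex (NN Z i) := by
        refine relIndex_le_of_sup le_sup_left hXc (sup_le le_sup_left ?_)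
        exact le_trans (le_inf le_sup_right hZc) le_sup_right

/-- **(K3) mod `E`** -/
theorem k3_E (hML : ML.Final.MLK.{u, u}) {i : Fin 2} (hK : IsKGroup (CC Z i)) {E B : Subgroup G}
    (hE : CC Z i ≤ normalizer (E : Set G)) (hE1 : ∀ z ∈ Z (i + 1), z ∈ E → z = 1) (hEQ : E ≤ QQ Z i)
    (hE2 : ∀ x ∈ E, x ^ 2 = 1) (hB : B ≤ o2 (centralizer (zc T : Set G))) (hB2 : ∀ b ∈ B, b ^ 2 = 1)
    (hex : (centralizer (B : Set G)).relIndex (NN Z i) ≤ (centralizer (NN Z i : Set G)).relIndex B) {n : G}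
    (hn : n ∈ NN Z i) (h : ∀ b ∈ B, b * n * b⁻¹ * n⁻¹ ∈ E) : ∀ b ∈ B, b * n = n * b := by
  have h1 := hex.trans (D.no_E hML hK hE hE1 hEQ hE2 hB hB2)
  have hNE : NN Z i ≤ centralizer (E : Set G) := (D.N_le_cent_Q i).trans (centralizer_le hEQ)
  have hle : NN Z i ⊓ centralizer (B : Set G) ≤ NN Z i ⊓ cmE E B := by
    rintro x ⟨hx, hxB⟩
    refine ⟨hx, hNE hx, fun b hb => ?_⟩
    rw [mem_centralizer_iff.1 hxB b hb, mul_inv_cancel_right, mul_inv_cancel]
    exact one_mem _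
  have h2 := card_eq (NN Z i) (centralizer (B : Set G))
  have h3 := card_eq (NN Z i) (cmE E B)
  have h4 : Nat.card (NN Z i ⊓ cmE E B : Subgroup G) ≤ Nat.card (NN Z i ⊓ centralizer (B : Set G) : Subgroup G) := by
    by_contra hc
    push Not at hc
    have p := relIndex_pos (centralizer (B : Set G)) (NN Z i)
    have h5 : Nat.card (NN Z i ⊓ centralizer (B : Set G) : Subgroup G) * (centralizer (B : Set G)).relIndex (NN Z i) <
        Nat.card (NN Z i ⊓ cmE E B : Subgroup G) * (cmE E B).relIndex (NN Z i) :=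
      lt_of_lt_of_le (Nat.mul_lt_mul_of_pos_right hc p) (Nat.mul_le_mul_left _ h1)
    rw [← h2, ← h3] at h5
    exact lt_irrefl _ h5
  have h5 := Subgroup.eq_of_le_of_card_ge hle h4
  have h6 : n ∈ NN Z i ⊓ centralizer (B : Set G) := by
    rw [h5]
    exact ⟨hn, hNE hn, h⟩
  exact fun b hb => mem_centralizer_iff.1 h6.2 b hb

end Fr

end Cfsg.Agent.Omega.KL.TwoZ
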