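import Cfsg.Agent.Omega.KL.TwoZ.Fr
import Mathlib.LinearAlgebra.Matrix.SpecialLinearGroup

/-!
# The frame of TEXT W2 (helper918 #24006): both `V i` natural `SL₂(q_i)`-modules

* `NatSL F e V Z` : coordinates `e : F² → G` with image `V`, `Z = e (F × 0)`; `ActSL F e R` : `R` acts on `V` as `SL₂(F)`;
* `NF T V Z` : the frame;
* `NF.tmat`, `NF.exists_t` : `T` induces on `V i` the full group of transvections with centre `Z i`;
* `NF.com`, `NF.free`, `NF.root`, `NF.card`, `NF.tra`.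
-/

set_option autoImplicit false
set_option linter.unusedSectionVars false

namespace Cfsg.Agent.Omega.KL.TwoZ

open Subgroup Cfsg Cfsg.Agent.Omega.MinPar
open Cfsg.Agent.ZN (o2 zc)
open Cfsg.Agent.Omega.OM.KTwo (ne_add_one eq_add_one add_one_add_one)
open Cfsg.Agent.MinSimple.MinParabolic (IsMinPar)
open Cfsg.Agent.Omega.NoFF.Basic (conj_conj mem_conj conj_le_iff)
open Cfsg.Agent.ZN.ChoiceSit (Syl exists_syl syl_conj)
open scoped Pointwise Matrix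

universe u

variable {G : Type u} [Group G]

/-- coordinates on `V` : `V = e (F²)`, `Z = e (F × 0)` -/
structure NatSL (F : Type) [Field F] (e : (Fin 2 → F) → G) (V Z : Subgroup G) : Prop where
  add : ∀ v w, e (v + w) = e v * e w
  inj : Function.Injective e
  mem : ∀ x, x ∈ V ↔ ∃ v, e v = x
  pt : ∀ x, x ∈ Z ↔ ∃ a, e ![a, 0] = x

/-- `R` acts on `V` as `SL₂(F)` -/
def ActSL (F : Type) [Field F] (e : (Fin 2 → F) → G) (R : Subgroup G) : Prop :=
  (∀ r ∈ R, ∃ M : Matrix.SpecialLinearGroup (Fin 2) F, ∀ v, r * e v * r⁻¹ = e (M.1 *ᵥ v)) ∧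
    ∀ M : Matrix.SpecialLinearGroup (Fin 2) F, ∃ r ∈ R, ∀ v, r * e v * r⁻¹ = e (M.1 *ᵥ v)

/-- **the frame of TEXT W2** -/
structure NF [Finite G] (T : Subgroup G) (V Z : Fin 2 → Subgroup G) : Prop extends Fr T V Z where
  /-- `T` is a Sylow 2-subgroup of `G` -/
  sylG : Syl T ⊤
  ctr : ∀ i, ∀ m ∈ Z i, m ≠ 1 → centralizer ({m} : Set G) ≤ normalizer (Z i : Set G)
  /-- `N_G(T)` permutes the two blocks -/
  nrm : ∀ n ∈ normalizer (T : Set G), (∀ i, MulAut.conj n • Z i = Z i ∧ MulAut.conj n • V i = V i) ∨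
    ∀ i, MulAut.conj n • Z i = Z (i + 1) ∧ MulAut.conj n • V i = V (i + 1)
  nat : ∀ i, ∃ (F : Type) (_ : Field F) (_ : Finite F) (e : (Fin 2 → F) → G), NatSL F e (V i) (Z i) ∧
    ∀ j, j ≠ i → ∀ R : Subgroup G, IsMinPar T R → R ≤ centralizer (Z j : Set G) →
      ¬ R ≤ centralizer (Z i : Set G) → ActSL F e R

/-! ### Coordinates -/

namespace NatSL

variable {F : Type} [Field F] {e : (Fin 2 → F) → G} {V Z : Subgroup G} (h : NatSL F e V Z)
include h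

theorem map_zero : e 0 = 1 := by
  have h1 := h.add 0 0
  rw [add_zero] at h1
  exact (left_eq_mul.1 h1)

theorem map_neg (v : Fin 2 → F) : e (-v) = (e v)⁻¹ := by
  refine eq_inv_of_mul_eq_one_left ?_
  rw [← h.add, neg_add_cancel, h.map_zero]

theorem map_sub (v w : Fin 2 → F) : e (v - w) = e v * (e w)⁻¹ := by
  rw [sub_eq_add_neg, h.add, h.map_neg]

theorem eq_one {v : Fin 2 → F} : e v = 1 ↔ v = 0 := by
  rw [← h.map_zero]
  exact h.inj.eq_iff

theorem mem_V (v : Fin 2 → F) : e v ∈ V := (h.mem _).2 ⟨v, rfl⟩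

theorem mem_Z {v : Fin 2 → F} : e v ∈ Z ↔ v 1 = 0 := by
  rw [h.pt]
  constructor
  · rintro ⟨a, ha⟩
    rw [← h.inj ha]
    rfl
  · intro hv
    refine ⟨v 0, ?_⟩
    congr 1
    ext j
    fin_cases j
    · rfl
    · exact hv.symm

theorem Z_le : Z ≤ V := by
  intro x hx
  obtain ⟨a, rfl⟩ := (h.pt x).1 hx
  exact h.mem_V _

theorem card_V : Nat.card V = Nat.card F * Nat.card F := by
  have e1 : (Fin 2 → F) ≃ V := Equiv.ofBijective (fun v => ⟨e v, h.mem_V v⟩)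
    ⟨fun v w hvw => h.inj (congrArg Subtype.val hvw), fun x => by
      obtain ⟨v, hv⟩ := (h.mem x).1 x.2
      exact ⟨v, Subtype.ext hv⟩⟩
  rw [← Nat.card_congr e1, Nat.card_fun, Nat.card_eq_fintype_card (α := Fin 2), Fintype.card_fin, pow_two]

theorem card_Z : Nat.card Z = Nat.card F := by
  have e1 : F ≃ Z := Equiv.ofBijective (fun a => ⟨e ![a, 0], h.mem_Z.2 rfl⟩)
    ⟨fun a b hab => congrFun (h.inj (congrArg Subtype.val hab)) 0, fun x => by
      obtain ⟨v, hv⟩ := (h.pt x).1 x.2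
      exact ⟨v, Subtype.ext hv⟩⟩
  rw [← Nat.card_congr e1]

theorem add_self (hsq : ∀ x ∈ V, x ^ 2 = 1) (v : Fin 2 → F) : v + v = 0 := by
  rw [← h.eq_one, h.add, ← pow_two]
  exact hsq _ (h.mem_V v)

theorem two_eq (hsq : ∀ x ∈ V, x ^ 2 = 1) : (2 : F) = 0 := by
  have h1 := congrFun (h.add_self hsq (fun _ => 1)) 0
  have h2 : (1 : F) + 1 = 0 := h1
  rw [← h2]; norm_num

end NatSL

theorem mulVec_two {F : Type} [Field F] (M : Matrix (Fin 2) (Fin 2) F) (v : Fin 2 → F) :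
    M *ᵥ v = ![M 0 0 * v 0 + M 0 1 * v 1, M 1 0 * v 0 + M 1 1 * v 1] := by
  ext j
  fin_cases j <;> simp [Matrix.mulVec, dotProduct, Fin.sum_univ_two]

/-- a matrix of determinant `1` which fixes `(1, 0)` -/
theorem sl_fix {F : Type} [Field F] {M : Matrix.SpecialLinearGroup (Fin 2) F} (h : M.1 *ᵥ ![1, 0] = ![1, 0])
    (v : Fin 2 → F) : M.1 *ᵥ v = ![v 0 + M.1 0 1 * v 1, v 1] := by
  rw [mulVec_two] at h
  have h0 : M.1 0 0 = 1 := by simpa using congrFun h 0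
  have h1 : M.1 1 0 = 0 := by simpa using congrFun h 1
  have hd := M.2
  rw [Matrix.det_fin_two, h0, h1, mul_zero, sub_zero, one_mul] at hd
  rw [mulVec_two, h0, h1, hd]
  simp

/-- the transvection `(x, y) ↦ (x + b y, y)` -/
def tv {F : Type} [Field F] (b : F) : Matrix.SpecialLinearGroup (Fin 2) F :=
  ⟨!![1, b; 0, 1], by simp [Matrix.det_fin_two]⟩

theorem tv_mulVec {F : Type} [Field F] (b : F) (v : Fin 2 → F) : (tv b).1 *ᵥ v = ![v 0 + b * v 1, v 1] := by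
  rw [mulVec_two]
  simp [tv]

/-- the torus `(x, y) ↦ (a x, a⁻¹ y)` -/
def tor {F : Type} [Field F] (a : F) (ha : a ≠ 0) : Matrix.SpecialLinearGroup (Fin 2) F :=
  ⟨!![a, 0; 0, a⁻¹], by simp [Matrix.det_fin_two, ha]⟩

theorem tor_mulVec {F : Type} [Field F] (a : F) (ha : a ≠ 0) (v : Fin 2 → F) :
    (tor a ha).1 *ᵥ v = ![a * v 0, a⁻¹ * v 1] := by
  rw [mulVec_two]
  simp [tor]

/-- `SL₂(F)` is transitive on the vectors `≠ 0` -/
theorem exists_sl {F : Type} [Field F] {v : Fin 2 → F} (hv : v ≠ 0) :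
    ∃ M : Matrix.SpecialLinearGroup (Fin 2) F, M.1 *ᵥ v = ![1, 0] := by
  by_cases h0 : v 0 = 0
  · have h1 : v 1 ≠ 0 := by
      intro h1
      apply hv
      ext j
      fin_cases j
      · exact h0
      · exact h1
    refine ⟨⟨!![0, (v 1)⁻¹; - v 1, 0], by simp [Matrix.det_fin_two, h1]⟩, ?_⟩
    rw [mulVec_two]
    simp [h0, h1]
  · refine ⟨⟨!![(v 0)⁻¹, 0; - v 1, v 0], by simp [Matrix.det_fin_two, h0]⟩, ?_⟩
    rw [mulVec_two]
    have h2 : -(v 1 * v 0) + v 0 * v 1 = 0 := by ring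
    simp [h0, h2]

namespace NF

variable [Finite G] {T : Subgroup G} {V Z : Fin 2 → Subgroup G} (D : NF T V Z)

include D

/-- `T` is a Sylow 2-subgroup of every subgroup which contains it -/
theorem sylH {H : Subgroup G} (hT : T ≤ H) : Syl T H :=
  ⟨hT, D.sylG.2.1, fun R _ hR2 hTR => D.sylG.2.2 R le_top hR2 hTR⟩

theorem exists_par (i : Fin 2) : ∃ j, j ≠ i ∧ ∃ R : Subgroup G, IsMinPar T R ∧ R ≤ centralizer (Z j : Set G) ∧
    ¬ R ≤ centralizer (Z i : Set G) := by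
  obtain ⟨R, h1, h2, h3⟩ := D.par (i + 1)
  rw [add_one_add_one] at h3
  exact ⟨i + 1, (ne_add_one i).symm, R, h1, h2, h3⟩

/-- **the action of `T`** in coordinates -/
theorem tmat {i : Fin 2} {F : Type} [Field F] {e : (Fin 2 → F) → G} (hN : NatSL F e (V i) (Z i)) {R : Subgroup G}
    (hA : ActSL F e R) {t : G} (ht : t ∈ R) (htZ : t ∈ centralizer (Z i : Set G)) :
    ∃ b : F, ∀ v, t * e v * t⁻¹ = e ![v 0 + b * v 1, v 1] := by
  obtain ⟨M, hM⟩ := hA.1 t ht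
  refine ⟨M.1 0 1, fun v => ?_⟩
  rw [hM]
  congr 1
  refine sl_fix (hN.inj ?_) v
  rw [← hM, ← mem_centralizer_iff.1 htZ (e ![1, 0]) (hN.mem_Z.2 rfl), mul_inv_cancel_right]

/-- `T` induces all transvections with centre `Z i` -/
theorem exists_t {i : Fin 2} {F : Type} [Field F] {e : (Fin 2 → F) → G} (hN : NatSL F e (V i) (Z i))
    {R : Subgroup G} (hA : ActSL F e R) (hTR : T ≤ R) (b : F) :
    ∃ t ∈ T, ∀ v, t * e v * t⁻¹ = e ![v 0 + b * v 1, v 1] := by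
  have htwo : (2 : F) = 0 := hN.two_eq (D.sqV i)
  have hadd : ∀ x : F, x + x = 0 := fun x => by rw [← two_mul, htwo, zero_mul]
  obtain ⟨r, hr, hrM⟩ := hA.2 (tv b)
  simp only [tv_mulVec] at hrM
  -- powers of `r`
  have hpow : ∀ n : ℕ, ∀ v, r ^ n * e v * (r ^ n)⁻¹ = e ![v 0 + (n : F) * b * v 1, v 1] := by
    intro n
    induction n with
    | zero =>
      intro v
      simp only [pow_zero, one_mul, inv_one, mul_one, Nat.cast_zero, zero_mul, add_zero]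
      congr 1
      ext j
      fin_cases j <;> rfl
    | succ n ih =>
      intro v
      have e1 : r ^ (n + 1) * e v * (r ^ (n + 1))⁻¹ = r * (r ^ n * e v * (r ^ n)⁻¹) * r⁻¹ := by
        rw [pow_succ']; group
      rw [e1, ih, hrM]
      congr 1
      ext j
      fin_cases j
      · simp; ring
      · simp
  -- the 2-part of `r`
  obtain ⟨k, m, hm, hkm⟩ := Nat.exists_eq_two_pow_mul_odd (n := orderOf r) (orderOf_pos r).ne'
  set s := r ^ m with hs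
  have hsM : ∀ v, s * e v * s⁻¹ = e ![v 0 + b * v 1, v 1] := by
    intro v
    rw [hs, hpow]
    have h1 : ((m : ℕ) : F) = 1 := by
      obtain ⟨l, hl⟩ := hm
      rw [hl]
      push_cast
      rw [htwo, zero_mul, zero_add]
    rw [h1, one_mul]
  have hs2 : IsPGroup 2 (zpowers s) := by
    have h1 : s ^ 2 ^ k = 1 := by
      rw [hs, ← pow_mul, mul_comm, ← hkm, pow_orderOf_eq_one]
    have hf : Fact (Nat.Prime 2) := ⟨Nat.prime_two⟩
    obtain ⟨n, -, hn⟩ := (Nat.dvd_prime_pow Nat.prime_two).1 (orderOf_dvd_of_pow_eq_one h1)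
    exact IsPGroup.of_card (n := n) (by rw [Nat.card_zpowers, hn])
  set H : Subgroup G := R ⊓ centralizer (Z i : Set G) with hH
  have hsH : zpowers s ≤ H := by
    rw [zpowers_le]
    refine ⟨pow_mem hr m, mem_centralizer_iff.2 fun z hz => ?_⟩
    obtain ⟨a, rfl⟩ := (hN.pt z).1 hz
    have h1 := hsM ![a, 0]
    have e2 : (![(![a, 0] : Fin 2 → F) 0 + b * (![a, 0] : Fin 2 → F) 1, (![a, 0] : Fin 2 → F) 1]) = ![a, 0] := by
      simp
    rw [e2] at h1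
    calc e ![a, 0] * s = (s * e ![a, 0] * s⁻¹) * s := by rw [h1]
      _ = _ := by group
  obtain ⟨T', hT', hsT'⟩ := exists_syl hs2 hsH
  have hTH : Syl T H := D.sylH (le_inf hTR (D.T_le_C i))
  obtain ⟨c, hc, hcT⟩ := syl_conj hT' hTH
  refine ⟨c * s * c⁻¹, ?_, fun v => ?_⟩
  · rw [← hcT]
    exact ⟨s, hsT' (mem_zpowers s), rfl⟩
  · obtain ⟨d, hd⟩ := D.tmat hN hA hc.1 hc.2
    have hd' : ∀ v, c⁻¹ * e v * c = e ![v 0 + d * v 1, v 1] := by
      intro v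
      have h1 := hd ![v 0 + d * v 1, v 1]
      have e2 : (![(![v 0 + d * v 1, v 1] : Fin 2 → F) 0 + d * (![v 0 + d * v 1, v 1] : Fin 2 → F) 1,
          (![v 0 + d * v 1, v 1] : Fin 2 → F) 1]) = v := by
        ext j
        fin_cases j
        · have := hadd (d * v 1)
          simp only [Matrix.cons_val_zero, Matrix.cons_val_one, Fin.zero_eta, Fin.isValue]
          rw [add_assoc, this, add_zero]
        · rfl
      rw [e2] at h1
      rw [← h1]; group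
    have e1 : c * s * c⁻¹ * e v * (c * s * c⁻¹)⁻¹ = c * (s * (c⁻¹ * e v * c) * s⁻¹) * c⁻¹ := by group
    rw [e1, hd', hsM, hd]
    congr 1
    ext j
    fin_cases j
    · have h2 := hadd (d * v 1)
      simp only [Matrix.cons_val_zero, Matrix.cons_val_one, Fin.zero_eta, Fin.isValue]
      calc v 0 + d * v 1 + b * v 1 + d * v 1 = v 0 + b * v 1 + (d * v 1 + d * v 1) := by ring
        _ = _ := by rw [h2, add_zero]
    · rfl

/-- coordinates with the action of `T` and of a `T`-minimal `R` -/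
theorem exists_crd (i : Fin 2) : ∃ (F : Type) (_ : Field F) (_ : Finite F) (e : (Fin 2 → F) → G),
    NatSL F e (V i) (Z i) ∧ (∀ t ∈ T, ∃ b : F, ∀ v, t * e v * t⁻¹ = e ![v 0 + b * v 1, v 1]) ∧
      (∀ b : F, ∃ t ∈ T, ∀ v, t * e v * t⁻¹ = e ![v 0 + b * v 1, v 1]) ∧
      ∀ j, j ≠ i → ∀ R : Subgroup G, IsMinPar T R → R ≤ centralizer (Z j : Set G) →
        ¬ R ≤ centralizer (Z i : Set G) → ActSL F e R := by
  obtain ⟨F, iF, iF', e, hN, hR⟩ := D.nat i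
  obtain ⟨j, hj, R, h1, h2, h3⟩ := D.exists_par i
  have hA := hR j hj R h1 h2 h3
  exact ⟨F, iF, iF', e, hN, fun t ht => D.tmat hN hA (h1.le ht) (D.T_le_C i ht), fun b => D.exists_t hN hA h1.le b, hR⟩

/-- `[V i, T] ≤ Z i` -/
theorem com (i : Fin 2) : ∀ t ∈ T, ∀ v ∈ V i, t * v * t⁻¹ * v⁻¹ ∈ Z i := by
  obtain ⟨F, iF, iF', e, hN, h1, -, -⟩ := D.exists_crd i
  intro t ht v hv
  obtain ⟨w, rfl⟩ := (hN.mem v).1 hv
  obtain ⟨b, hb⟩ := h1 t ht
  rw [hb, ← hN.map_sub, hN.mem_Z]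
  simp

/-- an element of `T` which centralises some `v ∈ V i \ Z i` centralises `V i` -/
theorem free (i : Fin 2) : ∀ t ∈ T, ∀ v ∈ V i, v ∉ Z i → t * v = v * t → t ∈ centralizer (V i : Set G) := by
  obtain ⟨F, iF, iF', e, hN, h1, -, -⟩ := D.exists_crd i
  intro t ht v hv hvZ hc
  obtain ⟨w, rfl⟩ := (hN.mem v).1 hv
  obtain ⟨b, hb⟩ := h1 t ht
  rw [hN.mem_Z] at hvZ
  have h2 := hb w
  rw [hc, mul_inv_cancel_right] at h2
  have h3 := congrFun (hN.inj h2) 0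
  simp only [Matrix.cons_val_zero, left_eq_add, mul_eq_zero] at h3
  have hb0 := h3.resolve_right hvZ
  refine mem_centralizer_iff.2 fun x hx => ?_
  obtain ⟨y, rfl⟩ := (hN.mem x).1 hx
  have h4 := hb y
  rw [hb0] at h4
  have e1 : (![y 0 + 0 * y 1, y 1] : Fin 2 → F) = y := by
    ext j
    fin_cases j <;> simp
  rw [e1] at h4
  calc e y * t = (t * e y * t⁻¹) * t := by rw [h4]
    _ = _ := by group

theorem card (i : Fin 2) : Nat.card (V i) = Nat.card (Z i) * Nat.card (Z i) := by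
  obtain ⟨F, iF, iF', e, hN, -⟩ := D.nat i
  rw [hN.card_V, hN.card_Z]

/-- `[v, T] = Z i`, `v ∈ V i \ Z i` -/
theorem root (i : Fin 2) : ∀ v ∈ V i, v ∉ Z i → ∀ z ∈ Z i, ∃ t ∈ T, t * v * t⁻¹ * v⁻¹ = z := by
  obtain ⟨F, iF, iF', e, hN, -, h2, -⟩ := D.exists_crd i
  intro v hv hvZ z hz
  obtain ⟨w, rfl⟩ := (hN.mem v).1 hv
  obtain ⟨a, rfl⟩ := (hN.pt z).1 hz
  rw [hN.mem_Z] at hvZ
  obtain ⟨t, ht, htb⟩ := h2 (a / w 1)
  refine ⟨t, ht, ?_⟩
  rw [htb, ← hN.map_sub]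
  congr 1
  ext j
  fin_cases j
  · simp [div_mul_cancel₀ _ hvZ]
  · simp

/-- `R` is transitive on `V i#` : every `v ≠ 1` in `V i` lies in a conjugate of `Z i` -/
theorem tra {i j : Fin 2} (hij : j ≠ i) {R : Subgroup G} (hR : IsMinPar T R) (hRj : R ≤ centralizer (Z j : Set G))
    (hRi : ¬ R ≤ centralizer (Z i : Set G)) : ∀ v ∈ V i, v ≠ 1 → ∃ r ∈ R, r * v * r⁻¹ ∈ Z i := by
  obtain ⟨F, iF, iF', e, hN, hA⟩ := D.nat i
  intro v hv hv1
  obtain ⟨w, rfl⟩ := (hN.mem v).1 hv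
  obtain ⟨M, hM⟩ := exists_sl (v := w) (fun h => hv1 (hN.eq_one.2 h))
  obtain ⟨r, hr, hrM⟩ := (hA j hij R hR hRj hRi).2 M
  refine ⟨r, hr, ?_⟩
  rw [hrM, hM]
  exact hN.mem_Z.2 rfl

/-- an element of `R ∈ PP_i` moving `Z i` off itself -/
theorem exists_mv {i j : Fin 2} (hij : j ≠ i) {R : Subgroup G} (hR : IsMinPar T R)
    (hRj : R ≤ centralizer (Z j : Set G)) (hRi : ¬ R ≤ centralizer (Z i : Set G)) :
    ∃ r ∈ R, MulAut.conj r • V i = V i ∧ MulAut.conj r • Z i ⊓ Z i = ⊥ := by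
  obtain ⟨F, iF, iF', e, hN, hA⟩ := D.nat i
  obtain ⟨r, hr, hrM⟩ := (hA j hij R hR hRj hRi).2 ⟨!![0, 1; -1, 0], by simp [Matrix.det_fin_two]⟩
  refine ⟨r, hr, NOThreeL.Pair.conj_eq_of_mem (D.uni i j hij.symm R hR hRj hRi i hr), ?_⟩
  rw [eq_bot_iff]
  rintro x ⟨hx1, hx2⟩
  rw [mem_bot]
  obtain ⟨y, hy, rfl⟩ := hx1
  obtain ⟨a, rfl⟩ := (hN.pt y).1 hy
  change r * e ![a, 0] * r⁻¹ ∈ Z i at hx2
  change r * e ![a, 0] * r⁻¹ = 1
  rw [hrM, mulVec_two] at hx2 ⊢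
  rw [hN.mem_Z] at hx2
  rw [hN.eq_one]
  have ha : a = 0 := by simpa using hx2
  ext j
  fin_cases j <;> simp [ha]

end NF

end Cfsg.Agent.Omega.KL.TwoZ
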