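import Cfsg.Agent.Omega.KL.TwoZ.FrN
import Cfsg.Agent.Omega.KL.StarQ.Gst

/-!
# THEOREM G* (helper918 TEXT W2 #24006 (3))

* `exists_fix_group` : the product of an odd orbit, for sections of a group;
* `FrN.core` : `T ≤ H ≤ C_i`, `N_i = ⟨Z (i+1) ^ H⟩`, every `w ∈ V i` is `H`-fixed modulo `Z_i` up to an element of `N_i Z_i`,
  not `Fail i` : impossible;
* `FrN.no_le` : `V i ≰ N_i Z_i`; **`FrN.g1`** : a 2-subgroup of `C_i` which centralises `X_i / N_i Z_i` centralises `N_i`;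
* `FrN.g2` : `A` maximal in `O` moves `N_i` ⟹ `C_A(N_i)` moves `X_i`;
* **`FrN.g3`** : some maximal `A ≤ Q_i` moves `V i`, both `i`.
-/

set_option autoImplicit false
set_option linter.unusedSectionVars false
set_option linter.unusedVariables false

namespace Cfsg.Agent.Omega.KL.TwoZ

open Subgroup Cfsg Cfsg.Agent.Omega.MinPar
open Cfsg.Agent.ZN (o2 zc)
open Cfsg.Agent.ClassTwoFusion.Quad Cfsg.Agent.Omega.ML.MinFrame
open Cfsg.Agent.Omega.OM.KTwo (ne_add_one eq_add_one add_one_add_one le_normalizer_V le_V exists_mul_of_mem_sup)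
open Cfsg.Agent.MinSimple.MinParabolic (IsMinPar)
open Cfsg.Agent.Omega.NoFF.Basic (conj_conj mem_conj conj_le_iff comm_symm comm_mono Z_le_V V_le)
open Cfsg.Agent.Omega.NOThreeL.Pair (conj_eq_of_mem conj_le_normalizer)
open Cfsg.Agent.Omega.NoFF.ThmJFam (card_sup_inf card_conj conj_cent conj_inf)
open Cfsg.Agent.ZN.ChoiceSit (Syl exists_syl syl_conj o2_le_syl syl_not_dvd)
open Cfsg.Agent.MinSimple.VModule (mem_zc zc_le normalizer_le_normalizer_zc le_o2
  o2_isPGroup o2_le zc_le_centralizer le_centralizer_zc le_normalizer_o2)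
open Cfsg.Agent.Omega.TC (kgroup_mono)
open Cfsg.Agent.Omega.TC.LemZ (card_eq le_norm_of norm_cent norm_inf)
open Cfsg.Agent.Omega.KL.TwoS (Mx sq_sup relIndex_le_of_sup sup_of_relIndex_le relIndex_pos relIndex_mono
  relIndex_anti relIndex_split)
open scoped Pointwise

universe u

variable {G : Type u} [Group G]

/-- the product of an odd orbit, for the section `W / Y` -/
theorem exists_fix_group [Finite G] {C W Y N T : Subgroup G} (nW : C ≤ normalizer (W : Set G))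
    (nY : C ≤ normalizer (Y : Set G)) (WY : W ≤ normalizer (Y : Set G)) (sq : ∀ x ∈ W, x * x ∈ Y) (hYN : Y ≤ N)
    (hTC : ¬ 2 ∣ T.relIndex C) {w : G} (hw : w ∈ W) (hwT : ∀ t ∈ T, t * w * t⁻¹ * w⁻¹ ∈ Y)
    (hwC : ∀ c ∈ C, c * w * c⁻¹ * w⁻¹ ∈ N) : ∃ f ∈ W, (∀ c ∈ C, c * f * c⁻¹ * f⁻¹ ∈ Y) ∧ f * w⁻¹ ∈ N := by
  have hN : (Y.subgroupOf W).Normal := normal_subgroupOf_of_le_normalizer WY
  let _ := ML.Final.conjAct nW nY
  let mk : W →* W ⧸ Y.subgroupOf W := QuotientGroup.mk' (Y.subgroupOf W)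
  have hmk : Function.Surjective mk := QuotientGroup.mk'_surjective _
  have hsm : ∀ (g : C) (x : W) (hx : (g : G) * x * (g : G)⁻¹ ∈ W), g • mk x = mk ⟨(g : G) * x * (g : G)⁻¹, hx⟩ :=
    fun _ _ _ => rfl
  have hmem : ∀ (g : C) (x : W), (g : G) * x * (g : G)⁻¹ ∈ W := fun g x =>
    (mem_normalizer_iff.1 (nW g.2) x).1 x.2
  have hone : ∀ x y : W, mk x = mk y ↔ (x : G) * (y : G)⁻¹ ∈ Y := by
    intro x y
    rw [← mul_inv_eq_one, ← map_inv, ← map_mul, ← MonoidHom.mem_ker, QuotientGroup.ker_mk']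
    exact Iff.rfl
  have hfix : ∀ (g : C) (x : W), g • mk x = mk x ↔ (g : G) * x * (g : G)⁻¹ * (x : G)⁻¹ ∈ Y := by
    intro g x
    rw [hsm g x (hmem g x), hone]
  obtain ⟨m0, h1, h2⟩ := NO3S.EMany.Low.exists_fix_coset (H := C) (M := W ⧸ Y.subgroupOf W) (fun m => by
      obtain ⟨x, rfl⟩ := hmk m
      rw [← map_mul, ← map_one mk, hone]
      simpa using sq x x.2) (T := T.subgroupOf C) (R := ⊤) (by rwa [relIndex_top_right]) (m := mk ⟨w, hw⟩)
    (fun t ht => (hfix t _).2 (hwT _ (mem_subgroupOf.1 ht))) (I := (N.subgroupOf W).map mk)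
    (fun g _ => by
      rw [hsm g ⟨w, hw⟩ (hmem g _), ← map_inv, ← map_mul]
      exact mem_map_of_mem mk (mem_subgroupOf.2 (hwC _ g.2)))
  obtain ⟨f, rfl⟩ := hmk m0
  refine ⟨f, f.2, fun c hc => (hfix ⟨c, hc⟩ f).1 (h1 _ (mem_top _)), ?_⟩
  rw [← map_inv, ← map_mul] at h2
  obtain ⟨n, hn, hnf⟩ := h2
  rw [eq_comm, hone] at hnf
  have h3 := mul_mem (hYN hnf) (mem_subgroupOf.1 hn)
  rw [inv_mul_cancel_right] at h3
  exact h3

namespace FrN

variable [Finite G] {T : Subgroup G} {V Z : Fin 2 → Subgroup G}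

/-- `{x ∈ X_i : [x, h] ∈ Z_i}` -/
def te (D : FrN T V Z) (i : Fin 2) (h : G) : Subgroup G where
  carrier := {x | x ∈ XX V Z i ∧ h * x * h⁻¹ * x⁻¹ ∈ Z i}
  one_mem' := ⟨one_mem _, by simp⟩
  mul_mem' := by
    rintro x y ⟨hx, hx'⟩ ⟨hy, hy'⟩
    refine ⟨mul_mem hx hy, ?_⟩
    have h1 := D.Z_cent_C i (D.X_le_C i hx) hy'
    have e : h * (x * y) * h⁻¹ * (x * y)⁻¹ = (h * x * h⁻¹ * x⁻¹) * (x * (h * y * h⁻¹ * y⁻¹)) * x⁻¹ := by group
    rw [e, h1, ← mul_assoc, mul_inv_cancel_right]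
    exact mul_mem hx' hy'
  inv_mem' := by
    rintro x ⟨hx, hx'⟩
    refine ⟨inv_mem hx, ?_⟩
    have h1 := inv_mem hx'
    have h2 := D.Z_cent_C i (D.X_le_C i hx) h1
    have e : h * x⁻¹ * h⁻¹ * x⁻¹⁻¹ = x⁻¹ * ((h * x * h⁻¹ * x⁻¹)⁻¹ * x) := by group
    rw [e, ← h2, inv_mul_cancel_left]
    exact h1

/-- `{c ∈ C_i : [X_i, c] ≤ N_i Z_i}` -/
def KX (D : FrN T V Z) (i : Fin 2) : Subgroup G where
  carrier := {c | c ∈ CC Z i ∧ ∀ x ∈ XX V Z i, c * x * c⁻¹ * x⁻¹ ∈ NP Z i}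
  one_mem' := ⟨one_mem _, fun x _ => by simp⟩
  mul_mem' := by
    rintro a b ⟨ha, ha'⟩ ⟨hb, hb'⟩
    refine ⟨mul_mem ha hb, fun x hx => ?_⟩
    have e : a * b * x * (a * b)⁻¹ * x⁻¹ = (a * (b * x * b⁻¹ * x⁻¹) * a⁻¹) * (a * x * a⁻¹ * x⁻¹) := by group
    rw [e]
    exact mul_mem ((mem_normalizer_iff.1 (D.C_norm_NP i ha) _).1 (hb' x hx)) (ha' x hx)
  inv_mem' := by
    rintro a ⟨ha, ha'⟩
    refine ⟨inv_mem ha, fun x hx => ?_⟩
    have e : a⁻¹ * x * a⁻¹⁻¹ * x⁻¹ = a⁻¹ * (a * x * a⁻¹ * x⁻¹)⁻¹ * a⁻¹⁻¹ := by group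
    rw [e]
    exact (mem_normalizer_iff.1 (D.C_norm_NP i (inv_mem ha)) _).1 (inv_mem (ha' x hx))

theorem KX_le (D : FrN T V Z) (i : Fin 2) : D.KX i ≤ CC Z i := fun _ hc => hc.1

theorem norm_KX (D : FrN T V Z) (i : Fin 2) : CC Z i ≤ normalizer (D.KX i : Set G) := by
  refine le_norm_of fun g hg c hc => ⟨mul_mem (mul_mem hg hc.1) (inv_mem hg), fun x hx => ?_⟩
  have h1 : g⁻¹ * x * g⁻¹⁻¹ ∈ XX V Z i := (mem_normalizer_iff.1 (D.C_norm_X i (inv_mem hg)) x).1 hx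
  have h2 := (mem_normalizer_iff.1 (D.C_norm_NP i hg) _).1 (hc.2 _ h1)
  have e : g * (c * (g⁻¹ * x * g⁻¹⁻¹) * c⁻¹ * (g⁻¹ * x * g⁻¹⁻¹)⁻¹) * g⁻¹ =
      g * c * g⁻¹ * x * (g * c * g⁻¹)⁻¹ * x⁻¹ := by group
  rwa [e] at h2

/-- `[f, L] ≤ Z_i` ⟹ `L'` centralises `f` -/
theorem com_van (D : FrN T V Z) {i : Fin 2} {L : Subgroup G} (hL : L ≤ CC Z i) {f : G}
    (hf : ∀ l ∈ L, l * f * l⁻¹ * f⁻¹ ∈ Z i) {a b : G} (ha : a ∈ L) (hb : b ∈ L) :
    (a * b * a⁻¹ * b⁻¹) * f * (a * b * a⁻¹ * b⁻¹)⁻¹ = f := by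
  have key : ∀ x ∈ L, ∀ y ∈ L, (x * y) * f * (x * y)⁻¹ = (y * f * y⁻¹ * f⁻¹) * (x * f * x⁻¹ * f⁻¹) * f := by
    intro x hx y hy
    have h1 := D.Z_cent_C i (hL hx) (hf y hy)
    calc (x * y) * f * (x * y)⁻¹ = (x * (y * f * y⁻¹ * f⁻¹)) * f * x⁻¹ := by group
      _ = (y * f * y⁻¹ * f⁻¹) * (x * f * x⁻¹ * f⁻¹) * f := by rw [h1]; group
  have h1 := key _ (inv_mem ha) _ (inv_mem hb)
  have h2 := key _ (inv_mem hb) _ (inv_mem ha)
  have h3 := D.Z_cent_C i (D.T_le_C i (D.Z_le_T i (hf _ (inv_mem ha)))) (hf _ (inv_mem hb))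
  rw [← h3, ← h2] at h1
  calc (a * b * a⁻¹ * b⁻¹) * f * (a * b * a⁻¹ * b⁻¹)⁻¹ = a * b * (a⁻¹ * b⁻¹ * f * (a⁻¹ * b⁻¹)⁻¹) * (a * b)⁻¹ := by group
    _ = f := by rw [h1]; group

/-- the core of THEOREM G* -/
theorem core (hML : ML.Final.MLK.{u, u}) (hE : ML.Ex.Two.Ext.{u, u}) (D : FrN T V Z) {i : Fin 2} (hK : IsKGroup (CC Z i))
    (hF : ¬ Fail T V Z i) {H : Subgroup G} (hT : T ≤ H) (hH : H ≤ CC Z i) (hNH : NN Z i ≤ NH Z i H)
    (hf : ∀ w ∈ V i, ∃ f ∈ XX V Z i, (∀ h ∈ H, h * f * h⁻¹ * f⁻¹ ∈ Z i) ∧ f * w⁻¹ ∈ NP Z i) : False := by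
  have hji := (ne_add_one i).symm
  unfold Fail at hF
  push Not at hF
  obtain ⟨A, hA, -, hm⟩ := hF
  obtain ⟨hB1, hB2, -⟩ := D.ex_U hML hK hA
  set B : Subgroup G := A ⊓ centralizer (UU V Z i : Set G) with hB
  have hBO : B ≤ o2 (centralizer (zc T : Set G)) := inf_le_left.trans hA.le
  have hBsq : ∀ b ∈ B, b ^ 2 = 1 := fun b hb => hA.sq b hb.1
  have hBT : B ≤ T := hBO.trans D.O_le_T
  have hBH : B ≤ H := hBT.trans hT
  have hBC : B ≤ CC Z i := hBH.trans hH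
  have hXC := D.X_le_C i
  have hVX : V i ≤ XX V Z i := (le_V _ _).trans le_sup_left
  have hZN : Z (i + 1) ≤ NN Z i := le_V _ _
  have hNNP : NN Z i ≤ NP Z i := le_sup_left
  have hZP : Z (i + 1) ≤ NP Z i := hZN.trans hNNP
  have hSH : Syl T H := ⟨hT, D.T_isPGroup, fun R hR hR2 hTR => (D.syl i).2.2 R (hR.trans hH) hR2 hTR⟩
  -- the section
  have nW : H ≤ normalizer (NP Z i : Set G) := hH.trans (D.C_norm_NP i)
  have nY : H ≤ normalizer (Z i : Set G) := hH.trans (D.C_norm_Z i)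
  have WY : NP Z i ≤ normalizer (Z i : Set G) := ((D.NP_le_X i).trans hXC).trans (D.C_norm_Z i)
  have hN : ((Z i).subgroupOf (NP Z i)).Normal := normal_subgroupOf_of_le_normalizer WY
  let _ := ML.Final.conjAct nW nY
  let mk : NP Z i →* NP Z i ⧸ (Z i).subgroupOf (NP Z i) := QuotientGroup.mk' ((Z i).subgroupOf (NP Z i))
  have hmk : Function.Surjective mk := QuotientGroup.mk'_surjective _
  have hsm : ∀ (g : H) (x : NP Z i) (hx : (g : G) * x * (g : G)⁻¹ ∈ NP Z i), g • mk x = mk ⟨(g : G) * x * (g : G)⁻¹, hx⟩ :=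
    fun _ _ _ => rfl
  have hmem : ∀ (g : H) (x : NP Z i), (g : G) * x * (g : G)⁻¹ ∈ NP Z i := fun g x =>
    (mem_normalizer_iff.1 (nW g.2) x).1 x.2
  have hone : ∀ x y : NP Z i, mk x = mk y ↔ (x : G) * (y : G)⁻¹ ∈ Z i := by
    intro x y
    rw [← mul_inv_eq_one, ← map_inv, ← map_mul, ← MonoidHom.mem_ker, QuotientGroup.ker_mk']
    exact Iff.rfl
  have hfix : ∀ (g : H) (x : NP Z i), g • mk x = mk x ↔ (g : G) * x * (g : G)⁻¹ * (x : G)⁻¹ ∈ Z i := by
    intro g x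
    rw [hsm g x (hmem g x), hone]
  -- `F`, `YS`
  let F : Subgroup G := tl (XX V Z i) (Z i) H (fun x hx y hy => D.Z_cent_C i (hXC hx) hy)
    (fun a ha y hy => D.Z_cent_C i (hH ha) hy)
  have hFX : F ≤ XX V Z i := fun x hx => hx.1
  have hFte : ∀ h ∈ H, F ≤ D.te i h := fun h hh x hx => ⟨hx.1, hx.2 h hh⟩
  let YS : Subgroup G := NP Z i ⊓ (V i ⊔ F)
  have hYS : ∀ n ∈ YS, ∃ w ∈ V i, ∃ f ∈ F, n = w * f := fun n hn =>
    exists_mul_of_mem_sup (((comm_mono (TwoS.comm_of_sq (D.X_sq i)) hFX hVX)).trans (centralizer_le_normalizer _)) hn.2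
  have hVY : ∀ w ∈ V i, ∃ f ∈ F, w⁻¹ * f ∈ YS := by
    intro w hw
    obtain ⟨f, h1, h2, h3⟩ := hf w hw
    refine ⟨f, ⟨h1, h2⟩, ?_, mul_mem (mem_sup_left (inv_mem hw)) (mem_sup_right (show f ∈ F from ⟨h1, h2⟩))⟩
    rw [D.X_comm i (inv_mem (hVX hw)) h1]
    exact h3
  set Z' : Subgroup (NP Z i ⧸ (Z i).subgroupOf (NP Z i)) := ((Z (i + 1)).subgroupOf (NP Z i)).map mk with hZ'
  set Y' : Subgroup (NP Z i ⧸ (Z i).subgroupOf (NP Z i)) := (YS.subgroupOf (NP Z i)).map mk with hY'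
  -- `h` fixes `Y'` iff `[V i, h] ≤ Z_i`
  have hfY : ∀ h : H, (∀ w ∈ V i, (h : G) * w * (h : G)⁻¹ * w⁻¹ ∈ Z i) → ∀ y ∈ Y', h • y = y := by
    rintro h hh _ ⟨n, hn, rfl⟩
    rw [hfix]
    obtain ⟨w, hw, f, hf', e⟩ := hYS n (mem_subgroupOf.1 hn)
    have h1 : w * f ∈ D.te i h := mul_mem (show w ∈ D.te i h from ⟨hVX hw, hh w hw⟩) (hFte h h.2 hf')
    rw [← e] at h1
    exact h1.2
  have hfY' : ∀ h : H, (∀ y ∈ Y', h • y = y) → ∀ w ∈ V i, (h : G) * w * (h : G)⁻¹ * w⁻¹ ∈ Z i := by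
    intro h hh w hw
    obtain ⟨f, hf', hn⟩ := hVY w hw
    have h1 := (hfix h ⟨w⁻¹ * f, hn.1⟩).1 (hh _ (mem_map_of_mem mk (mem_subgroupOf.2 hn)))
    have h2 : w⁻¹ * f ∈ D.te i h := ⟨D.NP_le_X i hn.1, h1⟩
    have h3 : w⁻¹ ∈ D.te i h := by
      have := mul_mem h2 (inv_mem (hFte h h.2 hf'))
      rwa [mul_inv_cancel_right] at this
    have h4 := inv_mem h3
    rw [inv_inv] at h4
    exact h4.2
  -- stabilisers
  have hfZ : ∀ h : H, h ∈ fxr H Z' ↔ (h : G) ∈ centralizer (zc T : Set G) := by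
    intro h
    constructor
    · intro hh
      refine D.mem_D (hH h.2) (mem_centralizer_iff.2 fun z hz => ?_)
      have h1 := (hfix h ⟨z, hZP hz⟩).1 (hh _ (mem_map_of_mem mk (mem_subgroupOf.2 hz)))
      have h2 := D.sep i h (hH h.2) z hz h1
      exact (eq_mul_of_mul_inv_eq h2).symm
    · rintro hh _ ⟨z, hz, rfl⟩
      rw [hfix]
      have h1 := mem_centralizer_iff.1 (D.cent_zc_le (i + 1) hh) z (mem_subgroupOf.1 hz)
      rw [← h1, mul_inv_cancel_right, mul_inv_cancel]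
      exact one_mem _
  have hcN : ∀ h : H, (∀ (c : H), ∀ z ∈ Z', h • c • z = c • z) → (h : G) ∈ centralizer (NN Z i : Set G) := by
    intro h hh
    refine centralizer_le hNH (D.cent_of_mod hH (hH h.2) fun l hl m hm' => ?_)
    have h1 := hh ⟨l, hl⟩ _ (mem_map_of_mem mk (mem_subgroupOf.2 (show ((⟨m, hZP hm'⟩ : NP Z i) : G) ∈ Z (i + 1) from hm')))
    rw [hsm ⟨l, hl⟩ ⟨m, hZP hm'⟩ (hmem _ _)] at h1
    exact (hfix h _).1 h1
  have hcM : ∀ h : H, (h : G) ∈ centralizer (NN Z i : Set G) → ∀ m : NP Z i ⧸ (Z i).subgroupOf (NP Z i), h • m = m := by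
    intro h hh m
    obtain ⟨x, rfl⟩ := hmk m
    rw [hfix]
    obtain ⟨n, hn, z, hz, e⟩ := exists_mul_of_mem_sup ((((D.Z_le_X i).trans hXC)).trans (le_normalizer_V _ _)) x.2
    have h1 := mem_centralizer_iff.1 hh n hn
    have h2 := D.Z_cent_C i (hH h.2) hz
    rw [e]
    have e2 : (h : G) * (n * z) * (h : G)⁻¹ * (n * z)⁻¹ = 1 := by
      calc (h : G) * (n * z) * (h : G)⁻¹ * (n * z)⁻¹ = (h * n) * z * (h : G)⁻¹ * (n * z)⁻¹ := by group
        _ = n * (h * z) * (h : G)⁻¹ * (n * z)⁻¹ := by rw [← h1]; group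
        _ = 1 := by rw [h2]; group
    rw [e2]
    exact one_mem _
  have hnT : ∀ g : H, g ∈ normalizer ((T.subgroupOf H : Subgroup H) : Set H) →
      (g : G) ∈ CC Z i ⊓ normalizer (T : Set G) := by
    intro g hg
    refine mem_inf.2 ⟨hH g.2, ?_⟩
    rw [mem_normalizer_iff]
    intro t
    constructor
    · intro ht
      exact (mem_normalizer_iff.1 hg ⟨t, hT ht⟩).1 ht
    · intro ht
      have h1 : (g : G)⁻¹ * ((g : G) * t * (g : G)⁻¹) * (g : G)⁻¹⁻¹ ∈ T :=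
        (mem_normalizer_iff.1 (inv_mem hg) ⟨(g : G) * t * (g : G)⁻¹, hT ht⟩).1 ht
      have e : (g : G)⁻¹ * ((g : G) * t * (g : G)⁻¹) * (g : G)⁻¹⁻¹ = t := by group
      rwa [e] at h1
  have hTt : ∀ t : H, (t : G) ∈ T → ∀ y ∈ Y', t • y = y := fun t ht =>
    hfY t fun w hw => D.com i w hw t ht
  have hcv : ∀ A' : Subgroup H, ∀ hA' : A'.map H.subtype ≤ CC Z i, (cv (NP Z i ⧸ (Z i).subgroupOf (NP Z i)) (A' : Set H)).index =
      (D.tN i hA').relIndex (NP Z i) := by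
    intro A' hA'
    rw [← index_comap_of_surjective _ hmk, relIndex]
    congr 1
    ext x
    rw [mem_subgroupOf, mem_comap]
    constructor
    · intro h1
      refine ⟨x.2, ?_⟩
      rintro _ ⟨a, ha, rfl⟩
      exact (hfix a x).1 (h1 a ha)
    · rintro ⟨-, h2⟩ a ha
      exact (hfix a x).2 (h2 a ⟨a, ha, rfl⟩)
  have hfxt : fxr H (⊤ : Subgroup (NP Z i ⧸ (Z i).subgroupOf (NP Z i))) = (centralizer (NN Z i : Set G)).subgroupOf H := by
    ext h
    rw [mem_subgroupOf]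
    constructor
    · exact fun hh => hcN h fun c z _ => hh _ (mem_top _)
    · exact fun hh m _ => hcM h hh m
  have hrel : ∀ A' : Subgroup H, (fxr H (⊤ : Subgroup (NP Z i ⧸ (Z i).subgroupOf (NP Z i)))).relIndex A' =
      (centralizer (NN Z i : Set G)).relIndex (A'.map H.subtype) := by
    intro A'
    rw [hfxt, subgroupOf, relIndex_comap]
  have eB : (B.subgroupOf H).map H.subtype = B := by
    rw [subgroupOf_map_subtype, inf_eq_left.2 hBH]
  have hP : StarQ.PreG (C := H) (M := NP Z i ⧸ (Z i).subgroupOf (NP Z i)) (T.subgroupOf H) (B.subgroupOf H) Z' Y' := by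
    refine ⟨?_, ?_, ?_, ?_, ?_, ?_, ?_, ?_, ?_, ?_, ?_, ?_, ?_, ?_, ?_, ?_⟩
    · intro m
      obtain ⟨x, rfl⟩ := hmk m
      rw [← map_mul, ← map_one mk, hone]
      have h1 := D.X_sq i x (D.NP_le_X i x.2)
      rw [pow_two] at h1
      change (x : G) * x * (1 : G)⁻¹ ∈ Z i
      rw [h1, inv_one, mul_one]
      exact one_mem _
    · exact D.T_isPGroup.comap_of_injective H.subtype H.subtype_injective
    · exact syl_not_dvd hSH
    · rintro _ ⟨z, hz, rfl⟩ t ht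
      rw [hfix]
      have h1 := mem_centralizer_iff.1 (D.T_le_C (i + 1) (mem_subgroupOf.1 ht)) z (mem_subgroupOf.1 hz)
      rw [← h1, mul_inv_cancel_right, mul_inv_cancel]
      exact one_mem _
    · rintro g hg _ ⟨z, hz, rfl⟩
      rw [hsm g z (hmem g z)]
      refine mem_map_of_mem mk (mem_subgroupOf.2 ?_)
      exact (mem_normalizer_iff.1 (D.nT i (hnT g hg)).1.1 z).1 (mem_subgroupOf.1 hz)
    · exact fun t ht => hTt t (mem_subgroupOf.1 ht)
    · intro P hP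
      have hR := Plug.minPar_map hT hP
      have hRC : P.map H.subtype ≤ CC Z i := (map_subtype_le P).trans hH
      by_cases hRm : P.map H.subtype ≤ CC Z (i + 1)
      · left
        rintro _ ⟨z, hz, rfl⟩ p hp
        rw [hfix]
        have h1 := mem_centralizer_iff.1 (hRm (mem_map_of_mem H.subtype hp)) z (mem_subgroupOf.1 hz)
        have h2 : (z : G) * p = p * z := h1
        rw [← h2, mul_inv_cancel_right, mul_inv_cancel]
        exact one_mem _
      · right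
        intro g hg hog
        have h1 := D.odd (i + 1) i hji _ hR hRC hRm g (mem_map_of_mem H.subtype hg) (by rwa [orderOf_coe])
        refine hfY g fun w hw => ?_
        rw [← mem_centralizer_iff.1 h1 w hw, mul_inv_cancel_right, mul_inv_cancel]
        exact one_mem _
    · -- `cG`
      rintro L hTL _ ⟨z, hz, rfl⟩ g hgL hgN hgo h1 h2
      have hLi : L.map H.subtype ≤ CC Z i := (map_subtype_le L).trans hH
      -- elements of `L` which fix the orbit of `z`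
      have horb : ∀ s : H, (∀ l ∈ L, s • l • mk z = l • mk z) → ∀ n : NP Z i, mk n ∈ orb L (mk z) →
          (n : G) * s = s * n := by
        intro s hs n hn
        have h3 : orb L (mk z) ≤ ((centralizer ({(s : G)} : Set G)).subgroupOf (NP Z i)).map mk := by
          refine orb_le fun l hl => ?_
          have h4 := hs l hl
          rw [hsm l z (hmem l z)] at h4 ⊢
          rw [hfix] at h4
          refine mem_map_of_mem mk (mem_subgroupOf.2 ?_)
          have h5 := D.sep' i (hH s.2) (hH l.2) (mem_subgroupOf.1 hz) h4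
          rw [mem_centralizer_singleton_iff]
          exact (eq_mul_of_mul_inv_eq h5).symm
        obtain ⟨y, hy, hyn⟩ := h3 hn
        have h4 := (hone n y).1 hyn.symm
        have h5 := mem_centralizer_singleton_iff.1 (mem_subgroupOf.1 hy)
        have h6 := D.Z_cent_C i (hH s.2) h4
        have h7 : (y : G) * s = s * y := h5
        calc (n : G) * s = ((n : G) * (y : G)⁻¹) * (y * s) := by group
          _ = (((n : G) * (y : G)⁻¹) * s) * y := by rw [h7]; group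
          _ = s * n := by rw [← h6]; group
      have hgN' := hnT g hgN
      have hgV := (D.nT i hgN').1.2
      -- `s = [g, t]` centralises `V i`
      have hs : ∀ t ∈ T, ∀ w ∈ V i, ((g : G) * t * (g : G)⁻¹ * t⁻¹) * w = w * ((g : G) * t * (g : G)⁻¹ * t⁻¹) := by
        intro t ht w hw
        have htL : (⟨t, hT ht⟩ : H) ∈ L := hTL (mem_subgroupOf.2 ht)
        set s : H := g * ⟨t, hT ht⟩ * g⁻¹ * (⟨t, hT ht⟩ : H)⁻¹ with hsdef
        have hsG : (s : G) = (g : G) * t * (g : G)⁻¹ * t⁻¹ := rfl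
        obtain ⟨f, hf', hn⟩ := hVY w hw
        obtain ⟨w0, h3, h4⟩ := h2 (mk ⟨w⁻¹ * f, hn.1⟩) (mem_map_of_mem mk (mem_subgroupOf.2 hn))
        obtain ⟨n0, rfl⟩ := hmk w0
        rw [← map_mul] at h4
        have h5 := horb s (fun l hl => h1 _ (mem_subgroupOf.2 ht) l hl) _ h4
        have h5' : (w⁻¹ * f * (n0 : G)) * s = s * (w⁻¹ * f * (n0 : G)) := h5
        have h6 : (s : G) * f * (s : G)⁻¹ = f := D.com_van hH hf'.2 g.2 (hT ht)
        have h7 : (s : G) * n0 * (s : G)⁻¹ = n0 := by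
          refine D.com_van (L := L.map H.subtype) hLi ?_ (mem_map_of_mem H.subtype hgL) (mem_map_of_mem H.subtype htL)
          rintro _ ⟨l, hl, rfl⟩
          exact (hfix l n0).1 (h3 l hl)
        have h8 : (s : G) * f = f * s := eq_mul_of_mul_inv_eq h6
        have h9 : (s : G) * n0 = n0 * s := eq_mul_of_mul_inv_eq h7
        have h10 : Commute (s : G) (w⁻¹ * f * (n0 : G)) := h5'.symm
        have h11 : Commute (s : G) w⁻¹ := by
          have e : w⁻¹ = (w⁻¹ * f * (n0 : G)) * (n0 : G)⁻¹ * f⁻¹ := by group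
          rw [e]
          exact (h10.mul_right (show Commute (s : G) n0 from h9).inv_right).mul_right (show Commute (s : G) f from h8).inv_right
        have h12 : Commute (s : G) w := by
          have := h11.inv_right
          rwa [inv_inv] at this
        rw [← hsG]
        exact h12
      -- `g` centralises `V i / Z_i`
      refine hfY g fun w hw => D.cV i _ ?_ ?_
      · exact mul_mem ((mem_normalizer_iff.1 hgV w).1 hw) (inv_mem hw)
      · rw [mem_centralizer_iff]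
        intro t ht
        have hVab := TwoS.comm_of_sq (D.sqV i)
        have hab : ∀ a ∈ V i, ∀ b ∈ V i, a * b = b * a := fun a ha b hb => mem_centralizer_iff.1 (hVab hb) a ha
        have hgw : (g : G) * w * (g : G)⁻¹ ∈ V i := (mem_normalizer_iff.1 hgV w).1 hw
        have htw : t * w * t⁻¹ ∈ V i := (mem_normalizer_iff.1 (D.nV i ht) w).1 hw
        set u : G := (g : G) * w * (g : G)⁻¹ * w⁻¹ with hu
        have huV : u ∈ V i := mul_mem hgw (inv_mem hw)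
        have hc := D.com i w hw t ht
        set c : G := t * w * t⁻¹ * w⁻¹ with hcdef
        -- `g t w t⁻¹ g⁻¹ = t g w g⁻¹ t⁻¹`
        have e1 : (g : G) * t * w * ((g : G) * t)⁻¹ = t * (g * w * (g : G)⁻¹) * t⁻¹ := by
          have h3 := hs t ht (t * (g * w * (g : G)⁻¹) * t⁻¹) ((mem_normalizer_iff.1 (D.nV i ht) _).1 hgw)
          have h4 : ((g : G) * t * (g : G)⁻¹ * t⁻¹) * (t * (g * w * (g : G)⁻¹) * t⁻¹) *
              ((g : G) * t * (g : G)⁻¹ * t⁻¹)⁻¹ = t * (g * w * (g : G)⁻¹) * t⁻¹ := by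
            rw [h3, mul_inv_cancel_right]
          calc (g : G) * t * w * ((g : G) * t)⁻¹ = ((g : G) * t * (g : G)⁻¹ * t⁻¹) * (t * (g * w * (g : G)⁻¹) * t⁻¹) *
              ((g : G) * t * (g : G)⁻¹ * t⁻¹)⁻¹ := by group
            _ = _ := h4
        have hgc : (g : G) * c = c * g := D.Z_cent_C i (hH g.2) hc
        have e2 : (g : G) * t * w * ((g : G) * t)⁻¹ = c * (u * w) := by
          calc (g : G) * t * w * ((g : G) * t)⁻¹ = (g * c) * w * (g : G)⁻¹ := by rw [hcdef]; group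
            _ = c * (u * w) := by rw [hgc, hu]; group
        have e3 : t * (g * w * (g : G)⁻¹) * t⁻¹ = (t * u * t⁻¹) * (c * w) := by rw [hu, hcdef]; group
        have e4 : t * u * t⁻¹ ∈ V i := (mem_normalizer_iff.1 (D.nV i ht) _).1 huV
        have e5 : (t * u * t⁻¹) * (c * w) = u * (c * w) := by
          calc (t * u * t⁻¹) * (c * w) = c * (u * w) := by rw [← e3, ← e1, e2]
            _ = (c * u) * w := (mul_assoc _ _ _).symm
            _ = (u * c) * w := by rw [hab c (D.ZV i hc) u huV]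
            _ = u * (c * w) := mul_assoc _ _ _
        have e6 := mul_right_cancel e5
        calc t * u = (t * u * t⁻¹) * t := by group
          _ = u * t := by rw [e6]
    · intro a ha
      apply Subtype.ext
      have h := hBsq a (mem_subgroupOf.1 ha)
      rw [pow_two] at h
      exact h
    · exact Plug.sub_o2 (S := centralizer (zc T : Set G)) hfZ hBO
    · refine Plug.sub_o2 (S := HH T V i) (fun c => ?_) hB1
      have h1 : fxr H Y' ⊔ T.subgroupOf H = fxr H Y' :=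
        sup_eq_left.2 fun t ht => hTt t (mem_subgroupOf.1 ht)
      rw [h1, D.mem_HH]
      exact ⟨fun h => ⟨hH c.2, hfY' c h⟩, fun h => hfY c h.2⟩
    · exact fun a _ h => hcM a (hcN a h)
    · by_contra hc
      push Not at hc
      exact hm fun b hb => hcN ⟨b, hBH hb⟩ fun c z _ => hc _ (mem_subgroupOf.2 hb) _
    · intro A' hA'
      have h1 : A'.map H.subtype ≤ B := by
        rintro _ ⟨a, ha, rfl⟩
        exact mem_subgroupOf.1 (hA' ha)
      rw [hrel, hcv A' (h1.trans hBC)]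
      exact D.no_t hML hK (h1.trans hBO) fun a ha => hBsq a (h1 ha)
    · have h0 : (B.subgroupOf H).map H.subtype ≤ CC Z i := by rw [eB]; exact hBC
      rw [hrel, hcv _ h0]
      have hXc : NP Z i ≤ centralizer (NP Z i : Set G) := TwoS.comm_of_sq fun x hx => D.X_sq i x (D.NP_le_X i hx)
      have hZB : Z i ≤ centralizer (B : Set G) := comm_symm hBC
      have h2 : (centralizer (B : Set G)).relIndex (NP Z i) ≤ (centralizer (B : Set G)).relIndex (NN Z i) :=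
        relIndex_le_of_sup le_sup_left hXc (sup_le le_sup_left (le_trans (le_inf le_sup_right hZB) le_sup_right))
      have h3 : NP Z i ⊓ centralizer (B : Set G) ≤ D.tN i h0 := by
        rintro x ⟨hx, hx2⟩
        refine ⟨hx, ?_⟩
        rw [eB]
        intro a ha
        rw [mem_centralizer_iff.1 hx2 a ha, mul_inv_cancel_right, mul_inv_cancel]
        exact one_mem _
      calc (D.tN i h0).relIndex (NP Z i) ≤ (NP Z i ⊓ centralizer (B : Set G)).relIndex (NP Z i) := relIndex_anti h3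
        _ = (centralizer (B : Set G)).relIndex (NP Z i) := inf_relIndex_left _ _
        _ ≤ (centralizer (B : Set G)).relIndex (NN Z i) := h2
        _ = _ := by rw [eB]; exact hB2.symm
    · exact kgroup_mono hK hH
  obtain ⟨H', _, _, _, T', A', h⟩ := hP.inp
  exact h.false_of hML hE

/-- `V i ≰ N_i Z_i` -/
theorem no_le (hML : ML.Final.MLK.{u, u}) (hE : ML.Ex.Two.Ext.{u, u}) (D : FrN T V Z) {i : Fin 2} (hK : IsKGroup (CC Z i))
    (hF : ¬ Fail T V Z i) : ¬ V i ≤ NP Z i := fun h =>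
  D.core hML hE hK hF (D.T_le_C i) le_rfl le_rfl fun w hw => ⟨1, one_mem _, fun h _ => by simp, by
    rw [one_mul]
    exact inv_mem (h hw)⟩

/-- **THEOREM G*** -/
theorem g1 (hML : ML.Final.MLK.{u, u}) (hE : ML.Ex.Two.Ext.{u, u}) (D : FrN T V Z) {i : Fin 2} (hK : IsKGroup (CC Z i))
    (hF : ¬ Fail T V Z i) {A : Subgroup G} (hA : A ≤ CC Z i) (hA2 : IsPGroup 2 A)
    (hx : ∀ x ∈ XX V Z i, ∀ a ∈ A, a * x * a⁻¹ * x⁻¹ ∈ NP Z i) : A ≤ centralizer (NN Z i : Set G) := by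
  by_contra hm
  have h0 : NN Z i ≤ NH Z i (D.KX i) :=
    D.lem0 (D.KX_le i) (D.norm_KX i) (fun a ha => ⟨hA ha, fun x hx' => hx x hx' a ha⟩) hA2 hm
  have hKT : D.KX i ⊔ T ≤ CC Z i := sup_le (D.KX_le i) (D.T_le_C i)
  have hSH : Syl T (D.KX i ⊔ T) :=
    ⟨le_sup_right, D.T_isPGroup, fun R hR hR2 hTR => (D.syl i).2.2 R (hR.trans hKT) hR2 hTR⟩
  have hVX : V i ≤ XX V Z i := (le_V _ _).trans le_sup_left
  have hXC := D.X_le_C i
  refine D.core hML hE hK hF le_sup_right hKT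
    (h0.trans (V_le_of (le_V _ _) (le_sup_left.trans (le_normalizer_V _ _)))) fun w hw => ?_
  refine exists_fix_group (C := D.KX i ⊔ T) (hKT.trans (D.C_norm_X i)) (hKT.trans (D.C_norm_Z i))
    (hXC.trans (D.C_norm_Z i)) (fun x hx' => ?_) le_sup_right (syl_not_dvd hSH) (hVX hw) (D.com i w hw) ?_
  · have h1 := D.X_sq i x hx'
    rw [pow_two] at h1
    rw [h1]
    exact one_mem _
  · intro c hc
    obtain ⟨k, hk, t, ht, rfl⟩ := exists_mul_of_mem_sup ((D.T_le_C i).trans (D.norm_KX i)) hc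
    have e : k * t * w * (k * t)⁻¹ * w⁻¹ = (k * (t * w * t⁻¹ * w⁻¹) * k⁻¹) * (k * w * k⁻¹ * w⁻¹) := by group
    rw [e]
    have h1 := D.com i w hw t ht
    rw [D.Z_cent_C i hk.1 h1, mul_inv_cancel_right]
    exact mul_mem (mem_sup_right h1) (hk.2 w (hVX hw))

/-- (G2) -/
theorem g2 (hML : ML.Final.MLK.{u, u}) (hE : ML.Ex.Two.Ext.{u, u}) (D : FrN T V Z) {i : Fin 2} (hK : IsKGroup (CC Z i))
    (hF : ¬ Fail T V Z i) {A : Subgroup G} (hA : Mx (o2 (centralizer (zc T : Set G))) A)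
    (hm : ¬ A ≤ centralizer (NN Z i : Set G)) :
    ¬ A ⊓ centralizer (NN Z i : Set G) ≤ centralizer (XX V Z i : Set G) := by
  intro hc
  apply hm
  obtain ⟨h1, h2, h3, h4⟩ := D.X_facts i
  have hXc : XX V Z i ≤ centralizer (XX V Z i : Set G) := TwoS.comm_of_sq h2
  have h7 : (centralizer (A : Set G)).relIndex (XX V Z i) ≤ (centralizer (A : Set G)).relIndex (NN Z i) := by
    refine (hA.thom (h1.trans (D.Q_le_O i)) h2).trans ?_
    rw [← (D.mx hML hK hA).1]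
    have e1 : (A ⊓ centralizer (NN Z i : Set G)).relIndex A = (centralizer (NN Z i : Set G)).relIndex A :=
      inf_relIndex_left _ _
    rw [← e1]
    exact relIndex_anti hc
  have h8 := sup_of_relIndex_le le_sup_right hXc h7
  have hAC : A ≤ CC Z i := (hA.le.trans D.O_le_T).trans (D.T_le_C i)
  refine D.g1 hML hE hK hF hAC ((o2_isPGroup _).to_le hA.le) fun x hx a ha => mem_sup_left ?_
  obtain ⟨n, hn, y, hy, rfl⟩ := exists_mul_of_mem_sup
    ((inf_le_left.trans (D.X_le_C i)).trans (le_normalizer_V (Z (i + 1)) (CC Z i))) (h8 hx)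
  have h9 : a * y = y * a := mem_centralizer_iff.1 hy.2 a ha
  have h10 : a * n * a⁻¹ ∈ NN Z i := (mem_normalizer_iff.1 (le_normalizer_V (Z (i + 1)) (CC Z i) (hAC ha)) n).1 hn
  have e : a * (n * y) * a⁻¹ * (n * y)⁻¹ = (a * n * a⁻¹) * n⁻¹ := by
    calc a * (n * y) * a⁻¹ * (n * y)⁻¹ = a * n * (y * a⁻¹) * y⁻¹ * n⁻¹ := by group
      _ = a * n * (a⁻¹ * y) * y⁻¹ * n⁻¹ := by
        rw [(show Commute y a⁻¹ from (show Commute y a from h9.symm).inv_right).eq]
      _ = (a * n * a⁻¹) * n⁻¹ := by group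
  rw [e]
  exact mul_mem h10 (inv_mem hn)

/-- **(G3)** -/
theorem g3 (hML : ML.Final.MLK.{u, u}) (hE : ML.Ex.Two.Ext.{u, u}) (D : FrN T V Z) (hK : ∀ i, IsKGroup (CC Z i)) :
    ∀ i, ∃ A : Subgroup G, Mx (o2 (centralizer (zc T : Set G))) A ∧ A ≤ QQ Z i ∧ ¬ A ≤ centralizer (V i : Set G) := by
  intro i
  obtain ⟨hF, -, -⟩ := D.ex_false hML hE hK i
  obtain ⟨-, -, A, hA, hAm⟩ := D.ex_false hML hE hK (i + 1)
  have hm : ¬ A ≤ centralizer (NN Z i : Set G) := fun h => hAm (h.trans (centralizer_le (D.V_le_N i)))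
  have h1 := D.g2 hML hE (hK i) hF hA hm
  obtain ⟨-, h2, h3⟩ := D.mx hML (hK i) hA
  set A' : Subgroup G := A ⊓ centralizer (NN Z i : Set G) ⊔ NN Z i with hA'
  by_contra hc
  push Not at hc
  apply h1
  have h4 : XX V Z i ≤ centralizer (A' : Set G) := by
    refine sup_le (V_le fun c hc' => ?_) (comm_symm (h3.trans (D.Q_le_cent_N i)))
    have e1 : MulAut.conj c⁻¹ • QQ Z i = QQ Z i := conj_eq_of_mem (le_normalizer_o2 _ (inv_mem hc'))
    have h5 : MulAut.conj c⁻¹ • A' ≤ QQ Z i := by rw [← e1]; exact conj_le_iff.2 h3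
    have h6 := comm_symm (hc _ (h2.conj (h5.trans (D.Q_le_O i))) h5)
    have h7 : MulAut.conj c • V i ≤ MulAut.conj c • centralizer ((MulAut.conj c⁻¹ • A' : Subgroup G) : Set G) :=
      conj_le_iff.2 h6
    rwa [conj_cent, conj_conj, mul_inv_cancel, map_one, one_smul] at h7
  exact le_trans (show A ⊓ centralizer (NN Z i : Set G) ≤ A' from le_sup_left) (comm_symm h4)

end FrN

end Cfsg.Agent.Omega.KL.TwoZ
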