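import Cfsg.Agent.Omega.KL.TwoZ.NFFrN
import Cfsg.Agent.Omega.KL.TwoZ.GThree
import Cfsg.Agent.Omega.KL.TwoZ.ThmG

/-!
# (G1) over the contract frame `NF` of TEXT W2 (helper401)

* `FrN.gOne_all` : THEOREM G* as helper812's `GOne`, both `i`; **`NF.g1'`**; `NF.g3'` : (G3); `NF.k3'` : (K3).
-/

set_option autoImplicit false
set_option linter.unusedSectionVars false

namespace Cfsg.Agent.Omega.KL.TwoZ

open Subgroup Cfsg Cfsg.Agent.Omega.MinPar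
open Cfsg.Agent.ZN (o2 zc)
open Cfsg.Agent.Omega.KL.TwoS (Mx)

universe u

variable {G : Type u} [Group G] [Finite G] {T : Subgroup G} {V Z : Fin 2 → Subgroup G}

theorem FrN.gOne_all (hML : ML.Final.MLK.{u, u}) (hE : ML.Ex.Two.Ext.{u, u}) (D : FrN T V Z)
    (hK : ∀ i, IsKGroup (CC Z i)) : ∀ i, GOne V Z i := fun i A hA hA2 h =>
  D.g1 hML hE (hK i) (D.ex_false hML hE hK i).1 hA hA2 fun x hx a ha => h a ha x hx

namespace NF

/-- **(G1)** -/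
theorem g1' (hML : ML.Final.MLK.{u, u}) (hE : ML.Ex.Two.Ext.{u, u}) (D : NF T V Z) (hK : ∀ i, IsKGroup (CC Z i)) :
    ∀ i, GOne V Z i := D.frN.gOne_all hML hE hK

/-- **(G3)** -/
theorem g3' (hML : ML.Final.MLK.{u, u}) (hE : ML.Ex.Two.Ext.{u, u}) (D : NF T V Z) (hK : ∀ i, IsKGroup (CC Z i)) :
    ∀ i, ∃ A : Subgroup G, Mx (o2 (centralizer (zc T : Set G))) A ∧ A ≤ QQ Z i ∧ ¬ A ≤ centralizer (V i : Set G) :=
  D.frN.g3 hML hE hK

/-- **(K3)** -/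
theorem k3' (hML : ML.Final.MLK.{u, u}) (D : NF T V Z) (hK : ∀ i, IsKGroup (CC Z i)) (i : Fin 2) (B : Subgroup G)
    (hB : B ≤ o2 (centralizer (zc T : Set G))) (hB2 : ∀ b ∈ B, b ^ 2 = 1)
    (he : (centralizer (B : Set G)).relIndex (NN Z i) ≤ (centralizer (NN Z i : Set G)).relIndex B) :
    ∀ n ∈ NN Z i, (∀ b ∈ B, b * n * b⁻¹ * n⁻¹ ∈ Z i) → ∀ b ∈ B, b * n = n * b := by
  intro n hn h b hb
  have h1 := D.frN.k3 hML (hK i) hB hB2 he
    (show n ∈ D.frN.tN i ((hB.trans D.O_le_T).trans (D.T_le_C i)) from ⟨mem_sup_left hn, h⟩)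
  exact mem_centralizer_iff.1 h1 b hb

end NF

end Cfsg.Agent.Omega.KL.TwoZ
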