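import Cfsg.Agent.Omega.KL.TwoZ.NF
import Cfsg.Agent.Omega.OM.PT.Base

/-!
# From `NF` to the partner points `OM.PT` (helper918, TEXT W2 #24006)

* `NF.stab` : `g ∈ N(Z i)` : `g = c n`, `c ∈ C(Z i)`, `n ∈ N(T)` fixing all `Z j`, `V j`;
* `NF.o2_nor` : `O₂(N(Z i)) = O₂(C(Z i))`;
* `NF.nn_eq` : `OM.PT.NN Z (Z i) = NN Z i`; `NF.xw_eq` : `OM.PT.XW Z V (Z i) = WW V Z i ⊔ NN Z i`;
* **`NF.pp` : `OM.PT.PP Z V`**.
-/

set_option autoImplicit false
set_option linter.unusedSectionVars false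

namespace Cfsg.Agent.Omega.KL.TwoZ

open Subgroup Cfsg Cfsg.Agent.Omega.MinPar
open Cfsg.Agent.ZN (o2 zc)
open Cfsg.Agent.Omega.OM.KTwo (ne_add_one eq_add_one add_one_add_one le_V)
open Cfsg.Agent.Omega.NoFF.Basic (conj_conj mem_conj conj_le_iff comm_symm comm_mono Z_le_V V_le)
open Cfsg.Agent.Omega.NOThreeL.Pair (conj_eq_of_mem)
open Cfsg.Agent.ZN.ChoiceSit (Syl exists_syl syl_conj o2_le_syl)
open Cfsg.Agent.MinSimple.VModule (le_o2 o2_isPGroup o2_le le_normalizer_o2)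
open Cfsg.Agent.Omega.OM.PG (conj_inv_conj inv_conj_conj)
open scoped Pointwise

universe u

variable {G : Type u} [Group G]

theorem mem_nor_of_conj {g : G} {A : Subgroup G} (h : MulAut.conj g • A = A) : g ∈ normalizer (A : Set G) :=
  Cfsg.Agent.ZN.ChoiceBase.mem_normalizer_iff_cj.2 h

namespace NF

variable [Finite G] {T : Subgroup G} {V Z : Fin 2 → Subgroup G} (D : NF T V Z)

include D

theorem Z_inf (i : Fin 2) : Z i ⊓ Z (i + 1) = ⊥ := by
  rw [eq_bot_iff]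
  rintro x ⟨h1, h2⟩
  exact mem_bot.2 (D.dis i x (D.ZV i h1) h2)

theorem Z_ne (i : Fin 2) : Z i ≠ Z (i + 1) := by
  intro h
  have h1 := D.Z_inf i
  rw [← h, inf_idem] at h1
  exact D.ne i h1

theorem syl_smul {H : Subgroup G} {g : G} (h : MulAut.conj g • T ≤ H) : Syl (MulAut.conj g • T) H := by
  refine ⟨h, ?_, fun R hR hR2 hTR => ?_⟩
  · exact (D.sylG.2.1).map _
  · have h1 : T ≤ MulAut.conj g⁻¹ • R := by
      have h2 := conj_le_iff (g := g⁻¹) |>.2 hTR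
      rwa [inv_conj_conj] at h2
    have h2 := D.sylG.2.2 (MulAut.conj g⁻¹ • R) le_top (hR2.map _) h1
    rw [← h2, conj_inv_conj]

/-- an element which maps `Z i` to `Z j` is in `C(Z j) N(T)` -/
theorem frat {i j : Fin 2} {g : G} (h : MulAut.conj g • Z i = Z j) :
    ∃ c ∈ CC Z j, ∃ n ∈ normalizer (T : Set G), g = c * n ∧ MulAut.conj n • Z i = Z j := by
  have h1 : MulAut.conj g • T ≤ CC Z j := by
    have e : CC Z j = MulAut.conj g • CC Z i := by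
      rw [CC, CC, ← h, NoFF.ThmJFam.conj_cent]
    rw [e]
    exact conj_le_iff.2 (D.T_le_C i)
  obtain ⟨c, hc, hcT⟩ := syl_conj (D.syl_smul h1) (D.syl j)
  refine ⟨c⁻¹, inv_mem hc, c * g, ?_, by group, ?_⟩
  · apply mem_nor_of_conj
    rw [← conj_conj]
    exact hcT
  · rw [← conj_conj, h]
    exact conj_eq_of_mem (centralizer_le_normalizer _ hc)

theorem stab {i : Fin 2} {g : G} (h : MulAut.conj g • Z i = Z i) :
    ∃ c ∈ CC Z i, ∃ n ∈ normalizer (T : Set G), g = c * n ∧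
      ∀ j, MulAut.conj n • Z j = Z j ∧ MulAut.conj n • V j = V j := by
  obtain ⟨c, hc, n, hn, rfl, h1⟩ := D.frat h
  refine ⟨c, hc, n, hn, rfl, ?_⟩
  rcases D.nrm n hn with h2 | h2
  · exact h2
  · exact absurd (h1.symm.trans (h2 i).1) (D.Z_ne i)

theorem swap_of {i : Fin 2} {g : G} (h : MulAut.conj g • Z i = Z (i + 1)) :
    ∃ s : G, ∀ j, MulAut.conj s • Z j = Z (j + 1) ∧ MulAut.conj s • V j = V (j + 1) := by
  obtain ⟨c, hc, n, hn, rfl, h1⟩ := D.frat h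
  rcases D.nrm n hn with h2 | h2
  · exact absurd ((h2 i).1.symm.trans h1) (D.Z_ne i)
  · exact ⟨n, h2⟩

/-- all pairs over the point `Z i` are conjugate under `C(Z i)` -/
theorem pairs {i j : Fin 2} {k : G} (h : Z i = MulAut.conj k • Z j) :
    ∃ c ∈ CC Z i, MulAut.conj k • Z (j + 1) = MulAut.conj c • Z (i + 1) ∧
      MulAut.conj k • V j = MulAut.conj c • V i ∧ MulAut.conj k • V (j + 1) = MulAut.conj c • V (i + 1) := by
  rcases OM.PT.eq_or i j with rfl | rfl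
  · obtain ⟨c, hc, n, hn, rfl, h1⟩ := D.stab h.symm
    refine ⟨c, hc, ?_, ?_, ?_⟩
    · rw [← conj_conj, (h1 _).1]
    · rw [← conj_conj, (h1 _).2]
    · rw [← conj_conj, (h1 _).2]
  · obtain ⟨s, hs⟩ := D.swap_of (i := i + 1) (g := k) (by rw [← h, OM.PT.add2])
    have h1 : MulAut.conj (k * s) • Z i = Z i := by rw [← conj_conj, (hs i).1, ← h]
    obtain ⟨c, hc, n, hn, e, h2⟩ := D.stab h1
    have hk : ∀ A : Subgroup G, MulAut.conj k • (MulAut.conj s • A) = MulAut.conj c • (MulAut.conj n • A) := by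
      intro A
      rw [conj_conj, e, ← conj_conj]
    refine ⟨c, hc, ?_, ?_, ?_⟩
    · rw [← (hs (i + 1)).1, hk, (h2 _).1]
    · rw [← (hs i).2, hk, (h2 _).2]
    · rw [← (hs (i + 1)).2, hk, (h2 _).2]

theorem adj_iff {i : Fin 2} {u : Subgroup G} : OM.PT.Adj Z (Z i) u ↔ ∃ c ∈ CC Z i, u = MulAut.conj c • Z (i + 1) := by
  constructor
  · rintro ⟨j, k, h1, rfl⟩
    obtain ⟨c, hc, h2, -, -⟩ := D.pairs h1
    exact ⟨c, hc, h2⟩
  · rintro ⟨c, hc, rfl⟩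
    exact ⟨i, c, (conj_eq_of_mem (centralizer_le_normalizer _ hc)).symm, rfl⟩

theorem ln_iff {i : Fin 2} {l : Subgroup G} : OM.PT.LnOn Z V (Z i) l ↔ ∃ c ∈ CC Z i, l = MulAut.conj c • V i := by
  constructor
  · rintro ⟨j, k, h1, rfl⟩
    obtain ⟨c, hc, -, h2, -⟩ := D.pairs h1
    exact ⟨c, hc, h2⟩
  · rintro ⟨c, hc, rfl⟩
    exact ⟨i, c, (conj_eq_of_mem (centralizer_le_normalizer _ hc)).symm, rfl⟩

/-- `N_{Z i} = ⟨Z (i+1) ^ C(Z i)⟩` -/
theorem nn_eq (i : Fin 2) : OM.PT.NN Z (Z i) = NN Z i := by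
  apply le_antisymm
  · refine sSup_le fun u hu => ?_
    obtain ⟨c, hc, rfl⟩ := D.adj_iff.1 hu
    exact Z_le_V hc
  · exact V_le fun c hc => OM.PT.Adj.le_NN (D.adj_iff.2 ⟨c, hc, rfl⟩)

/-- `X_{Z i} = W_i N_i` -/
theorem xw_eq (i : Fin 2) : OM.PT.XW Z V (Z i) = WW V Z i ⊔ NN Z i := by
  rw [OM.PT.XW, D.nn_eq, sup_comm]
  congr 1
  apply le_antisymm
  · refine iSup_le ?_
    rintro ⟨l, hl⟩
    obtain ⟨c, hc, rfl⟩ := D.ln_iff.1 hl
    exact Z_le_V hc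
  · exact V_le fun c hc => le_iSup (fun l : {l : Subgroup G // OM.PT.LnOn Z V (Z i) l} => (l : Subgroup G))
      ⟨_, D.ln_iff.2 ⟨c, hc, rfl⟩⟩

theorem o2_nor (i : Fin 2) : OM.PG.QQ (Z i) = QQ Z i := by
  apply le_antisymm
  · have h1 : OM.PG.QQ (Z i) ≤ T := o2_le_syl (D.sylH ((D.T_le_C i).trans (centralizer_le_normalizer _)))
    exact le_o2 (h1.trans (D.T_le_C i)) (o2_isPGroup _)
      ((centralizer_le_normalizer _).trans (le_normalizer_o2 _))
  · refine le_o2 ((o2_le _).trans (centralizer_le_normalizer _)) (o2_isPGroup _) ?_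
    exact fun g hg => norm_o2_of (TC.LemZ.norm_cent (A := normalizer (Z i : Set G)) le_rfl hg)

/-- **the partner points** -/
theorem pp : OM.PT.PP Z V where
  fus _ _ h := D.swap_of h
  ZU := D.ZV
  UN i := by
    rw [D.nn_eq]
    have h1 := D.VN (i + 1)
    rw [add_one_add_one] at h1
    have h2 : NN Z (i + 1) = NoFF.Basic.V (Z (i + 1 + 1)) (centralizer (Z (i + 1) : Set G)) := rfl
    rw [h2, add_one_add_one]
    exact h1
  sq := D.Z_sq
  ne := D.ne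
  N_le_Q i := by
    rw [D.nn_eq, D.o2_nor]
    exact D.N_le_Q i
  Q_le_cent i := by
    rw [D.nn_eq, D.o2_nor]
    exact D.Q_le_cent_N i
  UQ i x hx y hy := by
    rw [D.o2_nor] at hy
    have h1 := inv_mem (D.com i y (D.Q_le_T i hy) x hx)
    have e : (y * x * y⁻¹ * x⁻¹)⁻¹ = x * y * x⁻¹ * y⁻¹ := by group
    rwa [e] at h1
  nonLoc := D.nonloc.mono (centralizer_le_normalizer _) (centralizer_le_normalizer _)

end NF

end Cfsg.Agent.Omega.KL.TwoZ
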