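import Cfsg.Agent.Omega.KL.TwoZ.NF
import Cfsg.Agent.Omega.OM.PT.PTW

/-!
# TEXT W2: the fields of `PTW` about `V i` from the frame `NF`

* `NF.exists_tor` : the torus: `h ∈ R`, `h` of odd order, `h ∈ C(V (i+1))`, `h` acts as `(x, y) ↦ (a x, a⁻¹ y)`;
* `NF.torZ`, `NF.torU`; `NF.T_le_HH`, `NF.QQ_le_T`, `NF.cen`, `NF.bfix`.
-/

set_option autoImplicit false
set_option linter.unusedSectionVars false

namespace Cfsg.Agent.Omega.KL.TwoZ

open Subgroup Cfsg Cfsg.Agent.Omega.MinPar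
open Cfsg.Agent.ZN (o2 zc)
open Cfsg.Agent.Omega.OM.KTwo (ne_add_one eq_add_one add_one_add_one)
open Cfsg.Agent.MinSimple.MinParabolic (IsMinPar)
open Cfsg.Agent.Omega.NoFF.Basic (conj_conj mem_conj conj_le_iff)
open Cfsg.Agent.Omega.NOThreeL.Pair (conj_eq_of_mem)
open Cfsg.Agent.ZN.ChoiceSit (Syl exists_syl syl_conj o2_le_syl)
open scoped Pointwise Matrix

universe u

variable {G : Type u} [Group G]

namespace NF

variable [Finite G] {T : Subgroup G} {V Z : Fin 2 → Subgroup G} (D : NF T V Z)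

include D

/-- an element which acts diagonally normalises `Z i` -/
theorem norm_Z_of {i : Fin 2} {F : Type} [Field F] {e : (Fin 2 → F) → G} (hN : NatSL F e (V i) (Z i)) {a b : F}
    {h : G} (hh : ∀ v, h * e v * h⁻¹ = e ![a * v 0, b * v 1]) : h ∈ normalizer (Z i : Set G) := by
  have key : MulAut.conj h • Z i ≤ Z i := by
    rintro _ ⟨x, hx, rfl⟩
    obtain ⟨c, rfl⟩ := (hN.pt x).1 hx
    change h * e ![c, 0] * h⁻¹ ∈ Z i
    rw [hh, hN.mem_Z]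
    simp
  refine ZN.ChoiceBase.mem_normalizer_iff_cj.2 ?_
  exact Subgroup.eq_of_le_of_card_ge key (ZN.ChoiceBase.card_cj h (Z i)).ge

/-- **the torus of `L_i`** -/
theorem exists_tor {i : Fin 2} {F : Type} [Field F] {e : (Fin 2 → F) → G} (hN : NatSL F e (V i) (Z i))
    (hR : ∀ j, j ≠ i → ∀ R : Subgroup G, IsMinPar T R → R ≤ centralizer (Z j : Set G) →
      ¬ R ≤ centralizer (Z i : Set G) → ActSL F e R) {a : F} (ha : a ≠ 0) :
    ∃ h : G, Odd (orderOf h) ∧ h ∈ centralizer (V (i + 1) : Set G) ∧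
      (∃ R : Subgroup G, IsMinPar T R ∧ R ≤ CC Z (i + 1) ∧ ¬ R ≤ CC Z i ∧ h ∈ R) ∧
      ∀ v, h * e v * h⁻¹ = e ![a * v 0, a⁻¹ * v 1] := by
  obtain ⟨j, hj, R, h1, h2, h3⟩ := D.exists_par i
  have hj' : j = i + 1 := eq_add_one hj.symm
  subst hj'
  obtain ⟨r, hr, hrM⟩ := (hR _ hj R h1 h2 h3).2 (tor a ha)
  simp only [tor_mulVec] at hrM
  -- powers of `r`
  have hpow : ∀ n : ℕ, ∀ v, r ^ n * e v * (r ^ n)⁻¹ = e ![a ^ n * v 0, (a⁻¹) ^ n * v 1] := by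
    intro n
    induction n with
    | zero =>
      intro v
      simp only [pow_zero, one_mul, inv_one, mul_one]
      congr 1
      ext j
      fin_cases j <;> rfl
    | succ n ih =>
      intro v
      have e1 : r ^ (n + 1) * e v * (r ^ (n + 1))⁻¹ = r * (r ^ n * e v * (r ^ n)⁻¹) * r⁻¹ := by
        rw [pow_succ']; group
      rw [e1, ih, hrM]
      congr 1
      ext j
      fin_cases j
      · simp; ring
      · simp; ring
  obtain ⟨k, m, hm, hkm⟩ := Nat.exists_eq_two_pow_mul_odd (n := orderOf r) (orderOf_pos r).ne'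
  -- `a ^ (2 ^ k * m) = 1`, `F` has characteristic two: `a ^ m = 1`
  have htwo : (2 : F) = 0 := hN.two_eq (D.sqV i)
  have hch : ExpChar F 2 := by
    have : CharP F 2 := CharTwo.of_one_ne_zero_of_two_eq_zero one_ne_zero htwo
    exact ExpChar.prime Nat.prime_two
  have ha1 : a ^ orderOf r = 1 := by
    have h4 := hpow (orderOf r) ![1, 0]
    rw [pow_orderOf_eq_one, one_mul, inv_one, mul_one] at h4
    have h5 := congrFun (hN.inj h4) 0
    simpa using h5.symm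
  have ham : a ^ m = 1 := by
    have h4 : (a ^ m) ^ 2 ^ k = 1 := by rw [← pow_mul, mul_comm, ← hkm, ha1]
    have h5 : (a ^ m - 1) ^ 2 ^ k = 0 := by
      have := sub_pow_expChar_pow (x := a ^ m) (y := 1) (p := 2) (n := k)
      rw [this, h4, one_pow, sub_self]
    exact sub_eq_zero.1 (pow_eq_zero_iff (pow_ne_zero _ two_ne_zero) |>.1 h5)
  -- `h = r ^ n`, `n ≡ 1` mod `m`, `n ≡ 0` mod `2 ^ k`
  have hcop : Nat.Coprime (2 ^ k) m := Nat.Coprime.pow_left k (Nat.coprime_two_left.2 hm)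
  obtain ⟨n, hn0, hn1⟩ := Nat.chineseRemainder hcop 0 1
  have hn2 : 2 ^ k ∣ n := (Nat.modEq_zero_iff_dvd).1 hn0
  have hord : orderOf a ∣ m := orderOf_dvd_of_pow_eq_one ham
  have han : a ^ n = a := by
    have h4 : n % orderOf a = 1 % orderOf a := hn1.of_dvd hord
    rw [← pow_mod_orderOf a n, h4, pow_mod_orderOf, pow_one]
  have hodd : Odd (orderOf (r ^ n)) := by
    have h4 : (r ^ n) ^ m = 1 := by
      obtain ⟨l, hl⟩ := hn2
      have e1 : n * m = orderOf r * l := by rw [hl, hkm]; ring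
      rw [← pow_mul, e1, pow_mul, pow_orderOf_eq_one, one_pow]
    exact hm.of_dvd_nat (orderOf_dvd_of_pow_eq_one h4)
  refine ⟨r ^ n, ?_, ?_, ⟨R, h1, h2, h3, pow_mem hr n⟩, fun v => ?_⟩
  · exact hodd
  · exact D.odd i (i + 1) (ne_add_one i) R h1 h2 h3 _ (pow_mem hr n) hodd
  · rw [hpow, han, inv_pow, han]

/-- the torus on `Z i` -/
theorem torZ (i : Fin 2) : ∀ x ∈ Z i, x ≠ 1 → ∀ y ∈ Z i, y ≠ 1 → ∃ h : G, h ∈ centralizer (V (i + 1) : Set G) ∧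
    MulAut.conj h • Z i = Z i ∧ MulAut.conj h • V i = V i ∧ h * x * h⁻¹ = y := by
  obtain ⟨F, iF, iF', e, hN, -, -, hR⟩ := D.exists_crd i
  intro x hx hx1 y hy hy1
  obtain ⟨a, rfl⟩ := (hN.pt x).1 hx
  obtain ⟨b, rfl⟩ := (hN.pt y).1 hy
  have ha : a ≠ 0 := by
    rintro rfl
    apply hx1
    rw [hN.eq_one]
    ext j
    fin_cases j <;> rfl
  have hb : b ≠ 0 := by
    rintro rfl
    apply hy1
    rw [hN.eq_one]
    ext j
    fin_cases j <;> rfl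
  obtain ⟨h, -, hc, ⟨R, h1, h2, h3, hhR⟩, hh⟩ := D.exists_tor hN hR (div_ne_zero hb ha)
  refine ⟨h, hc, ?_, conj_eq_of_mem (D.uni i (i + 1) (ne_add_one i) R h1 h2 h3 i hhR), ?_⟩
  · refine conj_eq_of_mem (D.norm_Z_of hN hh)
  · rw [hh]
    congr 1
    ext j
    fin_cases j
    · simp [div_mul_cancel₀ _ ha]
    · simp

/-- the torus on `V i / Z i` -/
theorem torU (i : Fin 2) : ∀ x ∈ V i, x ∉ Z i → ∀ y ∈ V i, y ∉ Z i → ∃ h : G, h ∈ centralizer (V (i + 1) : Set G) ∧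
    MulAut.conj h • Z i = Z i ∧ MulAut.conj h • V i = V i ∧ y⁻¹ * (h * x * h⁻¹) ∈ Z i := by
  obtain ⟨F, iF, iF', e, hN, -, -, hR⟩ := D.exists_crd i
  intro x hx hxZ y hy hyZ
  obtain ⟨v, rfl⟩ := (hN.mem x).1 hx
  obtain ⟨w, rfl⟩ := (hN.mem y).1 hy
  rw [hN.mem_Z] at hxZ hyZ
  obtain ⟨h, -, hc, ⟨R, h1, h2, h3, hhR⟩, hh⟩ := D.exists_tor hN hR (div_ne_zero hxZ hyZ)
  refine ⟨h, hc, conj_eq_of_mem (D.norm_Z_of hN hh),
    conj_eq_of_mem (D.uni i (i + 1) (ne_add_one i) R h1 h2 h3 i hhR), ?_⟩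
  rw [hh, ← hN.map_neg, ← hN.add, hN.mem_Z]
  simp only [Pi.add_apply, Pi.neg_apply, Matrix.cons_val_one, inv_div]
  rw [div_mul_cancel₀ _ hxZ]
  exact neg_add_cancel _

theorem T_le_HH (i : Fin 2) : T ≤ OM.PG.HH (Z i) := (D.T_le_C i).trans (centralizer_le_normalizer _)

theorem QQ_le_T (i : Fin 2) : OM.PG.QQ (Z i) ≤ T := o2_le_syl (D.sylH (D.T_le_HH i))

theorem not_VZ (i : Fin 2) : ¬ V i ≤ Z i := by
  intro h1
  have h2 := Subgroup.card_le_of_le h1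
  rw [D.card i] at h2
  have h3 : 1 < Nat.card (Z i) := by
    have h4 : Nat.card (Z i) ≠ 1 := fun e => D.ne i (Subgroup.card_eq_one.1 e)
    have h5 : 0 < Nat.card (Z i) := Nat.card_pos
    omega
  have h6 : Nat.card (Z i) * 1 < Nat.card (Z i) * Nat.card (Z i) := Nat.mul_lt_mul_of_pos_left h3 (by omega)
  omega

theorem cen (i : Fin 2) : OM.PG.QQ (Z i) ≤ centralizer (Z i : Set G) := (D.QQ_le_T i).trans (D.T_le_C i)

/-- `Ω₁Z(T) = Z 0 Z 1` -/
theorem bfix (P : OM.PT.PP Z V) (i : Fin 2) : ∀ n ∈ OM.PT.NN Z (Z i), (∀ b ∈ T, b * n * b⁻¹ = n) → n ∈ Z 0 ⊔ Z 1 := by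
  intro n hn hfix
  rw [← D.zT]
  refine MinSimple.VModule.mem_zc.2 ⟨D.QQ_le_T i (P.N_le_Q i hn), fun b hb => ?_,
    (NO3S.EThree.ExactA.eab_iff.1 (P.NN_eab (OM.PT.isPt Z i))).2 n hn⟩
  exact mul_inv_eq_iff_eq_mul.1 (hfix b hb)

end NF

end Cfsg.Agent.Omega.KL.TwoZ
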