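import Cfsg.Agent.Omega.KL.TwoZ.Burn
import Cfsg.Agent.Omega.KL.TwoZ.Ex
import Cfsg.Agent.Omega.OM.PT.Exact

/-!
# `TwoZ.Fr` gives partner points and lines (`OM/PT`) with points `Z i`, lines `V i` (helper918, TEXT W2 #24006)

* `BF T V Z` : 391's `Fr`, `T` Sylow in `G`, `C_G(m) ≤ N_G(Z i)` (`m ∈ Z i#`), `N_G(T)` permutes the pairs `(Z i, V i)`,
  `[V i, T] ≤ Z i`;
* `BF.bt`, `BF.tra`; `nn_eq`, `xw_eq`, `qq_eq` : `PT.NN = TwoZ.NN`, `PT.XW = W_i N_i`, `O₂(N_G(Z i)) = O₂(C_i)`;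
* `BF.pp : PP Z V`; `BF.ti : TIp Z`; `BF.fus2 : Fus2 Z`; `BF.nop : NoP Z`; `BF.xw_eab`, `BF.xw_le`; `BF.thmC2` (from (G1));
* `BF.l0` : LEMMA 0 for neighbours; `BF.stab`.
-/

set_option autoImplicit false
set_option linter.unusedSectionVars false

namespace Cfsg.Agent.Omega.KL.TwoZ

open Subgroup Cfsg Cfsg.Agent.Omega.MinPar
open Cfsg.Agent.ZN (o2 zc)
open Cfsg.Agent.Omega.OM.KTwo (ne_add_one eq_add_one add_one_add_one le_normalizer_V le_V exists_mul_of_mem_sup)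
open Cfsg.Agent.Omega.NoFF.Basic (conj_conj mem_conj conj_le_iff comm_symm comm_mono Z_le_V V_le conj_le_centralizer)
open Cfsg.Agent.Omega.NOThreeL.Pair (conj_eq_of_mem)
open Cfsg.Agent.ZN.ChoiceSit (Syl exists_syl syl_conj o2_le_syl)
open Cfsg.Agent.MinSimple.VModule (mem_zc zc_le le_o2 o2_isPGroup o2_le le_normalizer_o2)
open Cfsg.Agent.Omega.TC.LemZ (norm_cent)
open Cfsg.Agent.Omega.NO3S.EThree.ExactA (eab_iff eab_sup eab_mono)
open Cfsg.Agent.Omega.OM.PT (PP TIp NoP Fus2 ThmC2 XW Adj IsPt NN_conj XW_conj)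
open Cfsg.Agent.Omega.OM.PG.Peel (Nob)
open Burn
open scoped Pointwise

universe u

variable {G : Type u} [Group G]

/-- the frame with the data for Burnside's lemma -/
structure BF [Finite G] (T : Subgroup G) (V Z : Fin 2 → Subgroup G) : Prop extends Fr T V Z where
  sylG : Syl T ⊤
  ctr : ∀ i, ∀ m ∈ Z i, m ≠ 1 → centralizer ({m} : Set G) ≤ normalizer (Z i : Set G)
  nrm : ∀ n ∈ normalizer (T : Set G), (∀ i, MulAut.conj n • Z i = Z i ∧ MulAut.conj n • V i = V i) ∨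
    (∀ i, MulAut.conj n • Z i = Z (i + 1) ∧ MulAut.conj n • V i = V (i + 1))
  com : ∀ i, ∀ x ∈ V i, ∀ t ∈ T, x * t * x⁻¹ * t⁻¹ ∈ Z i

/-- `(NO)` is invariant under conjugation -/
theorem Burn.nob_cj {N B : Subgroup G} (g : G) (h : Nob (MulAut.conj g • N) (MulAut.conj g • B)) : Nob N B := by
  have e : ∀ A : Subgroup G, centralizer ((MulAut.conj g • A : Subgroup G) : Set G) = MulAut.conj g • centralizer (A : Set G) :=
    fun A => (NoFF.ThmJFam.conj_cent g A).symm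
  unfold Nob at *
  rwa [e, e, relIndex_pointwise_smul, relIndex_pointwise_smul] at h

namespace BF

variable [Finite G] {T : Subgroup G} {V Z : Fin 2 → Subgroup G} (D : BF T V Z)

include D

theorem bt : BT T Z Z V where
  syl := D.sylG
  zS := D.Z_le_zc
  zl := fun _ => le_rfl
  ne := D.ne
  com := (D.Z_cent_T 0).trans (centralizer_le (D.Z_le_T 1))
  dis := (eq_bot_iff_forall _).2 fun x hx => D.dis 0 x (D.ZV 0 hx.1) hx.2
  rep := fun i a ha => ⟨1, one_mem _, one_mem _, by simpa using ha⟩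
  nS := fun n hn => (D.nrm n hn).imp (fun h j => ⟨(h j).1, h j⟩) (fun h j => ⟨(h j).1, h j⟩)
  ctr := D.ctr

theorem tra : Tra Z V (CC Z) :=
  D.bt.tra D.T_le_C (fun _ => centralizer_le_normalizer _) fun i =>
    norm_cent (A := normalizer (Z i : Set G)) (N := Z i) le_rfl

/-- **(0.1)** -/
theorem ti : TIp Z := D.bt.ti

/-- `N_G(Z i) = C_i (N_G(T) ∩ N_G(Z 0) ∩ N_G(Z 1) ∩ N_G(V 0) ∩ N_G(V 1))` -/
theorem norm {i : Fin 2} {g : G} (hg : g ∈ normalizer (Z i : Set G)) :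
    ∃ c ∈ CC Z i, ∃ n ∈ normalizer (T : Set G), (∀ j, n ∈ normalizer (Z j : Set G) ∧ n ∈ normalizer (V j : Set G)) ∧
      g = c * n := by
  obtain ⟨x, hx, hn⟩ := frattini D.sylG (D.T_le_C i)
    (norm_cent (A := normalizer (Z i : Set G)) (N := Z i) le_rfl hg)
  have h1 := D.bt.fx_of hn (mul_mem (inv_mem (centralizer_le_normalizer (Z i : Set G) hx)) hg)
  exact ⟨x, hx, _, hn, fun j => ⟨mem_norm_of_conj (h1 j).1, mem_norm_of_conj (h1 j).2.2⟩, by group⟩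

theorem adj_iff {i : Fin 2} {u : Subgroup G} : Adj Z (Z i) u ↔ ∃ c ∈ CC Z i, u = MulAut.conj c • Z (i + 1) :=
  D.bt.adj_iff D.tra

theorem lnOn_iff {i : Fin 2} {m : Subgroup G} : OM.PT.LnOn Z V (Z i) m ↔ ∃ c ∈ CC Z i, m = MulAut.conj c • V i :=
  D.bt.lnOn_iff D.tra

theorem nn_eq (i : Fin 2) : OM.PT.NN Z (Z i) = NN Z i := D.bt.nn_eq D.tra i

theorem xw_eq (i : Fin 2) : XW Z V (Z i) = WW V Z i ⊔ NN Z i := by
  rw [D.bt.xw_eq D.tra i, sup_comm]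

theorem T_syl (i : Fin 2) : Syl T (normalizer (Z i : Set G)) :=
  ⟨(D.T_le_C i).trans (centralizer_le_normalizer _), D.sylG.2.1, fun R _ hR2 hTR => D.sylG.2.2 R le_top hR2 hTR⟩

/-- `O₂(N_G(Z i)) = O₂(C_i)` -/
theorem qq_eq (i : Fin 2) : OM.PG.QQ (Z i) = QQ Z i := by
  apply le_antisymm
  · exact le_o2 ((o2_le_syl (D.T_syl i)).trans (D.T_le_C i)) (o2_isPGroup _)
      ((centralizer_le_normalizer _).trans (le_normalizer_o2 _))
  · refine le_o2 ((o2_le _).trans (centralizer_le_normalizer _)) (o2_isPGroup _) fun g hg => ?_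
    exact norm_o2_of (norm_cent (A := normalizer (Z i : Set G)) (N := Z i) le_rfl hg)

/-- **`PP Z V`** -/
theorem pp : PP Z V where
  fus := fun i k h => by
    obtain ⟨s, -, hs⟩ := D.bt.fus i k h
    exact ⟨s, fun j => ⟨(hs j).1, (hs j).2.2⟩⟩
  ZU := D.ZV
  UN := fun i => by
    rw [D.nn_eq (i + 1)]
    have h := D.V_le_N (i + 1)
    rwa [OM.PT.add2] at h
  sq := D.Z_sq
  ne := D.ne
  N_le_Q := fun i => by
    rw [D.nn_eq i, D.qq_eq i]
    exact D.N_le_Q i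
  Q_le_cent := fun i => by
    rw [D.nn_eq i, D.qq_eq i]
    exact D.Q_le_cent_N i
  UQ := fun i x hx y hy => by
    rw [D.qq_eq i] at hy
    exact D.com i x hx y (D.Q_le_T i hy)
  nonLoc := fun R hR h1 h2 =>
    D.nonloc R hR ((centralizer_le_normalizer _).trans h1) ((centralizer_le_normalizer _).trans h2)

/-- **(0.2)** -/
theorem fus2 : Fus2 Z := by
  intro a ha x hx hx'
  by_cases hx1 : x = 1
  · left
    rw [hx1]
    exact one_mem _
  · rcases D.bt.fusP a ha x hx hx' hx1 with rfl | rfl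
    · exact Or.inl hx
    · exact Or.inr hx

/-- (0.2), the form of `PcQ` -/
theorem fusP : ∀ a : Subgroup G, IsPt Z a → ∀ x ∈ a, x ∈ Z 0 ⊔ Z 1 → x ≠ 1 → a = Z 0 ∨ a = Z 1 := D.bt.fusP

/-- (0.2) for elements -/
theorem zero_two {i j : Fin 2} {a b g : G} (ha : a ∈ Z i) (hb : b ∈ Z (i + 1)) (hg : g * (a * b) * g⁻¹ ∈ Z j) :
    a = 1 ∨ b = 1 := D.bt.zero_two ha hb hg

theorem xw_eab (i : Fin 2) : IsElementaryAbelian 2 (XW Z V (Z i)) := by
  rw [D.xw_eq i, eab_iff]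
  have h := (D.X_facts i).2.1
  exact ⟨KL.TwoS.comm_of_sq h, h⟩

theorem xw_le (i : Fin 2) : XW Z V (Z i) ≤ OM.PG.QQ (Z i) := by
  rw [D.xw_eq i, D.qq_eq i]
  exact (D.X_facts i).1

/-- **(NO)** -/
theorem nop (hML : ML.Final.MLK.{u, u}) (hK : ∀ i, IsKGroup (CC Z i)) : NoP Z := by
  rintro _ _ ⟨i, k, rfl, rfl⟩ B hB hBQ
  refine nob_cj k⁻¹ ?_
  rw [← NN_conj, conj_conj, inv_mul_cancel, map_one, one_smul]
  have h1 : MulAut.conj k⁻¹ • B ≤ QQ Z i := by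
    rw [← D.qq_eq i]
    have h2 := conj_le_iff (g := k⁻¹) |>.2 hBQ
    rwa [← OM.PG.QQ_conj, conj_conj, inv_mul_cancel, map_one, one_smul] at h2
  rw [D.nn_eq (i + 1)]
  exact D.no_N hML (hK (i + 1)) (h1.trans (D.Q_le_O i)) (sq_conj (eab_iff.1 hB).2)

/-- `ThmC2` from (G1), in the weak form `[X_i, A] ≤ N_i` -/
theorem thmC2 (hG : ∀ i, ∀ A : Subgroup G, A ≤ CC Z i → IsPGroup 2 A →
    (∀ a ∈ A, ∀ x ∈ WW V Z i ⊔ NN Z i, a * x * a⁻¹ * x⁻¹ ∈ NN Z i ⊔ Z i) → A ≤ centralizer (NN Z i : Set G)) :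
    ThmC2 Z (XW Z V) := by
  rintro _ ⟨i, k, rfl⟩ B hB hBc hcom
  have h1 : MulAut.conj k⁻¹ • B ≤ CC Z i := by
    have h2 := conj_le_centralizer (g := k⁻¹) hBc
    rwa [conj_conj, inv_mul_cancel, map_one, one_smul] at h2
  have h3 := hG i (MulAut.conj k⁻¹ • B) h1 (hB.of_equiv (Subgroup.equivSMul (MulAut.conj k⁻¹) B)) ?_
  · have h4 := conj_le_centralizer (g := k) h3
    rwa [conj_conj, mul_inv_cancel, map_one, one_smul, ← D.nn_eq i, ← NN_conj] at h4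
  · intro a ha x hx
    rw [mem_conj, inv_inv] at ha
    rw [← D.xw_eq i] at hx
    have hx' : k * x * k⁻¹ ∈ XW Z V (MulAut.conj k • Z i) := by
      rw [XW_conj]
      exact mem_cj hx
    have h5 := hcom _ hx' _ ha
    rw [NN_conj, D.nn_eq i, mem_conj] at h5
    have e : k⁻¹ * (k * x * k⁻¹ * (k * a * k⁻¹) * (k * x * k⁻¹)⁻¹ * (k * a * k⁻¹)⁻¹) * k = (a * x * a⁻¹ * x⁻¹)⁻¹ := by
      group
    rw [e] at h5
    have h6 := inv_mem h5
    rw [inv_inv] at h6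
    exact mem_sup_left h6

/-- LEMMA 0 for the neighbours -/
theorem l0 {i : Fin 2} {K : Subgroup G} (h : CC Z i ≤ K ⊔ (CC Z i ⊓ normalizer (Z (i + 1) : Set G)))
    (hn : CC Z i ≤ normalizer (K : Set G)) {u u' : Subgroup G} (hu : Adj Z (Z i) u) (hu' : Adj Z (Z i) u') :
    ∃ x ∈ K, MulAut.conj x • u = u' := by
  have key : ∀ u, Adj Z (Z i) u → ∃ x ∈ K, u = MulAut.conj x • Z (i + 1) := by
    intro u hu
    obtain ⟨c, hc, rfl⟩ := D.adj_iff.1 hu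
    have h1 : CC Z i ⊓ normalizer (Z (i + 1) : Set G) ≤ normalizer (K : Set G) := inf_le_left.trans hn
    obtain ⟨x, hx, d, hd, rfl⟩ := exists_mul_of_mem_sup h1 (h hc)
    refine ⟨x, hx, ?_⟩
    rw [← conj_conj x d, conj_eq_of_mem hd.2]
  obtain ⟨x, hx, rfl⟩ := key u hu
  obtain ⟨y, hy, rfl⟩ := key u' hu'
  refine ⟨y * x⁻¹, mul_mem hy (inv_mem hx), ?_⟩
  rw [conj_conj, inv_mul_cancel_right]

end BF

end Cfsg.Agent.Omega.KL.TwoZ
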