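import Cfsg.Agent.Omega.KL.TwoZ.PTI
import Cfsg.Agent.Omega.KL.TwoZ.NF

/-!
# The frame `NF` of TEXT W2 gives all the inputs of `OM/PT` (points `Z i`, lines `V i`)

* `NF.bf : BF T V Z`; `NF.tr : Tr Z V`; `NF.pts : Pts Z V`; `NF.rtU : RtU Z V`; `NF.eabV`;
* `NF.false_of_pt` : TEXT W2 (8) over the frame: (G1), (4), (7) give a contradiction.
-/

set_option autoImplicit false
set_option linter.unusedSectionVars false

namespace Cfsg.Agent.Omega.KL.TwoZ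

open Subgroup Cfsg Cfsg.Agent.Omega.MinPar
open Cfsg.Agent.ZN (o2 zc)
open Cfsg.Agent.Omega.NoFF.Basic (conj_conj mem_conj conj_le_iff comm_symm comm_mono Z_le_V V_le conj_le_centralizer)
open Cfsg.Agent.Omega.NOThreeL.Pair (conj_eq_of_mem)
open Cfsg.Agent.Omega.NO3S.EThree.ExactA (eab_iff)
open Cfsg.Agent.Omega.OM.PT (Tr Pts RtU XW)
open Burn
open scoped Pointwise

universe u

variable {G : Type u} [Group G]

namespace NF

variable [Finite G] {T : Subgroup G} {V Z : Fin 2 → Subgroup G} (D : NF T V Z)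

include D

theorem bf : BF T V Z where
  toFr := D.toFr
  sylG := D.sylG
  ctr := D.ctr
  nrm := D.nrm
  com := fun i x hx t ht => by
    have h1 := inv_mem (D.com i t ht x hx)
    have e : (t * x * t⁻¹ * x⁻¹)⁻¹ = x * t * x⁻¹ * t⁻¹ := by group
    rwa [e] at h1

theorem exists_ne (i : Fin 2) : ∃ m ∈ Z i, m ≠ 1 := D.bf.bt.exists_ne i

/-- `v ∈ V i#` is conjugate into `Z i` under an element of `C_G(Z (i+1))` normalising `V i` -/
theorem exists_r {i : Fin 2} {v : G} (hv : v ∈ V i) (hv1 : v ≠ 1) :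
    ∃ r ∈ CC Z (i + 1), r ∈ normalizer (V i : Set G) ∧ r * v * r⁻¹ ∈ Z i := by
  obtain ⟨j, hij, R, hR, hRj, hRi⟩ := D.exists_par i
  obtain ⟨r, hr, h⟩ := D.tra hij hR hRj hRi v hv hv1
  have hj : j = i + 1 := (OM.PT.eq_or i j).resolve_left hij
  subst hj
  exact ⟨r, hRj hr, D.uni i (i + 1) hij.symm R hR hRj hRi i hr, h⟩

theorem tr : Tr Z V := by
  intro i k hk
  obtain ⟨m, hm, hm1⟩ := D.exists_ne i
  have h1 : k * m * k⁻¹ ∈ V i := hk (mem_cj hm)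
  have h2 : k * m * k⁻¹ ≠ 1 := by
    intro e
    apply hm1
    calc m = k⁻¹ * (k * m * k⁻¹) * k := by group
      _ = 1 := by rw [e]; group
  obtain ⟨r, hr, -, h3⟩ := D.exists_r h1 h2
  have h4 : (r * k) * m * (r * k)⁻¹ ∈ Z i := by
    have e : (r * k) * m * (r * k)⁻¹ = r * (k * m * k⁻¹) * r⁻¹ := by group
    rwa [e]
  have h5 := (D.bf.bt.fuse hm hm1 h4).1
  refine ⟨r⁻¹, ?_, conj_eq_of_mem (centralizer_le_normalizer _ (inv_mem hr))⟩
  rw [← conj_conj] at h5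
  exact inv_cj h5

theorem pts : Pts Z V := by
  intro i x hx hx1
  obtain ⟨r, -, hr, h⟩ := D.exists_r hx hx1
  refine ⟨r⁻¹, ?_, ?_⟩
  · have h1 := conj_le_iff (g := r⁻¹) |>.2 (D.ZV i)
    rwa [conj_eq_of_mem (inv_mem hr)] at h1
  · rw [mem_conj, inv_inv]
    exact h

theorem rtU : RtU Z V := by
  intro i
  refine ⟨fun y hy v hv hvZ h => ?_, D.card i, fun hle => ?_⟩
  · rw [D.bf.qq_eq i] at hy
    exact D.free i y (D.Q_le_T i hy) v hv hvZ h
  · obtain ⟨m, hm, hm1⟩ := D.exists_ne i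
    have h1 : V i = Z i := le_antisymm hle (D.ZV i)
    have h2 := D.card i
    rw [h1] at h2
    have h3 : 0 < Nat.card (Z i) := Nat.card_pos
    have h4 : Nat.card (Z i) = 1 := by
      have h5 : Nat.card (Z i) * 1 = Nat.card (Z i) * Nat.card (Z i) := by rw [mul_one]; exact h2
      exact (Nat.eq_of_mul_eq_mul_left h3 h5).symm
    rw [Subgroup.card_eq_one] at h4
    exact D.ne i h4

theorem eabV (i : Fin 2) : IsElementaryAbelian 2 (V i) :=
  eab_iff.2 ⟨KL.TwoS.comm_of_sq (D.sqV i), D.sqV i⟩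

/-- **TEXT W2 (8)** over the frame -/
theorem false_of_pt (hML : ML.Final.MLK.{u, u}) (hK : ∀ i, IsKGroup (CC Z i))
    (hG : ∀ i, ∀ A : Subgroup G, A ≤ CC Z i → IsPGroup 2 A →
      (∀ a ∈ A, ∀ x ∈ WW V Z i ⊔ NN Z i, a * x * a⁻¹ * x⁻¹ ∈ NN Z i ⊔ Z i) → A ≤ centralizer (NN Z i : Set G))
    (hI : NN Z 0 ⊓ NN Z 1 ≤ Z 0 ⊔ Z 1)
    (hPC : ∀ i, WW V Z i ⊔ NN Z i ≤ centralizer (NN Z (i + 1) : Set G)) : False := by
  refine OM.PT.false_of_pc D.bf.pp D.tr D.bf.ti D.pts D.eabV D.rtU D.bf.xw_eab D.bf.xw_le (D.bf.nop hML hK)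
    (D.bf.thmC2 hG) ?_ D.bf.fus2 fun i => ?_
  · rw [D.bf.nn_eq, D.bf.nn_eq]
    exact hI
  · rw [D.bf.xw_eq, D.bf.nn_eq]
    exact hPC i

end NF

end Cfsg.Agent.Omega.KL.TwoZ
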