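import Cfsg.Agent.Omega.KL.TwoZ.PTN
import Cfsg.Agent.Omega.KL.TwoZ.NFNo
import Cfsg.Agent.Omega.OM.PT.PTW

/-!
# `NF` gives the points-level frame `PTW` (TEXT W2, no field automorphisms)

* `NF.exists_torP` : the torus of a `T`-minimal `R` as elements of odd order, in coordinates;
* `NF.torZP`, `NF.torUP`; `NF.trU`, `NF.htra`;
* `NF.ptw` : **`PTW Z V T`** from (G1), (4) and `4 ≤ |Z 0|` or `4 ≤ |Z 1|`.
-/

set_option autoImplicit false
set_option linter.unusedSectionVars false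

namespace Cfsg.Agent.Omega.KL.TwoZ

open Subgroup Cfsg Cfsg.Agent.Omega.MinPar
open Cfsg.Agent.ZN (o2 zc)
open Cfsg.Agent.Omega.NoFF.Basic (conj_conj mem_conj conj_le_iff comm_symm comm_mono Z_le_V V_le conj_le_centralizer)
open Cfsg.Agent.Omega.NOThreeL.Pair (conj_eq_of_mem)
open Cfsg.Agent.Omega.NO3S.EThree.ExactA (eab_iff)
open Cfsg.Agent.MinSimple.MinParabolic (IsMinPar)
open Cfsg.Agent.MinSimple.VModule (mem_zc)
open Cfsg.Agent.Omega.TC.LemZ (le_norm_of)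
open Burn
open scoped Pointwise

universe u

/-- the elements `≠ 0` of a finite field of characteristic 2 have odd order -/
theorem Burn.odd_order {F : Type} [Field F] [Finite F] (h2 : (2 : F) = 0) (a : Fˣ) : Odd (orderOf a) := by
  by_contra h
  rw [Nat.not_odd_iff_even] at h
  obtain ⟨l, hl⟩ := h
  have hadd : ∀ x : F, x + x = 0 := fun x => by rw [← two_mul, h2, zero_mul]
  have h1 : a ^ l * a ^ l = 1 := by rw [← pow_add, ← hl, pow_orderOf_eq_one]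
  have h3 : ((a : F) ^ l) * ((a : F) ^ l) = 1 := by
    have := congrArg (Units.val) h1
    simpa using this
  have h4 : ((a : F) ^ l - 1) * ((a : F) ^ l - 1) = 0 := by
    have e : ((a : F) ^ l - 1) * ((a : F) ^ l - 1) =
        (a : F) ^ l * (a : F) ^ l - ((a : F) ^ l + (a : F) ^ l) + 1 := by ring
    rw [e, h3, hadd, sub_zero]
    exact hadd 1
  have h5 : (a : F) ^ l = 1 := sub_eq_zero.1 (mul_self_eq_zero.1 h4)
  have h6 : a ^ l = 1 := Units.ext (by simpa using h5)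
  have h7 := Nat.le_of_dvd (Nat.pos_of_ne_zero fun h0 => by
    have := orderOf_pos a
    omega) (orderOf_dvd_of_pow_eq_one h6)
  have h8 := orderOf_pos a
  omega

variable {G : Type u} [Group G]

namespace NF

variable [Finite G] {T : Subgroup G} {V Z : Fin 2 → Subgroup G} (D : NF T V Z)

include D

/-- the torus in coordinates, by elements of odd order -/
theorem exists_torP {i : Fin 2} {F : Type} [Field F] [Finite F] {e : (Fin 2 → F) → G} (hN : NatSL F e (V i) (Z i))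
    {R : Subgroup G} (hA : ActSL F e R) (a : Fˣ) :
    ∃ h ∈ R, Odd (orderOf h) ∧ ∀ v, h * e v * h⁻¹ = e ![(a : F) * v 0, (a : F)⁻¹ * v 1] := by
  obtain ⟨r, hr, hrM⟩ := hA.2 (tor (a : F) a.ne_zero)
  simp only [tor_mulVec] at hrM
  have hpow : ∀ n : ℕ, ∀ v, r ^ n * e v * (r ^ n)⁻¹ = e ![(a : F) ^ n * v 0, ((a : F) ^ n)⁻¹ * v 1] := by
    intro n
    induction n with
    | zero =>
      intro v
      simp only [pow_zero, one_mul, inv_one, mul_one]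
      congr 1
      ext j
      fin_cases j <;> rfl
    | succ n ih =>
      intro v
      have e1 : r ^ (n + 1) * e v * (r ^ (n + 1))⁻¹ = r * (r ^ n * e v * (r ^ n)⁻¹) * r⁻¹ := by
        rw [pow_succ']; group
      rw [e1, ih, hrM]
      congr 1
      ext j
      fin_cases j
      · simp [pow_succ']; ring
      · simp [pow_succ']; ring
  obtain ⟨k, m, hm, hkm⟩ := Nat.exists_eq_two_pow_mul_odd (n := orderOf r) (orderOf_pos r).ne'
  have hcop : Nat.Coprime (2 ^ k) (orderOf a) :=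
    Nat.Coprime.pow_left k (Nat.coprime_two_left.2 (Burn.odd_order (hN.two_eq (D.sqV i)) a))
  obtain ⟨n, hn1, hn2⟩ := Nat.chineseRemainder hcop 0 1
  refine ⟨r ^ n, pow_mem hr n, ?_, fun v => ?_⟩
  · obtain ⟨l, rfl⟩ := (Nat.modEq_zero_iff_dvd).1 hn1
    refine Odd.of_dvd_nat hm (orderOf_dvd_of_pow_eq_one ?_)
    rw [← pow_mul, mul_comm (2 ^ k) l, mul_assoc, ← hkm, mul_comm, pow_mul, pow_orderOf_eq_one, one_pow]
  · have h1 : a ^ n = a := by
      conv_rhs => rw [← pow_one a]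
      exact pow_eq_pow_iff_modEq.2 hn2
    have h2 : (a : F) ^ n = a := by
      have := congrArg Units.val h1
      simpa using this
    rw [hpow, h2]

/-- the torus of `L_i` -/
theorem exists_torus (i : Fin 2) : ∃ (F : Type) (_ : Field F) (_ : Finite F) (e : (Fin 2 → F) → G),
    NatSL F e (V i) (Z i) ∧ ∀ a : Fˣ, ∃ h : G, h ∈ centralizer (V (i + 1) : Set G) ∧ MulAut.conj h • Z i = Z i ∧
      MulAut.conj h • V i = V i ∧ ∀ v, h * e v * h⁻¹ = e ![(a : F) * v 0, (a : F)⁻¹ * v 1] := by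
  obtain ⟨F, iF, iF', e, hN, hR⟩ := D.nat i
  obtain ⟨j, hij, R, h1, h2, h3⟩ := D.exists_par i
  have hj : j = i + 1 := (OM.PT.eq_or i j).resolve_left hij
  subst hj
  refine ⟨F, iF, iF', e, hN, fun a => ?_⟩
  obtain ⟨h, hh, ho, hv⟩ := D.exists_torP hN (hR _ hij R h1 h2 h3) a
  have key : ∀ a : Fˣ, ∀ h : G, (∀ v, h * e v * h⁻¹ = e ![(a : F) * v 0, (a : F)⁻¹ * v 1]) →
      ∀ z ∈ Z i, h * z * h⁻¹ ∈ Z i := by
    intro a h hv z hz
    obtain ⟨c, rfl⟩ := (hN.pt z).1 hz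
    rw [hv]
    rw [hN.mem_Z]
    simp
  refine ⟨h, D.odd i (i + 1) hij.symm R h1 h2 h3 h hh ho, ?_, conj_eq_of_mem (D.uni i (i + 1) hij.symm R h1 h2 h3 i hh), hv⟩
  -- `h` normalises `Z i`
  apply le_antisymm
  · rintro _ ⟨z, hz, rfl⟩
    exact key a h hv z hz
  · intro z hz
    obtain ⟨c, rfl⟩ := (hN.pt z).1 hz
    refine ⟨e ![(a : F)⁻¹ * c, 0], hN.mem_Z.2 rfl, ?_⟩
    change h * e ![(a : F)⁻¹ * c, 0] * h⁻¹ = _
    rw [hv]
    congr 1
    ext j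
    fin_cases j
    · simp
    · simp

theorem torZP (i : Fin 2) : ∀ x ∈ Z i, x ≠ 1 → ∀ y ∈ Z i, y ≠ 1 → ∃ h : G, h ∈ centralizer (V (i + 1) : Set G) ∧
    MulAut.conj h • Z i = Z i ∧ MulAut.conj h • V i = V i ∧ h * x * h⁻¹ = y := by
  obtain ⟨F, iF, iF', e, hN, hT⟩ := D.exists_torus i
  intro x hx hx1 y hy hy1
  obtain ⟨b, rfl⟩ := (hN.pt x).1 hx
  obtain ⟨c, rfl⟩ := (hN.pt y).1 hy
  have hb : b ≠ 0 := by
    rintro rfl
    apply hx1
    rw [hN.eq_one]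
    ext j
    fin_cases j <;> rfl
  have hc : c ≠ 0 := by
    rintro rfl
    apply hy1
    rw [hN.eq_one]
    ext j
    fin_cases j <;> rfl
  obtain ⟨h, h1, h2, h3, h4⟩ := hT (Units.mk0 (c / b) (div_ne_zero hc hb))
  refine ⟨h, h1, h2, h3, ?_⟩
  rw [h4]
  congr 1
  ext j
  fin_cases j
  · simp [hb]
  · simp

theorem torUP (i : Fin 2) : ∀ x ∈ V i, x ∉ Z i → ∀ y ∈ V i, y ∉ Z i → ∃ h : G, h ∈ centralizer (V (i + 1) : Set G) ∧
    MulAut.conj h • Z i = Z i ∧ MulAut.conj h • V i = V i ∧ y⁻¹ * (h * x * h⁻¹) ∈ Z i := by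
  obtain ⟨F, iF, iF', e, hN, hT⟩ := D.exists_torus i
  intro x hx hx1 y hy hy1
  obtain ⟨v, rfl⟩ := (hN.mem x).1 hx
  obtain ⟨w, rfl⟩ := (hN.mem y).1 hy
  rw [hN.mem_Z] at hx1 hy1
  obtain ⟨h, h1, h2, h3, h4⟩ := hT (Units.mk0 (v 1 / w 1) (div_ne_zero hx1 hy1))
  refine ⟨h, h1, h2, h3, ?_⟩
  rw [h4, ← hN.map_neg, ← hN.add, hN.mem_Z]
  simp [hx1]

/-- `v ∈ V i#` lies in a point `Z i ^ l`, `l` fixes `Z (i+1)`, `V i`, `V (i+1)` -/
theorem htra (i : Fin 2) : ∀ x ∈ V i, x ≠ 1 → ∃ l : G, x ∈ MulAut.conj l • Z i ∧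
    MulAut.conj l • Z (i + 1) = Z (i + 1) ∧ MulAut.conj l • V i = V i ∧ MulAut.conj l • V (i + 1) = V (i + 1) := by
  intro x hx hx1
  obtain ⟨j, hij, R, hR, hRj, hRi⟩ := D.exists_par i
  obtain ⟨r, hr, h⟩ := D.tra hij hR hRj hRi x hx hx1
  have hj : j = i + 1 := (OM.PT.eq_or i j).resolve_left hij
  subst hj
  have hn := D.uni i (i + 1) hij.symm R hR hRj hRi
  refine ⟨r⁻¹, ?_, conj_eq_of_mem (centralizer_le_normalizer _ (inv_mem (hRj hr))), conj_eq_of_mem (inv_mem (hn i hr)),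
    conj_eq_of_mem (inv_mem (hn (i + 1) hr))⟩
  rw [mem_conj, inv_inv]
  exact h

/-- a point of type `i` in `V i` -/
theorem trU (i : Fin 2) (k : G) (hk : MulAut.conj k • Z i ≤ V i) :
    ∃ l : G, MulAut.conj l • Z i = MulAut.conj k • Z i ∧ MulAut.conj l • Z (i + 1) = Z (i + 1) ∧
      MulAut.conj l • V i = V i ∧ MulAut.conj l • V (i + 1) = V (i + 1) := by
  obtain ⟨m, hm, hm1⟩ := D.exists_ne i
  have h1 : k * m * k⁻¹ ∈ V i := hk (mem_cj hm)
  have h2 : k * m * k⁻¹ ≠ 1 := by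
    intro e
    apply hm1
    calc m = k⁻¹ * (k * m * k⁻¹) * k := by group
      _ = 1 := by rw [e]; group
  obtain ⟨l, hxl, h3, h4, h5⟩ := D.htra i _ h1 h2
  refine ⟨l, ?_, h3, h4, h5⟩
  by_contra hne
  have h6 := D.bf.ti _ _ ((OM.PT.isPt Z i).conj l) ((OM.PT.isPt Z i).conj k) hne
  have h7 : k * m * k⁻¹ ∈ MulAut.conj l • Z i ⊓ MulAut.conj k • Z i := ⟨hxl, mem_cj hm⟩
  rw [h6, mem_bot] at h7
  exact h2 h7

/-- an element of `N_i` fixed by `T` is in `Z 0 Z 1` -/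
theorem tfix {i : Fin 2} {n : G} (hn : n ∈ NN Z i) (h : ∀ t ∈ T, t * n * t⁻¹ = n) : n ∈ Z 0 ⊔ Z 1 := by
  rw [← D.zT]
  refine mem_zc.2 ⟨D.Q_le_T i (D.N_le_Q i hn), fun t ht => ?_, D.N_sq i n hn⟩
  have h1 := h t ht
  calc t * n = (t * n * t⁻¹) * t := by group
    _ = n * t := by rw [h1]

/-- **the points-level frame** -/
theorem ptw (hML : ML.Final.MLK.{u, u}) (hK : ∀ i, IsKGroup (CC Z i))
    (hG : ∀ i, ∀ A : Subgroup G, A ≤ CC Z i → IsPGroup 2 A →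
      (∀ a ∈ A, ∀ x ∈ WW V Z i ⊔ NN Z i, a * x * a⁻¹ * x⁻¹ ∈ NN Z i ⊔ Z i) → A ≤ centralizer (NN Z i : Set G))
    (hI : NN Z 0 ⊓ NN Z 1 ≤ Z 0 ⊔ Z 1) : OM.PT.PTW Z V T where
  toPP := D.bf.pp
  ti := D.bf.ti
  fus2 := D.bf.fus2
  sqU := D.eabV
  tr := D.trU
  pts := D.pts
  rt := D.rtU
  ab := D.bf.xw_eab
  le := D.bf.xw_le
  cen := fun i => by
    rw [D.bf.qq_eq i]
    exact (D.Q_le_T i).trans (D.T_le_C i)
  no := D.bf.nop hML hK
  g1 := D.bf.thmC2 hG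
  core := D.core_of D.bf.nn_eq
  inter := by
    rw [D.bf.nn_eq, D.bf.nn_eq]
    exact hI
  B2 := D.sylG.2.1
  BH := fun i => (D.T_le_C i).trans (centralizer_le_normalizer _)
  BU := fun i x hx b hb => D.com i b hb x hx
  Bfix := fun i n hn h => by
    rw [D.bf.nn_eq] at hn
    exact D.tfix hn h
  torZ := D.torZP
  torU := D.torUP

end NF

end Cfsg.Agent.Omega.KL.TwoZ
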