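import Cfsg.Agent.Omega.KL.TwoZ.NF
import Cfsg.Agent.Omega.KL.TwoZ.Ex
import Cfsg.Agent.Omega.KL.ThmIqG

/-!
# THEOREM I(q) over the frame `NF` (helper918 #24006 (4)): `N_0 ∩ N_1 ≤ Z_0 Z_1`

* `NF.exists_gen` : a maximal `A ≤ O` which moves `V i` induces all of `T` on `V i`;
* `NF.gdat` : the data `ThmIq.GDat` of one side;
* **`NF.inter_le`**.
-/

set_option autoImplicit false
set_option linter.unusedSectionVars false

namespace Cfsg.Agent.Omega.KL.TwoZ

open Subgroup Cfsg Cfsg.Agent.Omega.MinPar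
open Cfsg.Agent.ZN (o2 zc)
open Cfsg.Agent.Omega.OM.KTwo (ne_add_one eq_add_one add_one_add_one le_normalizer_V le_V)
open Cfsg.Agent.MinSimple.MinParabolic (IsMinPar)
open Cfsg.Agent.Omega.NoFF.Basic (conj_conj mem_conj conj_le_iff comm_symm)
open Cfsg.Agent.ZN.ChoiceSit (Syl syl_not_dvd)
open Cfsg.Agent.MinSimple.VModule (mem_zc zc_le o2_isPGroup o2_le le_normalizer_o2)
open Cfsg.Agent.Omega.TC.LemZ (card_eq)
open Cfsg.Agent.Omega.KL.TwoS (Mx comm_of_sq)
open scoped Pointwise Matrix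

universe u

variable {G : Type u} [Group G]

namespace NF

variable [Finite G] {T : Subgroup G} {V Z : Fin 2 → Subgroup G} (D : NF T V Z)

include D

/-- a maximal `A ≤ O` which moves `V i` : `C_{V i}(A) = Z i` and `A` induces all of `T` on `V i` -/
theorem exists_gen {i : Fin 2} {A : Subgroup G} (hA : Mx (o2 (centralizer (zc T : Set G))) A)
    (hm : ¬ A ≤ centralizer (V i : Set G)) :
    (∀ t ∈ T, ∃ a ∈ A, a⁻¹ * t ∈ centralizer (V i : Set G)) ∧
      Nat.card A = Nat.card (Z i) * Nat.card (A ⊓ centralizer (V i : Set G) : Subgroup G) := by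
  obtain ⟨F, iF, iF', e, hN, h1, -, -⟩ := D.exists_crd i
  have hAT : A ≤ T := hA.le.trans D.O_le_T
  have hVO : V i ≤ o2 (centralizer (zc T : Set G)) := (D.VQ i).trans (D.Q_le_O i)
  choose β hβ using fun t : A => h1 t (hAT t.2)
  -- `C_{V i}(A) = Z i`
  have hfix : V i ⊓ centralizer (A : Set G) = Z i := by
    apply le_antisymm
    · rintro x ⟨hx, hxA⟩
      by_contra hxZ
      exact hm fun a ha => D.free i a (hAT ha) x hx hxZ (mem_centralizer_iff.1 hxA a ha)
    · exact le_inf (D.ZV i) ((D.Z_cent_T i).trans (centralizer_le hAT))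
  have hrel : (centralizer (A : Set G)).relIndex (V i) = Nat.card (Z i) := by
    have c1 := card_eq (V i) (centralizer (A : Set G))
    rw [hfix, D.card i] at c1
    exact (Nat.eq_of_mul_eq_mul_left Nat.card_pos c1).symm
  have hge : Nat.card F ≤ (centralizer (V i : Set G)).relIndex A := by
    rw [← hN.card_Z, ← hrel]
    exact hA.thom hVO (D.sqV i)
  -- `β` separates the cosets
  have key : ∀ a a' : A, β a = β a' → (a : G)⁻¹ * a' ∈ centralizer (V i : Set G) := by
    intro a a' h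
    refine mem_centralizer_iff.2 fun x hx => ?_
    obtain ⟨v, rfl⟩ := (hN.mem x).1 hx
    have h2 := hβ a v
    have h3 := hβ a' v
    rw [← h, ← h2] at h3
    calc e v * ((a : G)⁻¹ * a') = (a : G)⁻¹ * ((a : G) * e v * (a : G)⁻¹) * a' := by group
      _ = (a : G)⁻¹ * ((a' : G) * e v * (a' : G)⁻¹) * a' := by rw [h3]
      _ = _ := by group
  set C : Subgroup A := (centralizer (V i : Set G)).subgroupOf A with hC
  let g : A ⧸ C → F := fun q => β q.out
  have hg : Function.Injective g := by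
    intro q q' h
    have h2 := key q.out q'.out h
    rw [← Quotient.out_eq' q, ← Quotient.out_eq' q']
    exact QuotientGroup.eq.2 (mem_subgroupOf.2 h2)
  have hcard : Nat.card (A ⧸ C) = (centralizer (V i : Set G)).relIndex A := rfl
  have hle : Nat.card (A ⧸ C) ≤ Nat.card F := Nat.card_le_card_of_injective g hg
  have hbij : Function.Bijective g := hg.bijective_of_nat_card_le (by rw [hcard]; exact hge)
  have heq : (centralizer (V i : Set G)).relIndex A = Nat.card (Z i) := by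
    rw [hN.card_Z]
    exact le_antisymm (hcard ▸ hle) hge
  refine ⟨fun t ht => ?_, ?_⟩
  · obtain ⟨b, hb⟩ := h1 t ht
    obtain ⟨q, hq⟩ := hbij.2 b
    refine ⟨(q.out : A), (q.out : A).2, mem_centralizer_iff.2 fun x hx => ?_⟩
    obtain ⟨v, rfl⟩ := (hN.mem x).1 hx
    have h2 := hβ q.out v
    have h3 := hb v
    have h4 : β q.out = b := hq
    rw [h4, ← h3] at h2
    calc e v * (((q.out : A) : G)⁻¹ * t)
        = ((q.out : A) : G)⁻¹ * (((q.out : A) : G) * e v * ((q.out : A) : G)⁻¹) * t := by group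
      _ = ((q.out : A) : G)⁻¹ * (t * e v * t⁻¹) * t := by rw [h2]
      _ = _ := by group
  · have c1 := card_eq A (centralizer (V i : Set G))
    rw [heq, mul_comm] at c1
    exact c1

/-- an element of `R` which maps some `z ∈ Z i#` into `Z i` normalises `Z i` -/
theorem norm_of {i j : Fin 2} (hij : j ≠ i) {R : Subgroup G} (hR : IsMinPar T R) (hRj : R ≤ centralizer (Z j : Set G))
    (hRi : ¬ R ≤ centralizer (Z i : Set G)) {g z : G} (hg : g ∈ R) (hz : z ∈ Z i) (hz1 : z ≠ 1)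
    (h : g * z * g⁻¹ ∈ Z i) : g ∈ normalizer (Z i : Set G) := by
  obtain ⟨F, iF, iF', e, hN, hA⟩ := D.nat i
  obtain ⟨M, hM⟩ := (hA j hij R hR hRj hRi).1 g hg
  obtain ⟨a, rfl⟩ := (hN.pt z).1 hz
  rw [hM, hN.mem_Z, mulVec_two] at h
  have ha : a ≠ 0 := by
    rintro rfl
    apply hz1
    rw [hN.eq_one]
    ext k
    fin_cases k <;> rfl
  have h10 : M.1 1 0 = 0 := by
    have h2 : M.1 1 0 * a = 0 := by simpa using h
    exact (mul_eq_zero.1 h2).resolve_right ha
  have h3 : MulAut.conj g • Z i ≤ Z i := by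
    intro x hx
    rw [mem_conj] at hx
    obtain ⟨b, hb⟩ := (hN.pt _).1 hx
    have h4 := hM ![b, 0]
    rw [hb] at h4
    have e1 : g * (g⁻¹ * x * g) * g⁻¹ = x := by group
    rw [e1] at h4
    rw [h4, hN.mem_Z, mulVec_two]
    simp [h10]
  have h5 : MulAut.conj g • Z i = Z i :=
    Subgroup.eq_of_le_of_card_ge h3 (Cfsg.Agent.Omega.NoFF.ThmJFam.card_conj g (Z i)).ge
  rw [mem_normalizer_iff]
  intro x
  have e1 : g⁻¹ * (g * x * g⁻¹) * g = x := by group
  constructor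
  · intro hx
    rw [← h5, mem_conj, e1]
    exact hx
  · intro hx
    rw [← h5, mem_conj, e1] at hx
    exact hx

/-- **the data of THEOREM I(q)** on one side -/
theorem gdat (hML : ML.Final.MLK.{u, u}) {i : Fin 2} (hK : IsKGroup (CC Z i))
    (hk3 : ∀ B : Subgroup G, B ≤ o2 (centralizer (zc T : Set G)) → (∀ b ∈ B, b ^ 2 = 1) →
      (centralizer (B : Set G)).relIndex (NN Z i) ≤ (centralizer (NN Z i : Set G)).relIndex B →
      ∀ n ∈ NN Z i, (∀ b ∈ B, b * n * b⁻¹ * n⁻¹ ∈ Z i) → ∀ b ∈ B, b * n = n * b)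
    {A : Subgroup G} (hA : Mx (o2 (centralizer (zc T : Set G))) A) (hm : ¬ A ≤ centralizer (V (i + 1) : Set G))
    {R : Subgroup G} (hR : IsMinPar T R) (hRC : R ≤ CC Z i) (hRm : ¬ R ≤ CC Z (i + 1)) :
    ThmIq.GDat R T A R (NN Z i) (V (i + 1)) (Z i) (Z (i + 1)) := by
  have hij := ne_add_one i
  have hAT : A ≤ T := hA.le.trans D.O_le_T
  obtain ⟨hgen, hcard⟩ := D.exists_gen hA hm
  have hmv : ¬ R ≤ normalizer (Z (i + 1) : Set G) := by
    intro h
    obtain ⟨r, hr, -, h2⟩ := D.exists_mv hij hR hRC hRm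
    rw [NOThreeL.Pair.conj_eq_of_mem (h hr), inf_idem] at h2
    exact D.ne (i + 1) h2
  have hRV : R ≤ normalizer (V (i + 1) : Set G) := D.uni (i + 1) i hij.symm R hR hRC hRm (i + 1)
  have hsyl : Syl T R := D.sylH hR.le
  refine
    { sqN := D.N_sq i
      sqZ := D.Z_sq i
      NZ := D.N_le_C i i
      PN := hRC.trans (le_normalizer_V _ _)
      PV := hRV
      PZ := hRC.trans (centralizer_le_normalizer _)
      VN := D.V_le_N i
      SP := hR.le
      two := D.T_isPGroup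
      syl := syl_not_dvd hsyl
      fix := hAT.trans (D.T_le_C i)
      disj := ?_
      le := D.ZV (i + 1)
      ti := fun g hg hgn z hz hgz => by
        by_contra hz1
        exact hgn (D.norm_of hij hR hRC hRm hg hz hz1 hgz)
      mv := hmv
      AS := hAT
      AE := hAT.trans hR.le
      EP := le_rfl
      nE := le_normalizer
      comm := fun a ha v hv => D.com (i + 1) a (hAT ha) v hv
      cent := hAT.trans (D.T_le_C (i + 1))
      gen := fun s hs _ => hgen s hs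
      nrm := ?_
      reg := fun a ha ham v hv hav => by
        by_contra hvZ
        exact ham (D.free (i + 1) a (hAT ha) v hv hvZ hav)
      ab := comm_of_sq hA.sq
      cardV := D.card (i + 1)
      cardA := hcard
      no := fun C hC => D.no_N hML hK (hC.trans hA.le) fun a ha => hA.sq a (hC ha)
      ex := (D.mx hML hK hA).1
      k3 := fun C hC he => hk3 C (hC.trans hA.le) (fun a ha => hA.sq a (hC ha)) he.ge }
  · rw [eq_bot_iff]
    rintro x ⟨hx, hx'⟩
    rw [mem_bot]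
    refine D.dis (i + 1) x hx ?_
    rw [add_one_add_one]
    exact hx'
  · -- `C_T(V) = O₂(R) ∩ C(V)`
    have hf : Fact (Nat.Prime 2) := ⟨Nat.prime_two⟩
    have hn : R ≤ normalizer ((R ⊓ centralizer (V (i + 1) : Set G) : Subgroup G) : Set G) :=
      ThmIq.le_norm_of_conj fun g hg x hx => ⟨R.mul_mem (R.mul_mem hg hx.1) (R.inv_mem hg),
        (mem_normalizer_iff.1 (Cfsg.Agent.Omega.TC.LemZ.norm_cent hRV hg) x).1 hx.2⟩
    rcases hR.sup_eq_or_inf_le D.T_isPGroup (syl_not_dvd hsyl) inf_le_left hn with h | h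
    · exfalso
      apply hRm
      rw [← h]
      exact sup_le (inf_le_right.trans (centralizer_le (D.ZV (i + 1)))) (D.T_le_C (i + 1))
    · have h2 : T ⊓ centralizer (V (i + 1) : Set G) = o2 R ⊓ centralizer (V (i + 1) : Set G) := by
        apply le_antisymm
        · exact le_inf ((le_inf inf_le_left (le_inf (inf_le_left.trans hR.le) inf_le_right)).trans h) inf_le_right
        · exact inf_le_inf_right _ (Cfsg.Agent.ZN.ChoiceSit.o2_le_syl hsyl)
      rw [h2]
      exact ThmIq.le_norm_of_conj fun g hg x hx =>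
        ⟨(mem_normalizer_iff.1 (le_normalizer_o2 _ hg) x).1 hx.1,
          (mem_normalizer_iff.1 (Cfsg.Agent.Omega.TC.LemZ.norm_cent hRV hg) x).1 hx.2⟩

/-- **THEOREM I(q)** (helper918 #24006 (4)): `N_0 ∩ N_1 ≤ Z_0 Z_1` -/
theorem inter_le (hML : ML.Final.MLK.{u, u}) (hK : ∀ i, IsKGroup (CC Z i))
    (hg3 : ∀ i, ∃ A : Subgroup G, Mx (o2 (centralizer (zc T : Set G))) A ∧ A ≤ QQ Z i ∧
      ¬ A ≤ centralizer (V i : Set G))
    (hk3 : ∀ (i : Fin 2) (B : Subgroup G), B ≤ o2 (centralizer (zc T : Set G)) → (∀ b ∈ B, b ^ 2 = 1) →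
      (centralizer (B : Set G)).relIndex (NN Z i) ≤ (centralizer (NN Z i : Set G)).relIndex B →
      ∀ n ∈ NN Z i, (∀ b ∈ B, b * n * b⁻¹ * n⁻¹ ∈ Z i) → ∀ b ∈ B, b * n = n * b) :
    NN Z 0 ⊓ NN Z 1 ≤ Z 0 ⊔ Z 1 := by
  have h10 : (1 : Fin 2) + 1 = 0 := rfl
  have h01 : (0 : Fin 2) + 1 = 1 := rfl
  obtain ⟨A, hA, hAQ, hAm⟩ := hg3 1
  obtain ⟨A', hA', hAQ', hAm'⟩ := hg3 0
  obtain ⟨R, hR, hRC, hRm⟩ := D.par 0
  obtain ⟨R', hR', hRC', hRm'⟩ := D.par 1
  have E := D.gdat hML (hK 0) (hk3 0) hA (by rw [h01]; exact hAm) hR hRC hRm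
  have E' := D.gdat hML (hK 1) (hk3 1) hA' (by rw [h10]; exact hAm') hR' hRC' hRm'
  rw [h01] at E
  rw [h10] at E'
  refine ThmIq.inter_le E E' (hAQ.trans (D.Q_le_cent_N 1)) (hAQ'.trans (D.Q_le_cent_N 0))
    ((D.T_le_C 0).trans (centralizer_le_normalizer _)) ((D.T_le_C 1).trans (centralizer_le_normalizer _)) ?_
  intro x hx hxT
  rw [← D.zT, mem_zc]
  have h1 : (NN Z 0 ⊓ NN Z 1) ⊔ (Z 0 ⊔ Z 1) ≤ NN Z 0 ⊔ Z 0 :=
    sup_le (inf_le_left.trans le_sup_left) (sup_le le_sup_right ((le_V (Z (0 + 1)) (CC Z 0)).trans le_sup_left))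
  have h2 : NN Z 0 ⊔ Z 0 ≤ T := sup_le ((D.N_le_Q 0).trans (D.Q_le_T 0)) (D.Z_le_T 0)
  exact ⟨h2 (h1 hx), fun b hb => mem_centralizer_iff.1 hxT b hb,
    ThmIq.sq_sup_of (D.N_le_C 0 0) (D.N_sq 0) (D.Z_sq 0) x (h1 hx)⟩

end NF

end Cfsg.Agent.Omega.KL.TwoZ
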